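import Cfsg.Agent.Mrg.Omega.NO3S.CaseLW.KSharp_m3
import Cfsg.Agent.Mrg.Omega.NO3S.CaseLW.LamQ.Def_m3
import Cfsg.Agent.Mrg.Omega.OM.SwapT.TI_m3
import Cfsg.Agent.Mrg.Omega.EDel.BxW.Base_m3
import Cfsg.Agent.Mrg.Omega.OM.Swap.Pair_m3
import Cfsg.Agent.Mrg.Omega.LFive.Frame_m3
import Cfsg.Agent.Mrg.Omega.NOThreeL.RRed.BQ.VX_m3
import Cfsg.Agent.Mrg.Omega.NO3S.CaseLW.QWex_m3
import Cfsg.Agent.Mrg.Omega.CaseLQ.YBase_m3
import Cfsg.Agent.Mrg.Omega.CaseLQ.KSh_m3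
import Cfsg.Agent.Mrg.Omega.NO3S.Act.PasCore_mg_m3
import Cfsg.Agent.Mrg.Omega.NO3S.SFive.Chamber_m3
import Cfsg.Agent.Mrg.Omega.FrameI
import Cfsg.Agent.Mrg.Omega.NO3S.CaseLW.LamQ.Sym_m3
import Cfsg.Agent.Mrg.Omega.NO3S.FullQ.GEnd_m3
import Cfsg.Agent.Mrg.Omega.IId.LFour.CBase_m3
import Cfsg.Agent.Mrg.Omega.HTwo.EightMain_m3
import Cfsg.Agent.Mrg.Omega.NOThreeL.RRed.BFr.Cut_m3
import Cfsg.Agent.Mrg.Omega.IId.SymWrD.Ht.LemJ_m3
import Cfsg.Agent.Mrg.Omega.BTwo.Split_m3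
import Cfsg.Agent.Mrg.Omega.HT.Main_m3
import Cfsg.Agent.Mrg.Omega.IId.SymWrD.Zero_m3
import Cfsg.Agent.Mrg.Omega.HTwo.TComp_m3
import Cfsg.Agent.Mrg.Omega.IId.ExcFree
import Cfsg.Agent.MinSimple.Choice97
import Cfsg.Agent.Mrg.Omega.SQT.Rank
import Cfsg.Agent.Mrg.Omega.TC.FrmRep_m3
import Cfsg.Agent.Mrg.Omega.IId.Cv.MixEnd_m3
import Cfsg.Agent.Mrg.Omega.IId.ThmCD.Cor
import Cfsg.Agent.Mrg.Omega.NO3S.EThree.Row7_mg_m3
import Cfsg.Agent.Mrg.Omega.IId.SymWrD.FOneAll_m3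
import Cfsg.Agent.Mrg.Omega.IId.Cv.MixAny
import Cfsg.Agent.Mrg.Omega.NOThreeL.RTwo_m3
import Cfsg.Agent.Mrg.Omega.IId.SymWrD.Hw.Fw
import Cfsg.Agent.Mrg.Omega.IId.SymWrD.Ht.ZVD_m3
import Cfsg.Agent.Mrg.Omega.OM.PG.NoRad_m3
import Cfsg.Agent.FastGrp
import Cfsg.Agent.Prune
set_option linter.all false

section
prune_inst 0x7ff4fef9afb9bddfffff7e7ffff7dffc39d0dfffefdff94bffe0ebffffbf23062bcdffa70de0d0ff4ed6e0bc10b87813f9ffcb3feb6bdc7ffffd5ff45ffbee1fb7efbd8c71d7bc341ffc6ffffbf07fce7f3fffffffffffffffffffffffffffbeffffffffffff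

-- part: Mrg/Omega/NOThreeL/QWR/Sw/Base
section
prune_inst 0x90002104402200000000000080003c42d2000102006b0001d1000004048e9d0300008f21f0800a1211202224003e800002440049001000002000820041180080042210420000b00001000040f802080c00000000000000000000000000041000000000000
set_option linter.all false
open scoped Cfsg.Agent.FastGrp

-- merged: Cfsg.Agent.Mrg.Omega.OM.SwapV.Base
section

/-!
# The `q`-free half of THEOREM SW / YQ over an abstract `V`: pairs and offender families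

* `CrB S K B V ZJ` : `LB S K B ZJ`, `B` weakly closed, `V ≤ B`, `N_G(B) ≤ N_G(V)`, `V ≤ O₂(C_G(Ω₁Z(S)))`, the no-FF field
  and the fixed point property of quiet minimal parabolics. No blocks, no `q`.
* `CrB.exists_pairH`, `exists_pair`, `exists_maxC` : pairs `(T, F)` (with `|C_ZJ(T)|` maximal); `comm_of_pair`; `V_le_o2`;
* `crB_lev`, `crB_neg` : the levels, and stage `-1`;
* `FmX`, `exists_fam_lev`, `exists_fam_neg` : the families of offenders.
-/

set_option autoImplicit false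
set_option linter.unusedSectionVars false

namespace Cfsg.Agent.Omega.OM.SwapV

open Subgroup Cfsg Cfsg.Agent.ZN.ChoiceBase Cfsg.Agent.ZN.ChoiceSit
open Cfsg.Agent.ZN (jj zj bau zc zl o2)
open Cfsg.Agent.MinSimple.MinParabolic (IsMinPar)
open Cfsg.Agent.MinSimple.VModule (oddGen oddGen_le)
open Cfsg.Agent.Omega.NO3S.Level (lev Lev lev_isLev BO nxt)
open Cfsg.Agent.Omega.OM.LevD (LB)
open Cfsg.Agent.Omega.OM.WeakCl (WC)
open Cfsg.Agent.Omega.OM.Lev.Uni (FrL Best)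
open Cfsg.Agent.Omega.OM.Swap.Fam (Fm BF fm_AA fm_best)
open Cfsg.Agent.Omega.OM.Swap (char2_cent)
open Cfsg.Agent.Omega.OM.SwapL (BL ZL lb wc norm_lev zc_elab)

universe u

variable {G : Type u} [Group G] [Finite G]

/-- The `q`-free ground frame. -/
structure CrB (S : Sylow 2 G) (K B V ZJ : Subgroup G) : Prop where
  lb : LB S K B ZJ
  wc : WC B
  zcS : zc (S : Subgroup G) ≤ ZJ
  VB : V ≤ B
  nV : ∀ g ∈ normalizer (B : Set G), cj g V = V
  char2 : IsCharacteristicTwoType G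
  low : V ≤ o2 (centralizer (zc (S : Subgroup G) : Set G))
  noff : ∀ T : Subgroup G, IsPGroup 2 T → B ≤ T → ∀ f : G, cj f V ≤ T → V ≤ cj f T →
    ∀ x ∈ V, ∀ y ∈ V, x * (f * y * f⁻¹) = f * y * f⁻¹ * x
  fixPt : ∀ T Y : Subgroup G, Quiet K B T Y → ZJ ⊓ zc (o2 Y) ≤ centralizer (oddGen Y : Set G)

namespace CrB

variable {S : Sylow 2 G} {K B V ZJ : Subgroup G}

theorem norm_le (h : CrB S K B V ZJ) : normalizer (B : Set G) ≤ normalizer (V : Set G) := fun g hg => by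
  rw [mem_normalizer_iff_cj]
  exact h.nV g hg

/-- `Ω₁Z(T) ≤ Z_J`-part: a 2-group over `B` lies in `S^g`, `g ∈ N_G(B)`, and `Ω₁Z(S)^g ≤ Ω₁Z(T)`. -/
theorem exists_cj (h : CrB S K B V ZJ) {T : Subgroup G} (hT : IsPGroup 2 T) (hB : B ≤ T) :
    ∃ g ∈ normalizer (B : Set G), T ≤ cj g (S : Subgroup G) ∧ cj g (zc (S : Subgroup G)) ≤ zc T := by
  obtain ⟨g, hg, hle⟩ := exists_cj_S h.wc h.lb.BS hT hB
  refine ⟨g, hg, hle, ?_⟩
  intro z hz
  have h6 := cj_mono g h.zcS hz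
  rw [cj_eq_of_mem_normalizer (h.lb.norm_B_le hg)] at h6
  have h4 : z ∈ T := hB (h.lb.ZB h6)
  rw [← NO3S.Level.zc_cj] at hz
  obtain ⟨h5, h6, h7⟩ := mem_zc.1 hz
  exact mem_zc.2 ⟨h4, h6, fun y hy => h7 y (hle hy)⟩

/-- `V ≤ O₂(Y)` if `Y` centralises `Ω₁(Z(T))`, `B ≤ T ≤ Y`. -/
theorem V_le_o2 (h : CrB S K B V ZJ) {T Y : Subgroup G} (hT : IsPGroup 2 T)
    (hB : B ≤ T) (hTY : T ≤ Y) (hY : Y ≤ centralizer (zc T : Set G)) : V ≤ o2 Y := by
  obtain ⟨g, hgN, -, h3⟩ := h.exists_cj hT hB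
  have h4 : Y ≤ centralizer (cj g (zc (S : Subgroup G)) : Set G) := hY.trans (centralizer_le h3)
  have h5 : V ≤ o2 (centralizer (cj g (zc (S : Subgroup G)) : Set G)) := by
    have h6 := cj_mono g h.low
    rw [h.nV g hgN, ← pCore_cj, cj_centralizer] at h6
    exact h6
  have h6 : V ≤ o2 (centralizer (cj g (zc (S : Subgroup G)) : Set G)) ⊓ Y :=
    le_inf h5 ((h.VB.trans hB).trans hTY)
  refine h6.trans (le_o2 ((isPGroup_o2 _).to_le inf_le_left) inf_le_right ?_)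
  intro y hy
  rw [mem_normalizer_iff_cj, cj_inf, cj_eq_of_mem_normalizer (le_normalizer_o2 _ (h4 hy)),
    cj_eq_of_mem_normalizer (le_normalizer hy)]

/-- `LevB.genM` with the weak fixed point property. -/
theorem genM (h : CrB S K B V ZJ) {M T H : Subgroup G} (hD : centralizer (ZJ : Set G) ≤ M)
    (hN : normalizer (B : Set G) ≤ M) (hT : Syl T H) (hBT : B ≤ T)
    (hc : H ⊓ centralizer (o2 H : Set G) ≤ o2 H)
    (hblk : ∀ Y : Subgroup G, IsMinPar T Y → Y ≤ H → ¬ K ≤ o2 Y → ¬ Y ≤ centralizer (zc T : Set G) → Y ≤ M) :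
    H ≤ (H ⊓ M) ⊔ ⨆ Y : {Y : Subgroup G // IsMinPar T Y ∧ Y ≤ H ∧ ¬ K ≤ o2 Y ∧
      Y ≤ centralizer (zc T : Set G) ∧ ¬ o2 Y ≤ B}, (Y : Subgroup G) := by
  have hB := h.lb
  have hZM : normalizer (ZJ : Set G) ≤ M := hB.norm_zj_le.trans (sup_le hD hN)
  have hTN : normalizer (T : Set G) ≤ M := (hB.nrm T hT.2.1 (hB.KB.trans hBT)).trans hZM
  have hTM : T ≤ M := le_normalizer.trans hTN
  refine MinSimple.MinParabolic.le_of_forall hT.1 ?_ fun Y hY hYH => ?_
  · exact le_sup_of_le_left (inf_le_inf_left _ hTN)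
  have hcase : Y ≤ M → Y ≤ (H ⊓ M) ⊔ ⨆ Y : {Y : Subgroup G // IsMinPar T Y ∧ Y ≤ H ∧ ¬ K ≤ o2 Y ∧
      Y ≤ centralizer (zc T : Set G) ∧ ¬ o2 Y ≤ B}, (Y : Subgroup G) :=
    fun h => le_sup_of_le_left (le_inf hYH h)
  have hTY : Syl T Y := ⟨hY.le, hT.2.1, fun Q hQ h2 hTQ => hT.2.2 Q (hQ.trans hYH) h2 hTQ⟩
  by_cases h1 : K ≤ o2 Y
  · exact hcase ((le_normalizer_o2 Y).trans ((hB.nrm _ (isPGroup_o2 Y) h1).trans hZM))
  by_cases h2 : Y ≤ centralizer (zc T : Set G)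
  · by_cases h3 : o2 Y ≤ B
    · apply hcase
      have h4 : o2 H ≤ o2 Y := by
        refine le_o2 (isPGroup_o2 H) ((o2_le_syl hT).trans hY.le) (hYH.trans (le_normalizer_o2 H))
      have hcY : Y ⊓ centralizer (o2 Y : Set G) ≤ o2 Y := by
        rintro x ⟨hx, hxc⟩
        exact h4 (hc ⟨hYH hx, centralizer_le (by exact_mod_cast h4) hxc⟩)
      have h5 : ZJ ≤ zc (o2 Y) := by
        intro z hz
        have hzT : z ∈ T := hBT (hB.ZB hz)
        have hcz : ∀ y ∈ o2 Y, y * z = z * y := fun y hy =>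
          (mem_centralizer_iff.1 (hB.Bc (h3 hy)) z hz).symm
        exact mem_zc.2 ⟨hcY ⟨hY.le hzT, mem_centralizer_iff.2 hcz⟩, hB.sq z hz, hcz⟩
      have h6 : ZJ ≤ centralizer (oddGen Y : Set G) :=
        (le_inf le_rfl h5).trans (h.fixPt T Y ⟨hTY, hBT, hY, hcY, h1, h2⟩)
      have h7 : MinSimple.VModule.oddGen Y ≤ M := (le_centralizer_iff.1 h6).trans hD
      have h8 : MinSimple.VModule.oddGen Y ⊔ T = Y := Dich.oddGen_sup_syl hTY
      rw [← h8]
      exact sup_le h7 hTM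
    · exact le_sup_of_le_right (le_iSup (fun Y : {Y : Subgroup G // IsMinPar T Y ∧ Y ≤ H ∧ ¬ K ≤ o2 Y ∧
        Y ≤ centralizer (zc T : Set G) ∧ ¬ o2 Y ≤ B} => (Y : Subgroup G))
        ⟨Y, hY, hYH, h1, h2, h3⟩)
  · exact hcase (hblk Y hY hYH h1 h2)

/-- **Existence of pairs**, blocks inside `H` only. -/
theorem exists_pairH (h : CrB S K B V ZJ) {M H : Subgroup G} (hBM : BMH K B M H)
    (hD : centralizer (ZJ : Set G) ≤ M) (hN : normalizer (B : Set G) ≤ M)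
    (hB : B ≤ H) (hc : H ⊓ centralizer (o2 H : Set G) ≤ o2 H) (hM : ¬ H ≤ M) :
    ∃ T F : Subgroup G, Pair K B V ZJ M T F ∧ F ≤ H := by
  have : Fact (Nat.Prime 2) := ⟨Nat.prime_two⟩
  obtain ⟨T₀, hT₀, hBT₀⟩ := exists_syl h.lb.Bp hB
  have hsylY : ∀ Y : Subgroup G, IsMinPar T₀ Y → Y ≤ H → Syl T₀ Y := fun Y hY hYH =>
    ⟨hY.le, hT₀.2.1, fun Q hQ h2 hTQ => hT₀.2.2 Q (hQ.trans hYH) h2 hTQ⟩
  have hcY' : ∀ Y : Subgroup G, IsMinPar T₀ Y → Y ≤ H → Y ⊓ centralizer (o2 Y : Set G) ≤ o2 Y := by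
    intro Y hY hYH
    have h4 : o2 H ≤ o2 Y :=
      le_o2 (isPGroup_o2 H) ((o2_le_syl hT₀).trans hY.le) (hYH.trans (le_normalizer_o2 H))
    rintro x ⟨hx, hxc⟩
    exact h4 (hc ⟨hYH hx, centralizer_le (by exact_mod_cast h4) hxc⟩)
  have hg := genM h hD hN hT₀ hBT₀ hc
    fun Y hY hYH => hBM T₀ Y (hsylY Y hY hYH) hBT₀ hY hYH (hcY' Y hY hYH)
  -- the minimal parabolic `Y`
  obtain ⟨Y, ⟨hYm, hYH, hYK, hYc, -⟩, hYM⟩ : ∃ Y : Subgroup G, (IsMinPar T₀ Y ∧ Y ≤ H ∧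
      ¬ K ≤ o2 Y ∧ Y ≤ centralizer (zc T₀ : Set G) ∧ ¬ o2 Y ≤ B) ∧ ¬ Y ≤ M := by
    by_contra hcon
    push Not at hcon
    exact hM (hg.trans (sup_le inf_le_right (iSup_le fun Y => hcon Y.1 Y.2)))
  have hTM : T₀ ≤ M := (h.lb.two_le hT₀.2.1 hBT₀).trans hN
  have hTY : Syl T₀ Y := hsylY Y hYm hYH
  have hcY := hcY' Y hYm hYH
  have hq : Quiet K B T₀ Y := ⟨hTY, hBT₀, hYm, hcY, hYK, hYc⟩
  have hVY : V ≤ o2 Y := V_le_o2 h hT₀.2.1 hBT₀ hYm.le hYc
  -- `Y₁ = O²(Y) O₂(Y) B`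
  set Y₁ : Subgroup G := oddGen Y ⊔ (o2 Y ⊔ B) with hY₁
  have hY₁Y : Y₁ ≤ Y := sup_le (oddGen_le Y) (sup_le (o2_le Y) (hBT₀.trans hYm.le))
  have hOB : IsPGroup 2 (o2 Y ⊔ B : Subgroup G) :=
    hT₀.2.1.to_le (sup_le (o2_le_syl hTY) hBT₀)
  obtain ⟨T, hT, hOT⟩ := exists_syl hOB (le_sup_right : o2 Y ⊔ B ≤ Y₁)
  have hY₁M : ¬ Y₁ ≤ M := by
    intro hle
    apply hYM
    rw [← Dich.oddGen_sup_syl hTY]
    exact sup_le (le_sup_left.trans hle) hTM
  obtain ⟨F, hF⟩ := (Set.toFinite {R : Subgroup G | T ≤ R ∧ R ≤ Y₁ ∧ ¬ R ≤ M}).exists_minimal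
    ⟨Y₁, hT.1, le_rfl, hY₁M⟩
  obtain ⟨hTF, hFY₁, hFM⟩ := hF.prop
  have hFY : F ≤ Y := hFY₁.trans hY₁Y
  have hsyl : Syl T F := ⟨hTF, hT.2.1, fun Q hQ h2 hle => hT.2.2 Q (hQ.trans hFY₁) h2 hle⟩
  have hBT : B ≤ T := le_sup_right.trans hOT
  have hOF : o2 Y ≤ o2 F :=
    le_o2 (isPGroup_o2 Y) ((le_sup_left.trans hOT).trans hTF) (hFY.trans (le_normalizer_o2 Y))
  refine ⟨T, F, ⟨hsyl, hBT, hFM, fun R hTR hRF => ?_, hVY.trans hOF, ?_, T₀, Y, hq, hYM, hFY, hOF⟩,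
    hFY.trans hYH⟩
  · by_contra hRM
    exact hRF.not_ge (hF.le_of_le ⟨hTR, hRF.le.trans hFY₁, hRM⟩ hRF.le)
  · rintro z ⟨hz, hzc⟩
    have hzB : z ∈ B := h.lb.ZB hz
    have hzO : ∀ y ∈ o2 Y, y * z = z * y := fun y hy => mem_centralizer_iff.1 hzc y (hOF hy)
    have hz1 : z ∈ zc (o2 Y) := by
      refine mem_zc.2 ⟨hcY ⟨hYm.le (hBT₀ hzB), mem_centralizer_iff.2 hzO⟩, h.lb.sq z hz, hzO⟩
    have hz2 : z ∈ centralizer (oddGen Y : Set G) := h.fixPt T₀ Y hq ⟨hz, hz1⟩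
    have hle : Y₁ ≤ centralizer ({z} : Set G) := by
      refine sup_le (fun y hy => ?_) (sup_le (fun y hy => ?_) fun y hy => ?_) <;>
        rw [mem_centralizer_singleton_iff]
      · exact mem_centralizer_iff.1 hz2 y hy
      · exact hzO y hy
      · exact (mem_centralizer_iff.1 (h.lb.Bc hy) z hz).symm
    rw [mem_centralizer_iff]
    intro y hy
    exact mem_centralizer_singleton_iff.1 (hle (hFY₁ hy))

/-- **Existence of pairs.** -/
theorem exists_pair (h : CrB S K B V ZJ) {M H : Subgroup G} (hBM : BM K B M)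
    (hD : centralizer (ZJ : Set G) ≤ M) (hN : normalizer (B : Set G) ≤ M)
    (hB : B ≤ H) (hc : H ⊓ centralizer (o2 H : Set G) ≤ o2 H) (hM : ¬ H ≤ M) :
    ∃ T F : Subgroup G, Pair K B V ZJ M T F ∧ F ≤ H :=
  exists_pairH h (fun T Y hT hB' hY _ => hBM T Y hT hB' hY) hD hN hB hc hM

/-- `K ≰ O₂(F)` for a pair. -/
theorem pair_nK (h : CrB S K B V ZJ) {M T F : Subgroup G} (hp : Pair K B V ZJ M T F)
    (hZM : normalizer (ZJ : Set G) ≤ M) : ¬ K ≤ o2 F := fun hle =>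
  hp.nM ((le_normalizer_o2 F).trans ((h.lb.nrm _ (isPGroup_o2 F) hle).trans hZM))

/-- `V` commutes with its conjugates under `F` -/
theorem comm_of_pair (h : CrB S K B V ZJ) {M T F : Subgroup G} (hp : Pair K B V ZJ M T F) {f : G} (hf : f ∈ F)
    {x y : G} (hx : x ∈ V) (hy : y ∈ V) : x * (f * y * f⁻¹) = f * y * f⁻¹ * x := by
  have hO : o2 F ≤ T := o2_le_syl hp.syl
  have hcO : cj f (o2 F) = o2 F := cj_eq_of_mem_normalizer (le_normalizer_o2 F hf)
  refine h.noff T hp.syl.2.1 hp.BT f ?_ ?_ x hx y hy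
  · have := cj_mono f hp.VO
    rw [hcO] at this
    exact this.trans hO
  · have := cj_mono f hO
    rw [hcO] at this
    exact hp.VO.trans this

/-- `Λ = ⟨V^F⟩` is elementary abelian. -/
theorem elab_Lam (h : CrB S K B V ZJ) (hel : IsElementaryAbelian 2 V) {M T F : Subgroup G}
    (hp : Pair K B V ZJ M T F) : IsElementaryAbelian 2 (NoFF.Basic.V V F) := by
  have h1 := Swap.elab_iSup (W := fun f : F => cj (f : G) V) (fun f f' x hx y hy => ?_)
    fun f x hx => ?_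
  · exact Swap.elab_of h1.1 h1.2
  · rw [mem_cj] at hx hy
    have h2 := comm_of_pair h hp (mul_mem (inv_mem f.2) f'.2) hx hy
    have e1 : (f : G)⁻¹ * f' * ((f' : G)⁻¹ * y * f') * ((f : G)⁻¹ * f')⁻¹ = (f : G)⁻¹ * y * f := by group
    rw [e1] at h2
    have h3 := congrArg (fun t => (f : G) * t * (f : G)⁻¹) h2
    have e2 : (f : G) * ((f : G)⁻¹ * x * f * ((f : G)⁻¹ * y * f)) * (f : G)⁻¹ = x * y := by group
    have e3 : (f : G) * ((f : G)⁻¹ * y * f * ((f : G)⁻¹ * x * f)) * (f : G)⁻¹ = y * x := by group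
    exact e2.symm.trans (h3.trans e3)
  · rw [mem_cj] at hx
    have h2 := SQ1.Bau.elem_sq hel _ hx
    rw [pow_two] at h2
    have e : x * x = f * ((f : G)⁻¹ * x * f * ((f : G)⁻¹ * x * f)) * (f : G)⁻¹ := by group
    rw [e, h2]; group

/-- `F` is a minimal parabolic over `T` -/
theorem pair_min (h : CrB S K B V ZJ) {M T F : Subgroup G} (hp : Pair K B V ZJ M T F)
    (hZM : normalizer (ZJ : Set G) ≤ M) : IsMinPar T F := by
  refine ⟨hp.syl.1, fun hle => ?_, F ⊓ M, lt_of_le_of_ne inf_le_left fun e => hp.nM (inf_eq_left.1 e),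
    fun R hTR hRF => le_inf hRF.le (hp.min R hTR hRF)⟩
  apply pair_nK h hp hZM
  exact (h.lb.KB.trans hp.BT).trans (le_o2 hp.syl.2.1 hp.syl.1 hle)

end CrB

/-- `Cr` gives `CrB` -/
theorem Cr.crB {ι : Type} {S : Sylow 2 G} {K B V ZJ : Subgroup G} {L W Z C : ι → Subgroup G}
    (h : Cr S K B V ZJ L W Z C) : CrB S K B V ZJ :=
  ⟨h.lb, h.wc, h.zcS, h.VB, fun g hg => (h.norm g hg).1, h.char2, h.low, h.noff, h.fixPt⟩

/-! ### The families of offenders -/

/-- The families of offenders of a pair (`q`-free): the members `≤ T` lie in `B` and have the property `Pr`. -/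
structure FmX (B V T F : Subgroup G) (Pr : Subgroup G → Prop) (𝓐 : Set (Subgroup G)) : Prop where
  fam : ∀ Λ : Subgroup G, IsElementaryAbelian 2 Λ → Λ ≤ F → F ≤ normalizer (Λ : Set G) →
    Λ ≤ NoFF.Basic.V V F → Fm F Λ 𝓐
  nJ : ∃ X ∈ 𝓐, X ≤ T ∧ ¬ X ≤ o2 F
  XB : ∀ X ∈ 𝓐, X ≤ T → X ≤ B
  act : ∀ X ∈ 𝓐, X ≤ T → Pr X

/-! ### The instances -/

end Cfsg.Agent.Omega.OM.SwapV

end

-- merged: Cfsg.Agent.Mrg.Omega.NOThreeL.QWR.Sw.Base
section

section


/-!
# THEOREM SW at the top level `(Q, V)`, `Q = C_S(V)` weakly closed, `Ω₁Z(Q) = V` (box R, one class)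

`Z_J = ZK S Q = Ω₁Z(nxt S Q)`, `B = BK S Q = C_S(Z_J)`.

* `LtV S V Q` : the level; `OffR S V Q` : for `B ≤ T ≤ S`, `F ∈ P(T)`, `F ≤ C_G(Z(S))`, `J(S) ≤ O₂(F)`, `Q ≰ O₂(F)`,
  `O²(F)` moves `Z_J`: a best offender `A ≤ T` on `⟨V^F⟩` is not in `O₂(F)` (THEOREM QW);
* `LtV.off` : the same for all 2-groups `T ≥ B`, `F ≤ C_G(Ω₁Z(S)^g)`, `g ∈ N_G(B)`;
* `LtV.crB` : the `q`-free ground frame `CrB` (with `fixPt`);
* `LtV.fam` : the families of offenders of the pairs.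
-/

set_option autoImplicit false
set_option linter.unusedSectionVars false

namespace Cfsg.Agent.Omega.NOThreeL.QWR.Sw

open Subgroup Cfsg Cfsg.Agent.ZN.ChoiceBase Cfsg.Agent.ZN.ChoiceSit
open Cfsg.Agent.ZN (jj zj bau zc zl o2)
open Cfsg.Agent.MinSimple.MinParabolic (IsMinPar)
open Cfsg.Agent.MinSimple.VModule (oddGen oddGen_le)
open Cfsg.Agent.Omega.NO1.BestOff (Best)
open Cfsg.Agent.Omega.NO3S.Level (lev Lev lev_isLev BO nxt)
open Cfsg.Agent.Omega.OM.LevD (LB)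
open Cfsg.Agent.Omega.OM.SwapK (WL BK ZK best_of_le)
open Cfsg.Agent.Omega.OM.SwapV (Quiet Pair CrB CrA FmX PF exists_cj_S)
open Cfsg.Agent.Omega.OM.Swap.Fam (Fm BF fm_AA fm_best)
open Cfsg.Agent.Omega.OM (LevD.norm_of_wc)

universe u

variable {G : Type u} [Group G] [Finite G]

/-- The level `(Q, V)`. -/
structure LtV (S : Sylow 2 G) (V Q : Subgroup G) : Prop where
  wl : WL S Q
  zcQ : zc Q = V
  char2 : IsCharacteristicTwoType G
  low : V ≤ o2 (centralizer (zc (S : Subgroup G) : Set G))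
  noff : ∀ T : Subgroup G, IsPGroup 2 T → BK (S : Subgroup G) Q ≤ T → ∀ f : G, cj f V ≤ T → V ≤ cj f T →
    ∀ x ∈ V, ∀ y ∈ V, x * (f * y * f⁻¹) = f * y * f⁻¹ * x

/-- **THEOREM QW** as a hypothesis. -/
def OffR (S : Sylow 2 G) (V Q : Subgroup G) : Prop :=
  ∀ T F : Subgroup G, Syl T F → BK (S : Subgroup G) Q ≤ T → T ≤ (S : Subgroup G) → IsMinPar T F →
    F ⊓ centralizer (o2 F : Set G) ≤ o2 F → F ≤ centralizer (zc (S : Subgroup G) : Set G) →
    jj (S : Subgroup G) ≤ o2 F → ¬ Q ≤ o2 F → ¬ oddGen F ≤ centralizer (ZK (S : Subgroup G) Q : Set G) →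
    ∃ A ≤ T, Best (NoFF.Basic.V V F) A ∧ ¬ A ≤ o2 F

/-! ### Conjugation -/

omit [Finite G] in
theorem isMinPar_cj {T P : Subgroup G} (g : G) (h : IsMinPar T P) : IsMinPar (cj g T) (cj g P) where
  le := cj_mono g h.le
  not_le := by
    intro h1
    rw [← cj_normalizer, cj_le_iff, cj_inv_cj] at h1
    exact h.not_le h1
  exists_max := by
    obtain ⟨N, hN, hmax⟩ := h.exists_max
    refine ⟨cj g N, lt_of_le_of_ne (cj_mono g hN.le) fun e => hN.ne ?_, fun K hK hKP => ?_⟩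
    · rw [← cj_inv_cj g N, e, cj_inv_cj]
    · have h1 : K = cj g (cj g⁻¹ K) := (cj_cj_inv g K).symm
      rw [h1]
      refine cj_mono g (hmax _ ?_ (lt_of_le_of_ne ?_ fun e => hKP.ne ?_))
      · rw [← cj_le_iff]; exact hK
      · have h2 := cj_mono g⁻¹ hKP.le
        rwa [cj_inv_cj] at h2
      · rw [h1, e]

omit [Finite G] in
theorem oddGen_cj (g : G) (X : Subgroup G) : oddGen (cj g X) = cj g (oddGen X) := by
  unfold cj oddGen
  rw [MonoidHom.map_closure]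
  congr 1
  ext x
  constructor
  · rintro ⟨⟨y, hy, rfl⟩, hy'⟩
    refine ⟨y, ⟨hy, ?_⟩, rfl⟩
    have : orderOf ((MulAut.conj g).toMonoidHom y) = orderOf y := orderOf_injective _ (MulAut.conj g).injective y
    rwa [this] at hy'
  · rintro ⟨y, ⟨hy, hy'⟩, rfl⟩
    refine ⟨⟨y, hy, rfl⟩, ?_⟩
    have : orderOf ((MulAut.conj g).toMonoidHom y) = orderOf y := orderOf_injective _ (MulAut.conj g).injective y
    rwa [this]

omit [Finite G] in
theorem syl_cj {T X : Subgroup G} (g : G) (h : Syl T X) : Syl (cj g T) (cj g X) := by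
  refine ⟨cj_mono g h.1, isPGroup_cj g h.2.1, fun Q hQ h2 hle => ?_⟩
  have h3 : cj g⁻¹ Q ≤ X := by
    have := cj_mono g⁻¹ hQ
    rwa [cj_inv_cj] at this
  have h4 : T ≤ cj g⁻¹ Q := by
    have := cj_mono g⁻¹ hle
    rwa [cj_inv_cj] at this
  have h5 := h.2.2 _ h3 (isPGroup_cj g⁻¹ h2) h4
  rw [← h5, cj_cj_inv]

omit [Finite G] in
theorem cj_V (n : G) (X Y : Subgroup G) : cj n (NoFF.Basic.V X Y) = NoFF.Basic.V (cj n X) (cj n Y) := by
  have key : ∀ (n : G) (X Y : Subgroup G), NoFF.Basic.V (cj n X) (cj n Y) ≤ cj n (NoFF.Basic.V X Y) := by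
    intro n X Y
    refine NoFF.Basic.V_le fun p hp => ?_
    rw [mem_cj] at hp
    have h1 : cj (n⁻¹ * p * n) X ≤ NoFF.Basic.V X Y := NoFF.Basic.Z_le_V hp
    have h2 := cj_mono n h1
    rw [cj_cj] at h2
    have e : n * (n⁻¹ * p * n) = p * n := by group
    rw [e, ← cj_cj] at h2
    exact h2
  refine le_antisymm ?_ (key n X Y)
  have h1 := cj_mono n (key n⁻¹ (cj n X) (cj n Y))
  rwa [cj_inv_cj, cj_inv_cj, cj_cj_inv] at h1

omit [Finite G] in
/-- conjugates of best offenders -/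
theorem best_cj {V A : Subgroup G} (h : Best V A) (g : G) : Best (cj g V) (cj g A) := by
  have hcc : ∀ X : Subgroup G, centralizer ((cj g X : Subgroup G) : Set G) = cj g (centralizer (X : Set G)) :=
    fun X => (cj_centralizer g X).symm
  refine ⟨⟨fun a ha => ?_, fun a ha b hb => ?_⟩, fun F h2 h1 => ?_⟩
  · rw [hcc, mem_cj]
    have := h.sq _ (mem_cj.1 ha)
    have e : (g⁻¹ * a * g) ^ 2 = g⁻¹ * a ^ 2 * g := by rw [pow_two, pow_two]; group
    rwa [e] at this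
  · rw [hcc, mem_cj]
    have := h.comm _ (mem_cj.1 ha) _ (mem_cj.1 hb)
    have e : g⁻¹ * a * g * (g⁻¹ * b * g) * (g⁻¹ * a * g)⁻¹ * (g⁻¹ * b * g)⁻¹ = g⁻¹ * (a * b * a⁻¹ * b⁻¹) * g := by
      group
    rwa [e] at this
  · have e0 : ∀ X : Subgroup G, cj g (cj g⁻¹ X) = X := fun X => by rw [cj_cj, mul_inv_cancel, cj_one]
    have e0' : ∀ X : Subgroup G, cj g⁻¹ (cj g X) = X := fun X => by rw [cj_cj, inv_mul_cancel, cj_one]
    have h3 : A ⊓ centralizer (V : Set G) ≤ cj g⁻¹ F := by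
      rw [hcc, ← cj_inf] at h1
      have := cj_mono g⁻¹ h1
      rwa [e0'] at this
    have h4 : cj g⁻¹ F ≤ A := by
      have := cj_mono g⁻¹ h2
      rwa [e0'] at this
    have h5 := h.max _ h4 h3
    have e2 : Nat.card ↥(cj g V ⊓ centralizer (F : Set G)) = Nat.card ↥(V ⊓ centralizer (cj g⁻¹ F : Set G)) := by
      conv_lhs => rw [← e0 F, hcc, ← cj_inf, card_cj]
    rw [e2, hcc, ← cj_inf, card_cj, card_cj, ← card_cj g⁻¹ F]
    exact h5

namespace LtV

variable {S : Sylow 2 G} {V Q : Subgroup G} (h : LtV S V Q)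
include h

theorem lb : LB S (nxt (S : Subgroup G) Q) (BK (S : Subgroup G) Q) (ZK (S : Subgroup G) Q) := h.wl.lb

theorem wcB : OM.WeakCl.WC (BK (S : Subgroup G) Q) := h.wl.wcB

theorem VQ : V ≤ Q := by rw [← h.zcQ]; exact Cfsg.Agent.MinSimple.VModule.zc_le _

theorem QB : Q ≤ BK (S : Subgroup G) Q := h.wl.K₀B

theorem VB : V ≤ BK (S : Subgroup G) Q := h.VQ.trans h.QB

theorem cV {a v : G} (ha : a ∈ Q) (hv : v ∈ V) : a * v = v * a := by
  rw [← h.zcQ] at hv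
  exact (mem_zc.1 hv).2.2 a ha

theorem elemV : IsElementaryAbelian 2 V := by
  rw [← h.zcQ]
  exact OM.SwapL.zc_elab Q

theorem ZV : ZK (S : Subgroup G) Q ≤ V := by
  rw [← h.zcQ]
  exact h.wl.lev.zc_le_zc (NO3S.Level.le_nxt h.wl.lev.le) (NO3S.Level.nxt_le _ _)

theorem zcS : zc (S : Subgroup G) ≤ ZK (S : Subgroup G) Q := h.wl.lev.next.zc_le

/-- `N_G(B) ≤ N_G(V)` -/
theorem nV {g : G} (hg : g ∈ normalizer (BK (S : Subgroup G) Q : Set G)) : cj g V = V := by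
  have h1 := NO3S.Level.normalizer_le_zc _ (h.wl.norm_B hg)
  rw [h.zcQ] at h1
  exact cj_eq_of_mem_normalizer h1

theorem nQ {g : G} (hg : g ∈ normalizer (BK (S : Subgroup G) Q : Set G)) : cj g Q = Q :=
  cj_eq_of_mem_normalizer (h.wl.norm_B hg)

theorem nZK {g : G} (hg : g ∈ normalizer (BK (S : Subgroup G) Q : Set G)) :
    cj g (ZK (S : Subgroup G) Q) = ZK (S : Subgroup G) Q :=
  cj_eq_of_mem_normalizer (h.lb.norm_B_le hg)

theorem jB : jj (S : Subgroup G) ≤ BK (S : Subgroup G) Q := h.wl.lev.jjle.trans h.QB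

/-- `N_G(B) ≤ N_G(J(S))` -/
theorem nj {g : G} (hg : g ∈ normalizer (BK (S : Subgroup G) Q : Set G)) :
    cj g (jj (S : Subgroup G)) = jj (S : Subgroup G) :=
  OM.LevD.norm_of_wc (NO3S.Level.wc_jj S) h.lb.Bp h.jB hg

/-- a conjugate of `B` inside `S` is `B` -/
theorem mem_nB {g : G} (hg : cj g (BK (S : Subgroup G) Q) ≤ (S : Subgroup G)) :
    g ∈ normalizer (BK (S : Subgroup G) Q : Set G) :=
  mem_normalizer_iff_cj.2 (h.wcB _ S.isPGroup' h.lb.BS _ hg)

/-- a 2-group over `B` lies in `S^g`, `g ∈ N_G(B)`, and `Ω₁Z(S)^g ≤ Ω₁Z(T)`. -/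
theorem exists_cj {T : Subgroup G} (hT : IsPGroup 2 T) (hB : BK (S : Subgroup G) Q ≤ T) :
    ∃ g ∈ normalizer (BK (S : Subgroup G) Q : Set G), T ≤ cj g (S : Subgroup G) ∧ cj g (zc (S : Subgroup G)) ≤ zc T := by
  obtain ⟨g, hg, hle⟩ := exists_cj_S h.wcB h.lb.BS hT hB
  refine ⟨g, hg, hle, ?_⟩
  intro z hz
  have h6 := cj_mono g h.zcS hz
  rw [h.nZK hg] at h6
  have h4 : z ∈ T := hB (h.lb.ZB h6)
  rw [← NO3S.Level.zc_cj] at hz
  obtain ⟨h5, h6, h7⟩ := mem_zc.1 hz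
  exact mem_zc.2 ⟨h4, h6, fun y hy => h7 y (hle hy)⟩

/-- **(C)** `B ≤ T ≤ F ≤ C_G(Z^g)`, `g ∈ N_G(B)`: some `x ∈ N_G(B)` has `T ≤ S^x`, `Z^x = Z^g`. -/
theorem exists_both {T F : Subgroup G} (hT : IsPGroup 2 T) (hB : BK (S : Subgroup G) Q ≤ T) (hTF : T ≤ F) {g : G}
    (hF : F ≤ centralizer (cj g (zc (S : Subgroup G)) : Set G)) :
    ∃ x ∈ normalizer (BK (S : Subgroup G) Q : Set G), T ≤ cj x (S : Subgroup G) ∧
      F ≤ centralizer (cj x (zc (S : Subgroup G)) : Set G) := by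
  have hS : Syl (cj g (S : Subgroup G)) (centralizer (cj g (zc (S : Subgroup G)) : Set G)) := by
    have h1 : Syl (S : Subgroup G) (centralizer (zc (S : Subgroup G) : Set G)) :=
      ⟨Cfsg.Agent.MinSimple.VModule.le_centralizer_zc _, S.isPGroup', fun Q _ hQ hle => S.is_maximal' hQ hle⟩
    have h2 := syl_cj g h1
    rwa [cj_centralizer] at h2
  obtain ⟨T₁, hT₁, hle⟩ := exists_syl hT (hTF.trans hF)
  obtain ⟨c, hc, rfl⟩ := syl_conj hS hT₁
  rw [cj_cj] at hle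
  refine ⟨c * g, ?_, hle, ?_⟩
  · have h1 : cj (c * g)⁻¹ (BK (S : Subgroup G) Q) ≤ (S : Subgroup G) := by
      have := cj_mono (c * g)⁻¹ (hB.trans hle)
      rwa [cj_inv_cj] at this
    have h2 := inv_mem (h.mem_nB h1)
    rwa [inv_inv] at h2
  · rw [← cj_cj, cj_eq_of_mem_normalizer (centralizer_le_normalizer _ hc)]
    exact hF

/-- **`OffR` for all 2-groups `T ≥ B`.** -/
theorem off (ho : OffR S V Q) {T F : Subgroup G} (hT : Syl T F) (hB : BK (S : Subgroup G) Q ≤ T) (hmin : IsMinPar T F)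
    (hc : F ⊓ centralizer (o2 F : Set G) ≤ o2 F) {g : G}
    (hF : F ≤ centralizer (cj g (zc (S : Subgroup G)) : Set G)) (hj : jj (S : Subgroup G) ≤ o2 F) (hQ : ¬ Q ≤ o2 F)
    (hmv : ¬ oddGen F ≤ centralizer (ZK (S : Subgroup G) Q : Set G)) :
    ∃ A ≤ T, Best (NoFF.Basic.V V F) A ∧ ¬ A ≤ o2 F := by
  obtain ⟨x, hx, hTx, hFx⟩ := h.exists_both hT.2.1 hB hT.1 hF
  have hx' := inv_mem hx
  have e2 : cj x⁻¹ (BK (S : Subgroup G) Q) = BK (S : Subgroup G) Q := cj_eq_of_mem_normalizer hx'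
  have key := ho (cj x⁻¹ T) (cj x⁻¹ F) (syl_cj _ hT) ?_ ?_ (isMinPar_cj _ hmin) ?_ ?_ ?_ ?_ ?_
  · obtain ⟨A, hA, hb, hn⟩ := key
    refine ⟨cj x A, ?_, ?_, fun hle => hn ?_⟩
    · have := cj_mono x hA
      rwa [cj_cj_inv] at this
    · have h1 := best_cj hb x
      rw [cj_V, cj_cj_inv, h.nV hx] at h1
      exact h1
    · have h1 := cj_mono x⁻¹ hle
      rw [cj_inv_cj, ← pCore_cj] at h1
      exact h1
  · have h1 := cj_mono x⁻¹ hB
    rwa [e2] at h1
  · have h1 := cj_mono x⁻¹ hTx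
    rwa [cj_inv_cj] at h1
  · have h1 := cj_mono x⁻¹ hc
    rwa [cj_inf, cj_centralizer, ← pCore_cj] at h1
  · have h1 := cj_mono x⁻¹ hFx
    rwa [cj_centralizer, cj_inv_cj] at h1
  · have h1 := cj_mono x⁻¹ hj
    rwa [h.nj hx', ← pCore_cj] at h1
  · intro hle
    apply hQ
    have h1 := cj_mono x hle
    rwa [h.nQ hx, pCore_cj, cj_cj_inv] at h1
  · intro hle
    apply hmv
    have h1 := cj_mono x hle
    rwa [oddGen_cj, cj_cj_inv, cj_centralizer, h.nZK hx] at h1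

/-- `V ≤ O₂(Y)` if `Y` centralises `Ω₁(Z(T))`, `B ≤ T ≤ Y`. -/
theorem V_le_o2 {T Y : Subgroup G} (hT : IsPGroup 2 T)
    (hB : BK (S : Subgroup G) Q ≤ T) (hTY : T ≤ Y) (hY : Y ≤ centralizer (zc T : Set G)) : V ≤ o2 Y := by
  obtain ⟨g, hgN, -, h3⟩ := h.exists_cj hT hB
  have h4 : Y ≤ centralizer (cj g (zc (S : Subgroup G)) : Set G) := hY.trans (centralizer_le h3)
  have h5 : V ≤ o2 (centralizer (cj g (zc (S : Subgroup G)) : Set G)) := by
    have h6 := cj_mono g h.low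
    rw [h.nV hgN, ← pCore_cj, cj_centralizer] at h6
    exact h6
  have h6 : V ≤ o2 (centralizer (cj g (zc (S : Subgroup G)) : Set G)) ⊓ Y :=
    le_inf h5 ((h.VB.trans hB).trans hTY)
  refine h6.trans (le_o2 ((isPGroup_o2 _).to_le inf_le_left) inf_le_right ?_)
  intro y hy
  rw [mem_normalizer_iff_cj, cj_inf, cj_eq_of_mem_normalizer (Cfsg.Agent.MinSimple.VModule.le_normalizer_o2 _ (h4 hy)),
    cj_eq_of_mem_normalizer (le_normalizer hy)]

/-- `⟨V^F⟩` is elementary abelian if `V ≤ O₂(F)`. -/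
theorem elab_VF {T F : Subgroup G} (hT : Syl T F) (hB : BK (S : Subgroup G) Q ≤ T) (hV : V ≤ o2 F) :
    IsElementaryAbelian 2 (NoFF.Basic.V V F) := by
  have hcom : ∀ f ∈ F, ∀ x ∈ V, ∀ y ∈ V, x * (f * y * f⁻¹) = f * y * f⁻¹ * x := by
    intro f hf x hx y hy
    have hO : o2 F ≤ T := o2_le_syl hT
    have hcO : cj f (o2 F) = o2 F := cj_eq_of_mem_normalizer (Cfsg.Agent.MinSimple.VModule.le_normalizer_o2 F hf)
    refine h.noff T hT.2.1 hB f ?_ ?_ x hx y hy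
    · have := cj_mono f hV
      rw [hcO] at this
      exact this.trans hO
    · have := cj_mono f hO
      rw [hcO] at this
      exact hV.trans this
  have h1 := OM.Swap.elab_iSup (W := fun f : F => cj (f : G) V) (fun f f' x hx y hy => ?_)
    fun f x hx => ?_
  · exact OM.Swap.elab_of h1.1 h1.2
  · rw [mem_cj] at hx hy
    have h2 := hcom ((f : G)⁻¹ * f') (mul_mem (inv_mem f.2) f'.2) _ hx _ hy
    have e1 : (f : G)⁻¹ * f' * ((f' : G)⁻¹ * y * f') * ((f : G)⁻¹ * f')⁻¹ = (f : G)⁻¹ * y * f := by group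
    rw [e1] at h2
    have h3 := congrArg (fun t => (f : G) * t * (f : G)⁻¹) h2
    have e2 : (f : G) * ((f : G)⁻¹ * x * f * ((f : G)⁻¹ * y * f)) * (f : G)⁻¹ = x * y := by group
    have e3 : (f : G) * ((f : G)⁻¹ * y * f * ((f : G)⁻¹ * x * f)) * (f : G)⁻¹ = y * x := by group
    exact e2.symm.trans (h3.trans e3)
  · rw [mem_cj] at hx
    have h2 := SQ1.Bau.elem_sq h.elemV _ hx
    rw [pow_two] at h2
    have e : x * x = f * ((f : G)⁻¹ * x * f * ((f : G)⁻¹ * x * f)) * (f : G)⁻¹ := by group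
    rw [e, h2]; group

omit h in
/-- `V ≤ ⟨V^F⟩` -/
theorem V_le_VF (V F : Subgroup G) : V ≤ NoFF.Basic.V V F := by
  have h1 := NoFF.Basic.Z_le_V (Z := V) (one_mem F)
  rwa [map_one, one_smul] at h1

/-- **Fixed points do not lift**, from one best offender on `⟨V^F⟩` outside `O₂(F)`. -/
theorem fix_of_off {T F : Subgroup G} (hT : Syl T F) (hB : BK (S : Subgroup G) Q ≤ T) (hmin : IsMinPar T F)
    (hV : V ≤ o2 F) (hz : F ≤ centralizer (zc T : Set G))
    (hoff : ∃ A ≤ T, Best (NoFF.Basic.V V F) A ∧ ¬ A ≤ o2 F) :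
    NoFF.Basic.V V F ⊓ zc (o2 F) ≤ centralizer (oddGen F : Set G) := by
  obtain ⟨A, hAT, hb, hAO⟩ := hoff
  have hOT : o2 F ≤ T := o2_le_syl hT
  have hel := h.elab_VF hT hB hV
  have hc : ∀ x ∈ NoFF.Basic.V V F, ∀ y ∈ NoFF.Basic.V V F, x * y = y * x := fun x hx y hy =>
    SQ1.Bau.elem_comm hel x hx y hy
  have hb' : Best (NoFF.Basic.V V F ⊓ zc (o2 F)) A := best_of_le hc hb inf_le_left
  have hUO : NoFF.Basic.V V F ⊓ zc (o2 F) ≤ o2 F := inf_le_right.trans (Cfsg.Agent.MinSimple.VModule.zc_le _)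
  have hsq : ∀ y ∈ NoFF.Basic.V V F ⊓ zc (o2 F), y ^ 2 = 1 := fun u hu => (mem_zc.1 hu.2).2.1
  have hcom : NoFF.Basic.V V F ⊓ zc (o2 F) ≤
      centralizer ((NoFF.Basic.V V F ⊓ zc (o2 F) : Subgroup G) : Set G) := by
    intro u hu
    rw [mem_centralizer_iff]
    exact fun v hv => (mem_zc.1 hu.2).2.2 v (mem_zc.1 hv.2).1
  have hN : F ≤ normalizer ((NoFF.Basic.V V F ⊓ zc (o2 F) : Subgroup G) : Set G) :=
    NO3b.K0.norm_inf OmThm.XD.X_le_normalizer_W
      ((Cfsg.Agent.MinSimple.VModule.le_normalizer_o2 F).trans (NO3S.Level.normalizer_le_zc _))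
  have hQ : o2 F ≤ centralizer ((NoFF.Basic.V V F ⊓ zc (o2 F) : Subgroup G) : Set G) :=
    (NO3S.Level.le_centralizer_zc _).trans (centralizer_le inf_le_right)
  refine NO3S.Fld.ff_lemma_off FF.Glob.aStmt hT hmin (hUO.trans (o2_le F)) hsq hcom hN hQ ?_ hAT hAO hb'.toElemM ?_
  · rintro x ⟨hx, hxT⟩
    have hxz : x ∈ zc T := mem_zc.2 ⟨hOT (hUO hx), hsq x hx, fun t ht => mem_centralizer_iff.1 hxT t ht⟩
    rw [mem_centralizer_iff]
    exact fun e he => (mem_centralizer_iff.1 (hz (oddGen_le F he)) x hxz).symm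
  · have h2 := hb'.max (A ⊓ centralizer ((NoFF.Basic.V V F ⊓ zc (o2 F) : Subgroup G) : Set G)) inf_le_left le_rfl
    have e : (NoFF.Basic.V V F ⊓ zc (o2 F)) ⊓
        centralizer ((A ⊓ centralizer ((NoFF.Basic.V V F ⊓ zc (o2 F) : Subgroup G) : Set G) :
        Subgroup G) : Set G) = NoFF.Basic.V V F ⊓ zc (o2 F) :=
      inf_eq_left.2 (le_centralizer_iff.1 inf_le_right)
    rw [e, mul_comm] at h2
    exact h2

/-- the fixed point property of quiet minimal parabolics -/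
theorem fixPt (ho : OffR S V Q) (T Y : Subgroup G)
    (hq : Quiet (nxt (S : Subgroup G) Q) (BK (S : Subgroup G) Q) T Y) :
    ZK (S : Subgroup G) Q ⊓ zc (o2 Y) ≤ centralizer (oddGen Y : Set G) := by
  have hKT := h.lb.KB.trans hq.BT
  by_cases hQ : Q ≤ o2 Y
  · exact inf_le_right.trans (h.wl.fixPt hq.syl hKT hq.min hQ hq.nK hq.cz)
  by_cases hj : jj (S : Subgroup G) ≤ o2 Y
  · by_cases hmv : oddGen Y ≤ centralizer (ZK (S : Subgroup G) Q : Set G)
    · exact inf_le_left.trans (le_centralizer_iff.1 hmv)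
    · obtain ⟨g, hg, -, hz⟩ := h.exists_cj hq.syl.2.1 hq.BT
      have hV := h.V_le_o2 hq.syl.2.1 hq.BT hq.min.le hq.cz
      have hoff := h.off ho hq.syl hq.BT hq.min hq.c2 (hq.cz.trans (centralizer_le hz)) hj hQ hmv
      exact (inf_le_inf_right _ (h.ZV.trans (V_le_VF V Y))).trans
        (h.fix_of_off hq.syl hq.BT hq.min hV hq.cz hoff)
  · exact inf_le_right.trans (OM.LevD.fixPt_neg S hq.syl (h.jB.trans hq.BT) hq.min hj hq.cz)

/-- **The `q`-free ground frame.** -/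
theorem crB (ho : OffR S V Q) :
    CrB S (nxt (S : Subgroup G) Q) (BK (S : Subgroup G) Q) V (ZK (S : Subgroup G) Q) where
  lb := h.lb
  wc := h.wcB
  zcS := h.zcS
  VB := h.VB
  nV := fun _ hg => h.nV hg
  char2 := h.char2
  low := h.low
  noff := h.noff
  fixPt := h.fixPt ho

/-- **The families of offenders of the pairs.** -/
theorem fam (ho : OffR S V Q) {M T F : Subgroup G}
    (hp : Pair (nxt (S : Subgroup G) Q) (BK (S : Subgroup G) Q) V (ZK (S : Subgroup G) Q) M T F)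
    (hD : centralizer (ZK (S : Subgroup G) Q : Set G) ≤ M)
    (hZM : normalizer (ZK (S : Subgroup G) Q : Set G) ≤ M) (hTM : T ≤ M) :
    ∃ 𝓐 : Set (Subgroup G), FmX (BK (S : Subgroup G) Q) V T F
      (fun X => (∀ a ∈ X, ∀ v ∈ V, a * v = v * a) ∨ Best V X) 𝓐 := by
  classical
  have hb := h.crB ho
  have hT2 := hp.syl.2.1
  have hKT : nxt (S : Subgroup G) Q ≤ T := h.lb.KB.trans hp.BT
  have h0T : jj (S : Subgroup G) ≤ T := h.jB.trans hp.BT
  have hmp : IsMinPar T F := hb.pair_min hp hZM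
  have hnK := hb.pair_nK hp hZM
  have hV : V ≤ o2 F := hp.VO
  have hel := hb.elab_Lam h.elemV hp
  have hcF : F ⊓ centralizer (o2 F : Set G) ≤ o2 F := by
    obtain ⟨T₀, Y, hq, -, hFY, hO⟩ := hp.org
    exact (inf_le_inf hFY (centralizer_le hO)).trans (hq.c2.trans hO)
  by_cases hj : jj (S : Subgroup G) ≤ o2 F
  swap
  · -- stage `-1`
    have hjT : jj T = jj (S : Subgroup G) := MinSimple.EmptyTI.jj_eq S hT2 h0T
    have hX2 : ∀ X ∈ AA F, X ≤ T → X ≤ Q := fun X hX hXT => by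
      have h1 := le_jj (OM.Swap.AA_of_le hX hXT hp.syl.1)
      rw [hjT] at h1
      exact h1.trans h.wl.lev.jjle
    refine ⟨AA F, fun Λ hΛ hΛF hn _ => fm_AA hΛ hΛF hn, ?_, fun X hX hXT => (hX2 X hX hXT).trans h.QB,
      fun X hX hXT => Or.inl fun a ha v hv => h.cV (hX2 X hX hXT ha) hv⟩
    by_contra hcon
    push Not at hcon
    apply hj
    rw [← hjT, Cfsg.Agent.ZN.ChoiceBase.jj_eq]
    exact sSup_le fun X hX => hcon X (OM.Swap.AA_of_syl hp.syl hX) hX.2.1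
  by_cases hQ : Q ≤ o2 F
  · -- the top stage
    have hX := OM.SwapL.zc_elab Q
    have hFN : F ≤ normalizer (zc Q : Set G) :=
      (Cfsg.Agent.MinSimple.VModule.le_normalizer_o2 F).trans
        ((h.wl.norm_T (isPGroup_o2 F) hQ).trans (NO3S.Level.normalizer_le_zc _))
    have hX1 : ∀ X ∈ BF F (zc Q), X ≤ T → X ≤ nxt (S : Subgroup G) Q := fun X hXA hXT =>
      h.wl.le_nxt_of_best hT2 hKT hXT hXA.2.2
    refine ⟨BF F (zc Q), fun Λ hΛ hΛF hn hle => fm_best hX hFN ?_ hn, ?_,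
      fun X hXA hXT => (hX1 X hXA hXT).trans h.lb.KB, fun X hXA hXT => Or.inr (by rw [← h.zcQ]; exact hXA.2.2)⟩
    · refine hle.trans (NoFF.Basic.V_le fun f hf => ?_)
      have h1 := cj_mono f h.zcQ.ge
      rwa [cj_eq_of_mem_normalizer (hFN hf)] at h1
    · by_contra hcon
      push Not at hcon
      apply hnK
      rw [← h.wl.nxt_T hT2 hKT]
      have : Fact (Nat.Prime 2) := ⟨Nat.prime_two⟩
      have hNn : F ≤ normalizer ((F ⊓ centralizer (zc Q : Set G) : Subgroup G) : Set G) := by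
        intro f hf
        rw [mem_normalizer_iff_cj, cj_inf, cj_centralizer, cj_eq_of_mem_normalizer (hFN hf),
          cj_eq_of_mem_normalizer (le_normalizer hf)]
      refine sup_le ?_ (sSup_le fun X hX' => hcon X ⟨hX'.1.trans hp.syl.1, hT2.to_le hX'.1, hX'.2⟩ hX'.1)
      rcases hmp.sup_eq_or_inf_le (p := 2) hT2 (syl_not_dvd hp.syl)
        (N := F ⊓ centralizer (zc Q : Set G)) inf_le_left hNn with h1 | h1
      · exfalso
        apply hp.nM
        rw [← h1]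
        refine sup_le ((inf_le_right.trans (centralizer_le ?_)).trans hD) hTM
        have h2 : ZK (S : Subgroup G) Q ≤ zc Q := by rw [h.zcQ]; exact h.ZV
        exact_mod_cast h2
      · refine le_trans (fun x hx => ?_) h1
        exact ⟨hx.1, hp.syl.1 hx.1, hx.2⟩
  · -- below the top
    obtain ⟨T₀, Y, hq, -, hFY, hO⟩ := hp.org
    obtain ⟨g, hg, -, hz⟩ := h.exists_cj hq.syl.2.1 hq.BT
    have hFz : F ≤ centralizer (cj g (zc (S : Subgroup G)) : Set G) := hFY.trans (hq.cz.trans (centralizer_le hz))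
    have hmv : ¬ oddGen F ≤ centralizer (ZK (S : Subgroup G) Q : Set G) := by
      intro hle
      apply hp.nM
      rw [← OM.Dich.oddGen_sup_syl hp.syl]
      exact sup_le (hle.trans hD) hTM
    obtain ⟨A, hA, hbA, hn⟩ := h.off ho hp.syl hp.BT hmp hcF hFz hj hQ hmv
    have hc : ∀ x ∈ NoFF.Basic.V V F, ∀ y ∈ NoFF.Basic.V V F, x * y = y * x := fun x hx y hy =>
      SQ1.Bau.elem_comm hel x hx y hy
    refine ⟨BF F (NoFF.Basic.V V F), fun Λ _ _ hn hle => fm_best hel OmThm.XD.X_le_normalizer_W hle hn,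
      ⟨A, ⟨hA.trans hp.syl.1, hT2.to_le hA, hbA⟩, hA, hn⟩, fun X hX hXT => ?_, fun X hX hXT => ?_⟩
    · have h1 : Best (zc Q) X := best_of_le hc hX.2.2 (by rw [h.zcQ]; exact V_le_VF V F)
      exact (h.wl.le_nxt_of_best hT2 hKT hXT h1).trans h.lb.KB
    · exact Or.inr (best_of_le hc hX.2.2 (V_le_VF V F))

end LtV

end Cfsg.Agent.Omega.NOThreeL.QWR.Sw

end

section


/-!
# THEOREM SW at the top level `(Q, V)`, `q = 2`: the abstract frame `CrA`

* `LtV.norm` : `N_G(B)` permutes the `Z i`;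
* **`LtV.crA`** : `FrL (BK S Q) Q V V (ZK S Q) L W Z C A 2` and `OffR S V Q` give
  `CrA S (nxt S Q) (BK S Q) V (ZK S Q) L W Z C A`.
-/

set_option autoImplicit false
set_option linter.unusedSectionVars false

namespace Cfsg.Agent.Omega.NOThreeL.QWR.Sw

open Subgroup Cfsg Cfsg.Agent.ZN.ChoiceBase Cfsg.Agent.ZN.ChoiceSit
open Cfsg.Agent.ZN (jj zj bau zc zl o2)
open Cfsg.Agent.Omega.NO3S.Level (nxt)
open Cfsg.Agent.Omega.OM.SwapK (BK ZK)
open Cfsg.Agent.Omega.OM.SwapV (Quiet Pair CrA PF)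
open Cfsg.Agent.Omega.OM.Lev.Uni (FrL)

universe u

variable {G : Type u} [Group G] [Finite G] {S : Sylow 2 G} {V Q : Subgroup G}
  {ι : Type} [Finite ι] {L W Z C A : ι → Subgroup G}

namespace LtV

variable (h : LtV S V Q)
include h

/-- **(U1)**, any `q` -/
theorem norm {q : ℕ} (fr : FrL (BK (S : Subgroup G) Q) Q V V (ZK (S : Subgroup G) Q) L W Z C A q) {g : G}
    (hg : g ∈ normalizer (BK (S : Subgroup G) Q : Set G)) :
    cj g V = V ∧ ∀ i, ∃ j, cj g (Z i) = Z j ∧ cj g (W i) ≤ W j ⊔ ZK (S : Subgroup G) Q :=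
  fr.norm_of hg (mem_normalizer_iff_cj.2 (h.nV hg))

/-- **The abstract frame of THEOREM SW at the top level.** -/
theorem crA (fr : FrL (BK (S : Subgroup G) Q) Q V V (ZK (S : Subgroup G) Q) L W Z C A 2) (ho : OffR S V Q) :
    CrA S (nxt (S : Subgroup G) Q) (BK (S : Subgroup G) Q) V (ZK (S : Subgroup G) Q) L W Z C A where
  lb := h.lb
  wc := h.wcB
  zcS := h.zcS
  zcB := fr.zcB
  blk := fr.blk
  cardZ := fr.cardZ
  el := fr.el
  VB := h.VB
  ZJV := fr.ZJV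
  WV := fr.WV
  CV := fr.CV
  dir := fr.dir
  C0 := fr.C0
  WjC := fr.WjC
  split := fun i _ hz => fr.split_ZJ i hz
  LC := fr.LC
  mov := fun i => by
    have h2 := fr.Ane i
    push Not at h2
    obtain ⟨a, ha, v, hv, hne⟩ := h2
    exact ⟨a, fr.AB i ha, ⟨v, hv, hne⟩, fr.AC i a ha⟩
  conjZ := fun r _ hx => OM.SwapL.conj_ZJ fr r hx
  norm := fun _ hg => h.norm fr hg
  char2 := h.char2
  low := h.low
  noff := h.noff
  fixPt := h.fixPt ho
  fam := fun M T F hp hD hZM hTM => by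
    obtain ⟨𝓐, hA⟩ := h.fam ho hp hD hZM hTM
    refine ⟨𝓐, hA.fam, hA.nJ, hA.XB, fun X hX hXT i hi => ?_⟩
    rcases hA.act X hX hXT with h1 | h1
    · obtain ⟨a, ha, x, hx, hne⟩ := hi
      exact absurd (h1 a ha x (fr.WV i hx)) hne
    · exact OM.SwapL.hat fr (hA.XB X hX hXT) (fun F' h2 h3 => h1.max F' h3 h2) hi
  WC := fr.WC
  AB := fr.AB
  Ane := fr.Ane
  AC := fr.AC
  fmem := fun _ hv hA => fr.mem_ZJ_of hv hA
  fnWr := fun _ _ hi _ hl _ hx => OM.SwapL.nWr fr hi hl hx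
  fstep := fun i _ hv => OM.SwapL.step fr i hv
  fkeep := fun _ _ hij _ hl _ hv hj => OM.SwapL.keep fr hij hl hv hj

end LtV

end Cfsg.Agent.Omega.NOThreeL.QWR.Sw

end

section


/-!
# THEOREM SW at the top level `(Q, V)`, `q ≥ 4`: the ground frame `Gr`

* `LtV.famQ` : the families of offenders of the pairs `PairV` of characteristic 2;
* **`LtV.abQ`** : `FrL (BK S Q) Q V V (ZK S Q) L W Z C A q`, `OffR S V Q`, `perm` and the coordinates give `AbQ`, so `Gr`.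
-/

set_option autoImplicit false
set_option linter.unusedSectionVars false

namespace Cfsg.Agent.Omega.NOThreeL.QWR.Sw

open Subgroup Cfsg Cfsg.Agent.ZN.ChoiceBase Cfsg.Agent.ZN.ChoiceSit
open Cfsg.Agent.ZN (jj zj bau zc zl o2)
open Cfsg.Agent.MinSimple.MinParabolic (IsMinPar)
open Cfsg.Agent.MinSimple.VModule (oddGen oddGen_le)
open Cfsg.Agent.Omega.NO1.BestOff (Best)
open Cfsg.Agent.Omega.NO3S.Level (lev Lev lev_isLev BO nxt)
open Cfsg.Agent.Omega.OM.LevD (LB)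
open Cfsg.Agent.Omega.OM.SwapK (WL BK ZK best_of_le)
open Cfsg.Agent.Omega.OM.Swap.Fam (Fm BF fm_AA fm_best)
open Cfsg.Agent.Omega.OM.SwapV.Q (PairV Cor Gr pair_nK pair_minPar)
open Cfsg.Agent.Omega.OM.Lev.Uni (FrL)

universe u

variable {G : Type u} [Group G] [Finite G]

omit [Finite G] in
theorem comm_of_odd {x r : G} {R : Subgroup G} (hR : IsPGroup 2 R) (ho : Odd (orderOf x))
    (hc : x * r * x⁻¹ * r⁻¹ ∈ R) (hcx : x * (x * r * x⁻¹ * r⁻¹) = (x * r * x⁻¹ * r⁻¹) * x) : x * r = r * x := by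
  set c := x * r * x⁻¹ * r⁻¹ with hcd
  have hxr : x * r = c * r * x := by rw [hcd]; group
  have key : ∀ k : ℕ, x ^ k * r = c ^ k * r * x ^ k := by
    intro k
    induction k with
    | zero => simp
    | succ k ih =>
      have hck : x * c ^ k = c ^ k * x := (show Commute x c from hcx).pow_right k
      calc x ^ (k + 1) * r = x * (x ^ k * r) := by rw [pow_succ', mul_assoc]
        _ = x * c ^ k * r * x ^ k := by rw [ih]; simp only [mul_assoc]
        _ = c ^ k * (x * r) * x ^ k := by rw [hck]; simp only [mul_assoc]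
        _ = c ^ (k + 1) * r * x ^ (k + 1) := by rw [hxr, pow_succ, pow_succ']; simp only [mul_assoc]
  have h1 := key (orderOf x)
  rw [pow_orderOf_eq_one, one_mul, mul_one] at h1
  have h2 : c ^ orderOf x = 1 := by
    have h3 := congrArg (fun t => t * r⁻¹) h1
    simpa using h3.symm
  have h4 : orderOf c ∣ orderOf x := orderOf_dvd_of_pow_eq_one h2
  obtain ⟨m, hm⟩ := hR ⟨c, hc⟩
  have hm' : c ^ 2 ^ m = 1 := by
    have := congrArg Subtype.val hm
    simpa using this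
  have h5 : orderOf c ∣ 2 ^ m := orderOf_dvd_of_pow_eq_one hm'
  have h6 : Nat.Coprime (orderOf x) (2 ^ m) := Nat.Coprime.pow_right m (Nat.Coprime.symm (by
    rw [Nat.coprime_two_left]; exact ho))
  have h7 : orderOf c = 1 := Nat.eq_one_of_dvd_coprimes h6 h4 h5
  rw [orderOf_eq_one_iff] at h7
  rw [hxr, h7, one_mul]

theorem isPGroup_of_odd {X : Subgroup G} (h : ∀ x ∈ X, Odd (orderOf x) → x = 1) : IsPGroup 2 X := by
  rintro ⟨x, hx⟩
  obtain ⟨k, m, hm, he⟩ := Nat.exists_eq_two_pow_mul_odd (n := orderOf x) (orderOf_pos x).ne'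
  refine ⟨k, Subtype.ext ?_⟩
  have h1 : orderOf (x ^ 2 ^ k) = m := by
    rw [orderOf_pow, he]
    have : Nat.gcd (2 ^ k * m) (2 ^ k) = 2 ^ k := by simp
    rw [this, Nat.mul_div_cancel_left m (by positivity)]
  have h2 := h (x ^ 2 ^ k) (pow_mem hx _) (by rw [h1]; exact hm)
  simpa using h2

omit [Finite G] in
theorem eq_one_of_odd {X : Subgroup G} (h : IsPGroup 2 X) {x : G} (hx : x ∈ X) (ho : Odd (orderOf x)) : x = 1 := by
  obtain ⟨m, hm⟩ := h ⟨x, hx⟩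
  have hm' : x ^ 2 ^ m = 1 := by
    have := congrArg Subtype.val hm
    simpa using this
  have h5 : orderOf x ∣ 2 ^ m := orderOf_dvd_of_pow_eq_one hm'
  have h6 : Nat.Coprime (orderOf x) (2 ^ m) := Nat.Coprime.pow_right m (Nat.Coprime.symm (by
    rw [Nat.coprime_two_left]; exact ho))
  exact orderOf_eq_one_iff.1 (Nat.eq_one_of_dvd_coprimes h6 dvd_rfl h5)

namespace LtV

variable {S : Sylow 2 G} {V Q : Subgroup G} (h : LtV S V Q)
include h

/-- `F` has characteristic 2. -/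
theorem c2_of (hV1 : V ≠ ⊥) {T F : Subgroup G} (hT : Syl T F) (hB : BK (S : Subgroup G) Q ≤ T) (hV : V ≤ o2 F) :
    F ⊓ centralizer (o2 F : Set G) ≤ o2 F := by
  have hV2 : IsPGroup 2 V := (isPGroup_o2 F).to_le hV
  have hc := OM.Swap.char2_cent h.char2 hV2 hV1
  set R := o2 (centralizer (V : Set G)) with hR
  have hR2 : IsPGroup 2 R := isPGroup_o2 _
  have hRV : R ≤ centralizer (V : Set G) := o2_le _
  -- `R ≤ B`
  have hSV : (S : Subgroup G) ≤ normalizer (V : Set G) := fun s hs =>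
    mem_normalizer_iff_cj.2 (h.nV (h.lb.two_le S.isPGroup' h.lb.BS hs))
  have hSR : (S : Subgroup G) ≤ normalizer (R : Set G) := fun s hs => by
    rw [mem_normalizer_iff_cj, hR, ← o2_cj, cj_centralizer, cj_eq_of_mem_normalizer (hSV hs)]
  have hRS : R ≤ (S : Subgroup G) := by
    have h1 : IsPGroup 2 ((S : Subgroup G) ⊔ R : Subgroup G) := S.isPGroup'.to_sup_of_normal_right' hR2 hSR
    have h2 := S.is_maximal' h1 le_sup_left
    exact le_sup_right.trans h2.le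
  have hRB : R ≤ BK (S : Subgroup G) Q := le_inf hRS (hRV.trans (centralizer_le h.ZV))
  have hRF : R ≤ F := (hRB.trans hB).trans hT.1
  -- `N = C_F(O₂(F))`
  set N := F ⊓ centralizer (o2 F : Set G) with hN
  have hFN : F ≤ normalizer (N : Set G) := fun f hf => by
    rw [mem_normalizer_iff_cj, hN, cj_inf, cj_eq_of_mem_normalizer (le_normalizer hf), cj_centralizer,
      cj_eq_of_mem_normalizer (Cfsg.Agent.MinSimple.VModule.le_normalizer_o2 F hf)]
  have hNV : N ≤ centralizer (V : Set G) := inf_le_right.trans (centralizer_le hV)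
  have hNR : N ≤ normalizer (R : Set G) := hNV.trans (Cfsg.Agent.MinSimple.VModule.le_normalizer_o2 _)
  -- `R ∩ N ≤ O₂(F)`
  have hRN : R ⊓ N ≤ o2 F := by
    have h1 : R ⊓ N ≤ o2 N := le_o2 (hR2.to_le inf_le_left) inf_le_right fun y hy => by
      rw [mem_normalizer_iff_cj, cj_inf, cj_eq_of_mem_normalizer (hNR hy), cj_eq_of_mem_normalizer (le_normalizer hy)]
    have h2 : o2 N ≤ o2 F := le_o2 (isPGroup_o2 N) ((o2_le N).trans inf_le_left) fun f hf => by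
      rw [mem_normalizer_iff_cj, ← o2_cj, cj_eq_of_mem_normalizer (hFN hf)]
    exact h1.trans h2
  refine le_o2 (isPGroup_of_odd fun x hx ho => ?_) inf_le_left hFN
  have hxR : x ∈ centralizer (R : Set G) := by
    rw [mem_centralizer_iff]
    intro r hr
    have hcR : x * r * x⁻¹ * r⁻¹ ∈ R := mul_mem ((mem_normalizer_iff.1 (hNR hx) r).1 hr) (inv_mem hr)
    have hcN : x * r * x⁻¹ * r⁻¹ ∈ N := by
      have h1 : r * x⁻¹ * r⁻¹ ∈ N := (mem_normalizer_iff.1 (hFN (hRF hr)) x⁻¹).1 (inv_mem hx)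
      have h2 := mul_mem hx h1
      have e : x * (r * x⁻¹ * r⁻¹) = x * r * x⁻¹ * r⁻¹ := by group
      rwa [e] at h2
    have h3 := hRN ⟨hcR, hcN⟩
    exact (comm_of_odd hR2 ho hcR (mem_centralizer_iff.1 hx.2 _ h3).symm).symm
  have h4 : x ∈ R := hc ⟨hNV hx, hxR⟩
  exact eq_one_of_odd hR2 h4 ho

/-- a pair lies in `C_G(Ω₁Z(S)^g)`, `g ∈ N_G(B)` -/
theorem pairV_le {M T F : Subgroup G} (hp : PairV (BK (S : Subgroup G) Q) V (ZK (S : Subgroup G) Q) M T F) :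
    ∃ g ∈ normalizer (BK (S : Subgroup G) Q : Set G), F ≤ centralizer (cj g (zc (S : Subgroup G)) : Set G) := by
  obtain ⟨g, hg, -, hz⟩ := h.exists_cj hp.syl.2.1 hp.BT
  refine ⟨g, hg, le_centralizer_iff.1 (le_trans (le_inf ?_ ?_) hp.fix)⟩
  · have h1 := cj_mono g h.zcS
    rwa [h.nZK hg] at h1
  · intro x hx
    exact mem_centralizer_iff.2 fun y hy => (mem_zc.1 (hz hx)).2.2 y (o2_le_syl hp.syl hy)

/-- **The families of offenders of the pairs `PairV`.** -/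
theorem famQ (ho : OffR S V Q) {M T F : Subgroup G}
    (hp : PairV (BK (S : Subgroup G) Q) V (ZK (S : Subgroup G) Q) M T F)
    (hcF : F ⊓ centralizer (o2 F : Set G) ≤ o2 F)
    (hD : centralizer (ZK (S : Subgroup G) Q : Set G) ≤ M) (hTM : T ≤ M)
    (hZM : normalizer (ZK (S : Subgroup G) Q : Set G) ≤ M) :
    ∃ 𝓐 : Set (Subgroup G),
      (∀ Λ : Subgroup G, IsElementaryAbelian 2 Λ → Λ ≤ F → F ≤ normalizer (Λ : Set G) →
        Λ ≤ NoFF.Basic.V V F → Fm F Λ 𝓐) ∧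
      (∃ E ∈ 𝓐, E ≤ T ∧ ¬ E ≤ o2 F) ∧
      ∀ E ∈ 𝓐, E ≤ T → E ≤ BK (S : Subgroup G) Q ∧
        ((∀ a ∈ E, ∀ v ∈ V, a * v = v * a) ∨ OM.Lev.Uni.Best V E) := by
  classical
  have hT2 := hp.syl.2.1
  have hKT : nxt (S : Subgroup G) Q ≤ T := h.lb.KB.trans hp.BT
  have h0T : jj (S : Subgroup G) ≤ T := h.jB.trans hp.BT
  have hmp : IsMinPar T F := pair_minPar h.lb hp hZM
  have hnK := pair_nK h.lb hp hZM
  have hel := h.elab_VF hp.syl hp.BT hp.VO
  have hBe : ∀ {U E : Subgroup G}, Best U E → OM.Lev.Uni.Best U E := fun hb F' h1 h2 => hb.max F' h2 h1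
  by_cases hj : jj (S : Subgroup G) ≤ o2 F
  swap
  · -- stage `-1`
    have hjT : jj T = jj (S : Subgroup G) := MinSimple.EmptyTI.jj_eq S hT2 h0T
    have hX2 : ∀ X ∈ AA F, X ≤ T → X ≤ Q := fun X hX hXT => by
      have h1 := le_jj (OM.Swap.AA_of_le hX hXT hp.syl.1)
      rw [hjT] at h1
      exact h1.trans h.wl.lev.jjle
    refine ⟨AA F, fun Λ hΛ hΛF hn _ => fm_AA hΛ hΛF hn, ?_, fun X hX hXT => ⟨(hX2 X hX hXT).trans h.QB,
      Or.inl fun a ha v hv => h.cV (hX2 X hX hXT ha) hv⟩⟩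
    by_contra hcon
    push Not at hcon
    apply hj
    rw [← hjT, Cfsg.Agent.ZN.ChoiceBase.jj_eq]
    exact sSup_le fun X hX => hcon X (OM.Swap.AA_of_syl hp.syl hX) hX.2.1
  by_cases hQ : Q ≤ o2 F
  · -- the top stage
    have hX := OM.SwapL.zc_elab Q
    have hFN : F ≤ normalizer (zc Q : Set G) :=
      (Cfsg.Agent.MinSimple.VModule.le_normalizer_o2 F).trans
        ((h.wl.norm_T (isPGroup_o2 F) hQ).trans (NO3S.Level.normalizer_le_zc _))
    have hX1 : ∀ X ∈ BF F (zc Q), X ≤ T → X ≤ nxt (S : Subgroup G) Q := fun X hXA hXT =>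
      h.wl.le_nxt_of_best hT2 hKT hXT hXA.2.2
    refine ⟨BF F (zc Q), fun Λ hΛ hΛF hn hle => fm_best hX hFN ?_ hn, ?_,
      fun X hXA hXT => ⟨(hX1 X hXA hXT).trans h.lb.KB, Or.inr (hBe (by rw [← h.zcQ]; exact hXA.2.2))⟩⟩
    · refine hle.trans (NoFF.Basic.V_le fun f hf => ?_)
      have h1 := cj_mono f h.zcQ.ge
      rwa [cj_eq_of_mem_normalizer (hFN hf)] at h1
    · by_contra hcon
      push Not at hcon
      apply hnK
      rw [← h.wl.nxt_T hT2 hKT]
      have : Fact (Nat.Prime 2) := ⟨Nat.prime_two⟩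
      have hNn : F ≤ normalizer ((F ⊓ centralizer (zc Q : Set G) : Subgroup G) : Set G) := by
        intro f hf
        rw [mem_normalizer_iff_cj, cj_inf, cj_centralizer, cj_eq_of_mem_normalizer (hFN hf),
          cj_eq_of_mem_normalizer (le_normalizer hf)]
      refine sup_le ?_ (sSup_le fun X hX' => hcon X ⟨hX'.1.trans hp.syl.1, hT2.to_le hX'.1, hX'.2⟩ hX'.1)
      rcases hmp.sup_eq_or_inf_le (p := 2) hT2 (syl_not_dvd hp.syl)
        (N := F ⊓ centralizer (zc Q : Set G)) inf_le_left hNn with h1 | h1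
      · exfalso
        apply hp.nM
        rw [← h1]
        refine sup_le ((inf_le_right.trans (centralizer_le ?_)).trans hD) hTM
        have h2 : ZK (S : Subgroup G) Q ≤ zc Q := by rw [h.zcQ]; exact h.ZV
        exact_mod_cast h2
      · refine le_trans (fun x hx => ?_) h1
        exact ⟨hx.1, hp.syl.1 hx.1, hx.2⟩
  · -- below the top
    obtain ⟨g, hg, hFz⟩ := h.pairV_le hp
    have hmv : ¬ oddGen F ≤ centralizer (ZK (S : Subgroup G) Q : Set G) := by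
      intro hle
      apply hp.nM
      rw [← OM.Dich.oddGen_sup_syl hp.syl]
      exact sup_le (hle.trans hD) hTM
    obtain ⟨A, hA, hbA, hn⟩ := h.off ho hp.syl hp.BT hmp hcF hFz hj hQ hmv
    have hc : ∀ x ∈ NoFF.Basic.V V F, ∀ y ∈ NoFF.Basic.V V F, x * y = y * x := fun x hx y hy =>
      SQ1.Bau.elem_comm hel x hx y hy
    refine ⟨BF F (NoFF.Basic.V V F), fun Λ _ _ hn hle => fm_best hel OmThm.XD.X_le_normalizer_W hle hn,
      ⟨A, ⟨hA.trans hp.syl.1, hT2.to_le hA, hbA⟩, hA, hn⟩, fun X hX hXT => ⟨?_, ?_⟩⟩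
    · have h1 : Best (zc Q) X := best_of_le hc hX.2.2 (by rw [h.zcQ]; exact V_le_VF V F)
      exact (h.wl.le_nxt_of_best hT2 hKT hXT h1).trans h.lb.KB
    · exact Or.inr (hBe (best_of_le hc hX.2.2 (V_le_VF V F)))

section fr

variable {ι : Type} [Finite ι] {L W Z C A : ι → Subgroup G} {q : ℕ}

omit h in
theorem V_ne [Nonempty ι] {B Q V X ZJ : Subgroup G} (fr : FrL B Q V X ZJ L W Z C A q) : V ≠ ⊥ := by
  obtain ⟨i⟩ := ‹Nonempty ι›
  intro e
  have h1 := (fr.blk i).card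
  have h2 : W i = ⊥ := by rw [eq_bot_iff, ← e]; exact fr.WV i
  have h3 : Z i = ⊥ := by rw [eq_bot_iff, ← h2]; exact (fr.blk i).ZV
  rw [h2, h3, Subgroup.card_bot] at h1
  have := (fr.blk i).one
  omega

/-- **The frame `AbQ` (so the ground frame `Gr`) at the top level.** -/
theorem abQ [Nonempty ι] (fr : FrL (BK (S : Subgroup G) Q) Q V V (ZK (S : Subgroup G) Q) L W Z C A q)
    (ho : OffR S V Q)
    (perm : ∀ s ∈ (S : Subgroup G), ∀ i j, cj s (Z i) = Z j → cj s (W i) = W j ∧ cj s (C i) = C j)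
    (co : ∀ i, ∃ (F : Type) (_ : Field F) (_ : Finite F) (_ : CharP F 2), Nat.card F = q ∧
      ∃ e : G → F × F, Cor F (S : Subgroup G) (BK (S : Subgroup G) Q) L W Z i e) :
    AbQ S (nxt (S : Subgroup G) Q) (BK (S : Subgroup G) Q) V (ZK (S : Subgroup G) Q) V Q L W Z C A q where
  lb := h.lb
  wc := h.wcB
  nX := fun _ hg => mem_normalizer_iff_cj.2 (h.nV hg)
  fr := fr
  char2 := h.char2
  low := h.low
  noff := h.noff
  perm := perm
  co := co
  fixPt := h.fixPt ho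
  fam := fun _ _ _ hp hD hTM hZM => h.famQ ho hp (h.c2_of (V_ne fr) hp.syl hp.BT hp.VO) hD hTM hZM

end fr

end LtV

end Cfsg.Agent.Omega.NOThreeL.QWR.Sw

end

end
end

-- part: Mrg/Omega/OM/LowT/Full
section
prune_inst 0x90002104440000000000000000003c42f2000102006b00017040000404ca9d4100000f20b020091010200a04003c004001000040002000000000000001180481002010008008a00021000000f800000000000000000000000000000000041000000000000
set_option linter.all false
open scoped Cfsg.Agent.FastGrp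

-- merged: Cfsg.Agent.Mrg.Omega.OM.LowT.LinH
section

section


/-!
# The hypothesis (LIN) of the port `LowT`

`LinH S P B R j`: for the parabolic `R` over `B` of the stage `j`: one natural block over `𝔽₄`, and the torus line is
in `V_P`. (Over `lev S (n+1)` this was `LinV.lin_V`; over `K₀ = O₂(P)` it comes from the choice of `R` with `|DX S P R|`
maximal, see `CaseLQ/Torus.lean` and `LowT/Lin.lean`.)
-/

set_option autoImplicit false
set_option linter.unusedSectionVars false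

namespace Cfsg.Agent.Omega.OM.LowT

open Subgroup Cfsg Cfsg.Agent.ZN.ChoiceBase Cfsg.Agent.ZN.ChoiceSit
open Cfsg.Agent.ZN (jj zj bau zc zl o2)
open Cfsg.Agent.Omega.FFThm (NatKM)
open Cfsg.Agent.Omega.FrameFF (cv)
open Cfsg.Agent.Omega.OM.Lev.Low

universe u

variable {G : Type u} [Group G] [Finite G]

/-- **(LIN)** -/
structure LinH (S : Sylow 2 G) (P B R : Subgroup G) (j : ℕ) : Prop where
  /-- one block over `𝔽₄` -/
  one : ∀ (F : Type) [Field F] [Finite F] [CharP F 2] (k : ℕ), 0 < k → NatKM F B R (zl B R) (cv B R) k →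
    4 ≤ Nat.card F → k = 1 ∧ Nat.card F = 4
  /-- the torus line is in `V_P` -/
  le : ∀ (K N₁ c : Subgroup G) (τ : G), PB (LevB.BL (S : Subgroup G) j) K (zl B R) N₁ (cv B R) 4 → K ≤ R →
    c ≤ N₁ → τ ∈ K → τ ∈ normalizer (LevB.BL (S : Subgroup G) j : Set G) → cj τ c = c →
    (∀ x ∈ c, τ * x * τ⁻¹ = x → x = 1) → c ≤ zl (S : Subgroup G) P

end Cfsg.Agent.Omega.OM.LowT

end

section


/-!
# LIN (helper388 #25947, #26301): the lines of a block over `B₀` are centralised by `Q`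

`M : NatC F T H V D k`, `NB' M B X K c` : the blocks `K i` over `B` with the lines `c i ≤ X`, `|F| > 2`. `Q ≤ T` is normal in
`T`, `VP = C_X(Q)`, `N_H(T) ≤ N(Q)`, and every minimal parabolic `R ≤ H` over `T` which normalises `B` normalises `Q` or
centralises an element `z ∈ VP ∩ V` all of whose components are nontrivial. Then `Q` centralises the lines.

* `AA M` : the elements acting on `V / D` as elements of `SL₂(F)^k`, and trivially on `D`; `oddGen H ≤ AA M`;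
* `cent_lines` : such an element which normalises `X` and centralises `z` centralises `X ∩ V`;
* `norm_F` : `N_H(B)` normalises `VP ∩ V`;
* **`cent_c`**.
-/

set_option autoImplicit false
set_option linter.unusedSectionVars false

namespace Cfsg.Agent.Omega.OM.LowT.LinCore

open Subgroup Cfsg Cfsg.Agent.ZN Cfsg.Agent.ZN.ChoiceBase Cfsg.Agent.ZN.ChoiceSit
open Cfsg.Agent.Omega.NatPair (ap ap_zero' ap_one' ap_one ap_mul ext2 ap_inv_ap ap_inj)
open Cfsg.Agent.Lib.SL2Mat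
open Cfsg.Agent.MinSimple.MinParabolic (IsMinPar)
open Cfsg.Agent.MinSimple.VModule (oddGen oddGen_le oddGen_le_of_sup)
open Cfsg.Agent.Omega.SQ1.FFOne (MinH)
open Cfsg.Agent.Omega.NO3S.OneLine (NatC)
open Cfsg.Agent.Omega.NO3S.OneLine.NatC (acts_mul acts_inv acts_one acts_unique)
open Cfsg.Agent.Omega.OM.Lev.Nat (Wn mem_Wn)
open Cfsg.Agent.Omega.OM.GNat (cent_N)
open Cfsg.Agent.Omega.OM.Lev.Low

universe u

variable {G : Type u} [Group G] [Finite G] {F : Type} [Field F] {T H V D : Subgroup G} {k : ℕ}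

/-- the elements acting on `V / D` as elements of `SL₂(F)^k`, and trivially on `D` -/
def AA (M : NatC F T H V D k) : Subgroup G where
  carrier := {x | x ∈ H ∧ (∃ A, M.Acts x A) ∧ ∀ d ∈ D, x * d = d * x}
  mul_mem' := by
    rintro a b ⟨ha, ⟨A, hA⟩, ha2⟩ ⟨hb, ⟨B, hB⟩, hb2⟩
    refine ⟨mul_mem ha hb, ⟨A * B, acts_mul hb hA hB⟩, fun d hd => ?_⟩
    have e1 : Commute a d := ha2 d hd
    have e2 : Commute b d := hb2 d hd
    exact (e1.mul_left e2).eq
  one_mem' := ⟨one_mem H, ⟨1, acts_one⟩, fun d _ => by simp⟩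
  inv_mem' := by
    rintro a ⟨ha, ⟨A, hA⟩, ha2⟩
    refine ⟨inv_mem ha, ⟨A⁻¹, acts_inv ha hA⟩, fun d hd => ?_⟩
    have e1 : Commute a d := ha2 d hd
    exact e1.inv_left.eq

variable {M : NatC F T H V D k}

theorem norm_AA : H ≤ normalizer (AA M : Set G) := by
  have key : ∀ g ∈ H, ∀ x ∈ AA M, g * x * g⁻¹ ∈ AA M := by
    rintro g hg x ⟨hx, ⟨A, hA⟩, hx2⟩
    obtain ⟨B, hB⟩ := M.nat.norm g hg x hx A hA
    refine ⟨mul_mem (mul_mem hg hx) (inv_mem hg), ⟨B, hB⟩, fun d hd => ?_⟩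
    have hd' : g⁻¹ * d * g ∈ D := by
      have := M.Dn g⁻¹ (inv_mem hg) d hd
      rwa [inv_inv] at this
    have h1 := hx2 _ hd'
    calc g * x * g⁻¹ * d = g * (x * (g⁻¹ * d * g)) * g⁻¹ := by group
      _ = g * (g⁻¹ * d * g * x) * g⁻¹ := by rw [h1]
      _ = d * (g * x * g⁻¹) := by group
  intro g hg
  rw [mem_normalizer_iff]
  refine fun x => ⟨key g hg x, fun hx => ?_⟩
  have := key g⁻¹ (inv_mem hg) _ hx
  have e : g⁻¹ * (g * x * g⁻¹) * g⁻¹⁻¹ = x := by group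
  rwa [e] at this

/-- **The elements of odd order act as elements of `SL₂(F)^k`.** -/
theorem oddGen_le_AA (hT : Syl T H) : oddGen H ≤ AA M :=
  oddGen_le_of_sup norm_AA
    (M.nat.gen _ le_sup_right fun _ hh A hA => mem_sup_left ⟨hh, ⟨A, hA.1⟩, hA.2⟩) hT.1 (fun _ hx => hx.1) hT.2.1

/-- the elements of `V` on the lines are products of elements of the lines -/
theorem mem_iSup_Li {v : G} (hv : v ∈ V) (h0 : ∀ i, M.nat.e v i 1 = 0) : v ∈ ⨆ i, Li M i := by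
  classical
  have key : ∀ s : Finset (Fin k), ∀ v ∈ V, (∀ i, M.nat.e v i 1 = 0) → (∀ i ∉ s, M.nat.e v i = 0) →
      v ∈ ⨆ i, Li M i := by
    intro s
    induction s using Finset.induction_on with
    | empty =>
      intro v hv _ h1
      have h2 : v ∈ D := (M.nat.ker v hv).1 (funext fun i => h1 i (Finset.notMem_empty i))
      exact le_iSup (fun i => Li M i) ⟨0, M.pos⟩ (D_le_Li ⟨0, M.pos⟩ h2)
    | insert i s hi ih =>
      intro v hv h0 h1
      obtain ⟨w, hw, e⟩ := exists_line M i (M.nat.e v i 0)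
      have hvw : v * w⁻¹ ∈ V := mul_mem hv (inv_mem hw.1)
      have h2 := ih (v * w⁻¹) hvw (fun j => ?_) fun j hj => ?_
      · have h3 := mul_mem h2 (le_iSup (fun i => Li M i) i hw)
        rwa [inv_mul_cancel_right] at h3
      · rw [M.map_div hv hw.1, Pi.sub_apply, Pi.sub_apply, h0 j]
        by_cases hji : j = i
        · subst hji
          rw [hw.2.2, sub_zero]
        · rw [hw.2.1 j hji, Pi.zero_apply, sub_zero]
      · rw [M.map_div hv hw.1, Pi.sub_apply]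
        by_cases hji : j = i
        · subst hji
          rw [sub_eq_zero]
          exact ext2 e.symm (by rw [h0, hw.2.2])
        · rw [h1 j (fun h => (Finset.mem_insert.1 h).elim hji hj), hw.2.1 j hji, sub_zero]
  exact key Finset.univ v hv h0 fun i hi => absurd (Finset.mem_univ i) hi

variable {B X : Subgroup G} {K c : Fin k → Subgroup G}

/-- **An element of `AA M` which normalises `X` and centralises `z` centralises `X ∩ V`.** -/
theorem cent_lines [CharP F 2] (hnb : NB' M B X K c) {z : G} (hzV : z ∈ V) (hzX : z ∈ X)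
    (hzi : ∀ i, M.nat.e z i ≠ 0) {x : G} (hx : x ∈ AA M) (hxX : x ∈ normalizer (X : Set G)) (hxz : x * z = z * x)
    {v : G} (hv : v ∈ V) (hvX : v ∈ X) : x * v = v * x := by
  obtain ⟨hxH, ⟨A, hA⟩, hxD⟩ := hx
  have hk := M.pos
  have key : ∀ i, ∀ w ∈ Li M i, x * w = w * x := by
    intro i w hw
    have hL := hnb.ld i
    have h10 : ent (A i) 1 0 = 0 := by
      obtain ⟨y, hy, e⟩ := exists_line M i 1
      have h1 : x * y * x⁻¹ ∈ X := (mem_normalizer_iff.1 hxX y).1 (hL.LiZ i hy)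
      have h2 := (hL.mem _ (M.Vn x hxH y hy.1)).1 h1 i
      rw [hA y hy.1 i, ap_one', e, hy.2.2] at h2
      simpa using h2
    have hz1 : M.nat.e z i 1 = 0 := (hL.mem z hzV).1 hzX i
    have hz0 : M.nat.e z i 0 ≠ 0 := fun h0 => hzi i (ext2 h0 hz1)
    have h00 : ent (A i) 0 0 = 1 := by
      have h2 := hA z hzV i
      rw [hxz, mul_inv_cancel_right] at h2
      have h3 := congrFun h2 0
      rw [ap_zero', hz1, mul_zero, add_zero] at h3
      have h4 : (ent (A i) 0 0 - 1) * M.nat.e z i 0 = 0 := by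
        rw [sub_mul, one_mul, ← h3, sub_self]
      rcases mul_eq_zero.1 h4 with h5 | h5
      · exact sub_eq_zero.1 h5
      · exact absurd h5 hz0
    have h11 : ent (A i) 1 1 = 1 := by
      have h2 := det_eq (A i)
      rw [h10, mul_zero, sub_zero, h00, one_mul] at h2
      exact h2
    have hup : A i = up (ent (A i) 0 1) := ext_ent (by rw [up_00, h00]) (by rw [up_01]) (by rw [up_10, h10])
      (by rw [up_11, h11])
    obtain ⟨b, hb, hbA⟩ := hL.root_i i (ent (A i) 0 1)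
    have h3 := acts_mul (M := M) hxH (acts_inv (M := M) hbA.1 hbA.2.1) hA
    have h4 := cent_N M hL.hm (mul_mem (inv_mem hbA.1) hxH) h3 (fun d hd => by
      have c1 : Commute b d := hbA.2.2 d hd
      have c2 : Commute x d := hxD d hd
      exact (c1.inv_left.mul_left c2).eq) (i := i) (by
        rw [Pi.mul_apply, Pi.inv_apply, Pi.mulSingle_eq_same, ← hup, inv_mul_cancel]) hw.1 hw.2.1
    have h5 : b * w = w * b := hL.cB b hb w (hL.LiZ i hw)
    calc x * w = b * (b⁻¹ * x * w) := by group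
      _ = b * (w * (b⁻¹ * x)) := by rw [h4]
      _ = (b * w) * b⁻¹ * x := by group
      _ = w * x := by rw [h5]; group
  have h1 := mem_iSup_Li hv ((hnb.ld ⟨0, hk⟩).mem v hv |>.1 hvX)
  have h2 : (⨆ i, Li M i) ≤ centralizer ({x} : Set G) := iSup_le fun i w hw => by
    rw [mem_centralizer_singleton_iff]
    exact (key i w hw).symm
  exact (mem_centralizer_singleton_iff.1 (h2 h1)).symm

/-- The hypotheses. -/
structure Hyp (M : NatC F T H V D k) (B X : Subgroup G) (K c : Fin k → Subgroup G) (Q VP : Subgroup G) (z : G) :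
    Prop where
  nb : NB' M B X K c
  /-- `N(B) ≤ N(X)` -/
  BX : normalizer (B : Set G) ≤ normalizer (X : Set G)
  QT : Q ≤ T
  TQ : T ≤ normalizer (Q : Set G)
  mem : ∀ x, x ∈ VP ↔ x ∈ X ∧ ∀ q ∈ Q, q * x = x * q
  NT : H ⊓ normalizer (T : Set G) ≤ normalizer (Q : Set G)
  NQ : H ⊓ normalizer (Q : Set G) ≤ normalizer (VP : Set G)
  zV : z ∈ V
  zP : z ∈ VP
  zi : ∀ i, M.nat.e z i ≠ 0
  par : ∀ R : Subgroup G, IsMinPar T R → R ≤ H → R ≤ normalizer (B : Set G) →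
    R ≤ normalizer (Q : Set G) ∨ ∀ x ∈ R, x * z = z * x

namespace Hyp

variable {Q VP : Subgroup G} {z : G} (h : Hyp M B X K c Q VP z)
include h

theorem syl : Syl T H := (h.nb.ld ⟨0, M.pos⟩).hm.syl

theorem VnH : H ≤ normalizer (V : Set G) := by
  intro g hg
  rw [mem_normalizer_iff]
  refine fun x => ⟨M.Vn g hg x, fun hx => ?_⟩
  have := M.Vn g⁻¹ (inv_mem hg) _ hx
  have e : g⁻¹ * (g * x * g⁻¹) * g⁻¹⁻¹ = x := by group
  rwa [e] at this

/-- **`N_H(B)` normalises `VP ∩ V`.** -/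
theorem norm_F [CharP F 2] : H ⊓ normalizer (B : Set G) ≤ normalizer ((VP ⊓ V : Subgroup G) : Set G) := by
  have hL := h.nb.ld ⟨0, M.pos⟩
  have hNQ : H ⊓ normalizer (Q : Set G) ≤ normalizer ((VP ⊓ V : Subgroup G) : Set G) := by
    intro g hg
    rw [mem_normalizer_iff_cj, cj_inf, cj_eq_of_mem_normalizer (h.NQ hg),
      cj_eq_of_mem_normalizer (h.VnH (mem_inf.1 hg).1)]
  have hTB : T ≤ H ⊓ normalizer (B : Set G) := le_inf h.syl.1 hL.TB
  refine MinSimple.MinParabolic.le_of_forall hTB (fun g hg => ?_) fun R hR hRle => ?_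
  · obtain ⟨⟨hgH, -⟩, hgT⟩ := hg
    exact hNQ ⟨hgH, h.NT ⟨hgH, hgT⟩⟩
  · have hRH := hRle.trans inf_le_left
    have hRB := hRle.trans inf_le_right
    rcases h.par R hR hRH hRB with h1 | h1
    · exact (le_inf hRH h1).trans hNQ
    · have hsyl : Syl T R := ⟨hR.le, h.syl.2.1, fun Q' hQ' h2 hle => h.syl.2.2 Q' (hQ'.trans hRH) h2 hle⟩
      rw [← Dich.oddGen_sup_syl hsyl]
      refine sup_le (fun x hx => ?_) ((le_inf h.syl.1 h.TQ).trans hNQ)
      have hxR := oddGen_le R hx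
      have hxA : x ∈ AA M := oddGen_le_AA h.syl (MinSimple.VModule.oddGen_mono hRH hx)
      have hxX := h.BX (hRB hxR)
      have hxz := h1 x hxR
      have hcen : ∀ v ∈ VP ⊓ V, x * v = v * x := fun v hv =>
        cent_lines h.nb h.zV ((h.mem z).1 h.zP).1 h.zi hxA hxX hxz hv.2 ((h.mem v).1 hv.1).1
      exact centralizer_le_normalizer _ (mem_centralizer_iff.2 fun v hv => (hcen v hv).symm)

/-- **The lines are centralised by `Q`.** -/
theorem cent_c [Finite F] [CharP F 2] (hF : 2 < Nat.card F) (i : Fin k) : ∀ q ∈ Q, ∀ x ∈ c i, q * x = x * q := by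
  have hL := h.nb.ld i
  have hpb := h.nb.pb i
  have hN1 : ∀ v, v ∈ Wn M i ⊓ X ↔ v ∈ Li M i := by
    intro v
    constructor
    · rintro ⟨hv, hvX⟩
      exact ⟨hv.1, hv.2, (hL.mem v hv.1).1 hvX i⟩
    · intro hv
      exact ⟨⟨hv.1, hv.2.1⟩, hL.LiZ i hv⟩
  have htor : ∀ a ∈ Li M i, a ∉ D → ∀ b ∈ Li M i, b ∉ D →
      ∃ τ ∈ K i, τ ∈ normalizer (B : Set G) ∧ τ * a * τ⁻¹ * b⁻¹ ∈ D := fun a ha haD b hb hbD =>
    hpb.tor a ((hN1 a).2 ha) haD b ((hN1 b).2 hb) hbD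
  have hQc : ∀ v ∈ VP ⊓ V, ∀ q ∈ Q, q * v = v * q := fun v hv => ((h.mem v).1 hv.1).2
  have hτF : ∀ τ ∈ K i, τ ∈ normalizer (B : Set G) → ∀ v ∈ VP ⊓ V, τ * v * τ⁻¹ ∈ VP ⊓ V := fun τ hτ hτB v hv =>
    (mem_normalizer_iff.1 (h.norm_F ⟨hL.LH hτ, hτB⟩) v).1 hv
  -- the component of `z`
  have hz1 : ∀ j, M.nat.e z j 1 = 0 := (hL.mem z h.zV).1 ((h.mem z).1 h.zP).1
  obtain ⟨y, hy, ey⟩ := exists_line M i (M.nat.e z i 0)
  have hyD : y ∉ D := by
    intro hyD
    rw [D_e (M := M) hyD] at ey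
    exact h.zi i (ext2 ey.symm (hz1 i))
  obtain ⟨a, ha0, ha1⟩ : ∃ a : F, a ≠ 0 ∧ a ≠ M.nat.e z i 0 := by
    by_contra hcon
    push Not at hcon
    have h1 : (Set.univ : Set F) ⊆ {0, M.nat.e z i 0} := by
      intro x _
      by_cases hx : x = 0
      · exact Or.inl hx
      · exact Or.inr (hcon x hx)
    have h2 := Set.ncard_le_ncard h1 (Set.toFinite _)
    rw [Set.ncard_univ] at h2
    have h4 := Set.ncard_insert_le (0 : F) {M.nat.e z i 0}
    rw [Set.ncard_singleton] at h4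
    omega
  obtain ⟨w, hw, ew⟩ := exists_line M i a
  have hwD : w ∉ D := by
    intro hwD
    rw [D_e (M := M) hwD] at ew
    exact ha0 ew.symm
  obtain ⟨τ, hτ, hτB, hτD⟩ := htor y hy hyD w hw hwD
  have hzF : z ∈ VP ⊓ V := ⟨h.zP, h.zV⟩
  have hτH := hL.LH hτ
  -- `x = [z, τ]` is in the `i`-th line
  set x := τ * z * τ⁻¹ * z⁻¹ with hx
  have hxF : x ∈ VP ⊓ V := mul_mem (hτF τ hτ hτB z hzF) (inv_mem hzF)
  have hzy : z * y⁻¹ ∈ ⨆ j, Li M j := by
    refine mem_iSup_Li (mul_mem h.zV (inv_mem hy.1)) fun j => ?_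
    rw [M.map_div h.zV hy.1, Pi.sub_apply, Pi.sub_apply, hz1 j]
    by_cases hji : j = i
    · subst hji; rw [hy.2.2, sub_zero]
    · rw [hy.2.1 j hji, Pi.zero_apply, sub_zero]
  have hzyi : M.nat.e (z * y⁻¹) i = 0 := by
    rw [M.map_div h.zV hy.1, Pi.sub_apply, sub_eq_zero]
    exact ext2 ey.symm (by rw [hz1, hy.2.2])
  -- `τ` centralises `z y⁻¹`
  have hcen : ∀ v ∈ V, (∀ j, M.nat.e v j 1 = 0) → M.nat.e v i = 0 → τ * v = v * τ := by
    classical
    have key : ∀ s : Finset (Fin k), ∀ v ∈ V, (∀ j, M.nat.e v j 1 = 0) → M.nat.e v i = 0 →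
        (∀ j ∉ s, M.nat.e v j = 0) → τ * v = v * τ := by
      intro s
      induction s using Finset.induction_on with
      | empty =>
        intro v hv _ _ h1
        have h2 : v ∈ D := (M.nat.ker v hv).1 (funext fun j => h1 j (Finset.notMem_empty j))
        exact hL.cD τ hτ v h2
      | insert m s hm ih =>
        intro v hv h0 hi0 h1
        by_cases hmi : m = i
        · refine ih v hv h0 hi0 fun j hj => ?_
          by_cases hji : j = i
          · rw [hji]; exact hi0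
          · exact h1 j fun h => (Finset.mem_insert.1 h).elim (fun e => hji (e.trans hmi)) hj
        · obtain ⟨u, hu, eu⟩ := exists_line M m (M.nat.e v m 0)
          have hvu : v * u⁻¹ ∈ V := mul_mem hv (inv_mem hu.1)
          have h2 := ih (v * u⁻¹) hvu (fun j => ?_) ?_ fun j hj => ?_
          · have h3 := hL.LW τ hτ m hmi u hu
            have c1 : Commute τ (v * u⁻¹) := h2
            have c2 : Commute τ u := h3
            have c3 := c1.mul_right c2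
            rw [inv_mul_cancel_right] at c3
            exact c3.eq
          · rw [M.map_div hv hu.1, Pi.sub_apply, Pi.sub_apply, h0 j]
            by_cases hjm : j = m
            · subst hjm; rw [hu.2.2, sub_zero]
            · rw [hu.2.1 j hjm, Pi.zero_apply, sub_zero]
          · rw [M.map_div hv hu.1, Pi.sub_apply, hi0, hu.2.1 i (Ne.symm hmi), sub_zero]
          · rw [M.map_div hv hu.1, Pi.sub_apply]
            by_cases hjm : j = m
            · subst hjm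
              rw [sub_eq_zero]
              exact ext2 eu.symm (by rw [h0, hu.2.2])
            · rw [h1 j (fun h => (Finset.mem_insert.1 h).elim hjm hj), hu.2.1 j hjm, sub_zero]
    intro v hv h0 hi0
    exact key Finset.univ v hv h0 hi0 fun j hj => absurd (Finset.mem_univ j) hj
  have hzy1 : τ * (z * y⁻¹) = z * y⁻¹ * τ := hcen _ (mul_mem h.zV (inv_mem hy.1)) (fun j => by
    rw [M.map_div h.zV hy.1, Pi.sub_apply, Pi.sub_apply, hz1 j]
    by_cases hji : j = i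
    · subst hji; rw [hy.2.2, sub_zero]
    · rw [hy.2.1 j hji, Pi.zero_apply, sub_zero]) hzyi
  have hτy : τ * y * τ⁻¹ ∈ V := M.Vn τ hτH y hy.1
  have hxe : x = τ * y * τ⁻¹ * y⁻¹ := by
    have h1 : z * y⁻¹ * (y * z⁻¹) = 1 := by group
    calc x = (τ * (z * y⁻¹)) * y * τ⁻¹ * z⁻¹ := by rw [hx]; group
      _ = (z * y⁻¹) * (τ * y * τ⁻¹ * z⁻¹) := by rw [hzy1]; group
      _ = (z * y⁻¹) * (τ * y * τ⁻¹ * y⁻¹ * (y * z⁻¹)) := by group
      _ = (z * y⁻¹) * ((y * z⁻¹) * (τ * y * τ⁻¹ * y⁻¹)) := by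
        rw [M.Vcomm (mul_mem hτy (inv_mem hy.1)) (mul_mem hy.1 (inv_mem h.zV))]
      _ = τ * y * τ⁻¹ * y⁻¹ := by rw [← mul_assoc, h1, one_mul]
  have hxV : x ∈ V := hxF.2
  -- coordinates of `x`
  have hτe : M.nat.e (τ * y * τ⁻¹) = M.nat.e w := by
    have h1 := D_e (M := M) hτD
    rwa [M.map_div hτy hw.1, sub_eq_zero] at h1
  have hxLi : x ∈ Li M i := by
    refine ⟨hxV, fun j hj => ?_, ?_⟩
    · rw [hxe, M.map_div hτy hy.1, hτe, Pi.sub_apply, hw.2.1 j hj, hy.2.1 j hj, sub_zero]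
    · rw [hxe, M.map_div hτy hy.1, hτe, Pi.sub_apply, Pi.sub_apply, hw.2.2, hy.2.2, sub_zero]
  have hxD : x ∉ D := by
    intro hxD
    have h1 := D_e (M := M) hxD
    rw [hxe, M.map_div hτy hy.1, hτe, sub_eq_zero] at h1
    apply ha1
    rw [← ew, h1, ey]
  -- `Q` fixes `i`
  have hQi : ∀ q ∈ Q, MvI M q i i := by
    intro q hq
    have hqT := h.QT hq
    have hqH := hL.TH hqT
    obtain ⟨m, hm⟩ := MvI.ex M hqH i
    by_cases hmi : m = i
    · rwa [hmi] at hm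
    · exfalso
      apply hxD
      have h1 := hm.Li hL.TH hqT hxLi
      rw [hQc x hxF q hq, mul_inv_cancel_right] at h1
      exact Li_D hxLi (by rw [h1.2.1 i (Ne.symm hmi)]; rfl)
  -- every element of the line is in `(VP ∩ V) D`
  intro q hq v hv
  have hqT := h.QT hq
  have hvLi := h.nb.co.le i hv
  by_cases hvD : v ∈ D
  · rw [h.nb.co.dis i v hv hvD, mul_one, one_mul]
  · obtain ⟨σ, hσ, hσB, hσD⟩ := htor x hxLi hxD v hvLi hvD
    have hf : σ * x * σ⁻¹ ∈ VP ⊓ V := hτF σ hσ hσB x hxF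
    set f := σ * x * σ⁻¹ with hf'
    have hqf := hQc f hf q hq
    have hd : f * v⁻¹ ∈ D := hσD
    have hqd := M.Dn q (hL.TH hqT) _ hd
    have h1 : q * v * q⁻¹ * v⁻¹ ∈ D := by
      have e : q * v * q⁻¹ * v⁻¹ = (q * (f * v⁻¹) * q⁻¹)⁻¹ * (f * v⁻¹) := by
        calc q * v * q⁻¹ * v⁻¹ = q * v * q⁻¹ * f⁻¹ * (f * v⁻¹) := by group
          _ = q * v * (f⁻¹ * q⁻¹) * (f * v⁻¹) := by
            have h2 : q⁻¹ * f⁻¹ = f⁻¹ * q⁻¹ := by
              rw [← mul_inv_rev, ← mul_inv_rev, hqf]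
            rw [mul_assoc (q * v), h2]
          _ = _ := by group
      rw [e]
      exact mul_mem (inv_mem hqd) hd
    have h2 : q * v * q⁻¹ ∈ c i := by
      rw [← h.nb.co.conj q hqT i i (hQi q hq)]
      exact ⟨v, hv, rfl⟩
    have h3 := h.nb.co.dis i _ (mul_mem h2 (inv_mem hv)) h1
    exact mul_inv_eq_iff_eq_mul.1 (mul_inv_eq_one.1 h3)

/-- `c i ≤ VP` -/
theorem c_le [Finite F] [CharP F 2] (hF : 2 < Nat.card F) (i : Fin k) : c i ≤ VP := fun x hx =>
  (h.mem x).2 ⟨(h.nb.ld i).LiZ i (h.nb.co.le i hx), fun q hq => h.cent_c hF i q hq x hx⟩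

end Hyp

end Cfsg.Agent.Omega.OM.LowT.LinCore

end

end

-- merged: Cfsg.Agent.Mrg.Omega.OM.Lev.Low.TorusK.LocFam
section

section


/-!
# TORUS, `k ≥ 4`: (LOC) of helper607 #23961 for a family of blocks

One block `K i` over every line `W i`, `F i = [N i, K i]`: `X ∏ F i` is abelian, contained in `B₀`, and normalised by
all `K i`.
-/

set_option autoImplicit false
set_option linter.unusedSectionVars false

namespace Cfsg.Agent.Omega.OM.Lev.Low.TorusK

open Subgroup Cfsg Cfsg.Agent.ZN Cfsg.Agent.ZN.ChoiceBase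
open Cfsg.Agent.Omega.SQ1.Bau (mem_sup_comm card_sup_comm elem_comm elem_sq)
open Cfsg.Agent.Omega.OM.Lev.Uni (FrL)
open Cfsg.Agent.Omega.OM.Lev.Low.TorusK.PBC
open scoped commutatorElement

universe u

variable {G : Type u} [Group G] {ι : Type} {S B Q V Xn ZJ B0 X M0 Y0 : Subgroup G} {L W Z C A : ι → Subgroup G} {z : G}
  {K N N1 N0 : ι → Subgroup G}

namespace Loc

/-- `F i`, `F j` commute -/
theorem fam_comm [Finite G] (h : TK S B Q V Xn ZJ B0 X M0 Y0 L W Z C A z)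
    (bk : ∀ i, BK B B0 X M0 Y0 W i (K i) (N i) (N1 i) (N0 i)) (i j : ι) {u v : G} (hu : u ∈ (⁅N i, K i⁆ : Subgroup G))
    (hv : v ∈ (⁅N j, K j⁆ : Subgroup G)) : u * v = v * u := comm_all h (bk i) (bk j) hu hv

/-- **(LOC)** : all `K i` normalise `X ∏ F j`. -/
theorem fam_norm [Finite G] [Finite ι] (h : TK S B Q V Xn ZJ B0 X M0 Y0 L W Z C A z)
    (bk : ∀ i, BK B B0 X M0 Y0 W i (K i) (N i) (N1 i) (N0 i)) (i : ι) :
    K i ≤ normalizer ((X ⊔ ⨆ j, ⁅N j, K j⁆ : Subgroup G) : Set G) := by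
  have hF : ∀ j, (⁅N j, K j⁆ : Subgroup G) ≤ X ⊔ ⨆ j, ⁅N j, K j⁆ := fun j =>
    (le_iSup (fun j => (⁅N j, K j⁆ : Subgroup G)) j).trans le_sup_right
  have key : ∀ g ∈ K i, cj g (X ⊔ ⨆ j, ⁅N j, K j⁆) ≤ X ⊔ ⨆ j, ⁅N j, K j⁆ := by
    intro g hg
    rw [cj_le_iff]
    have hcj : ∀ y : G, y ∈ cj g⁻¹ (X ⊔ ⨆ j, ⁅N j, K j⁆) ↔ g * y * g⁻¹ ∈ X ⊔ ⨆ j, ⁅N j, K j⁆ := fun y => by
      rw [mem_cj', inv_inv]
    refine sup_le (fun x hx => (hcj x).2 ?_) (iSup_le fun j v hv => (hcj v).2 ?_)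
    · have h1 := mul_mem (hF i ((bk i).act h hg hx)) (mem_sup_left hx : x ∈ X ⊔ ⨆ j, ⁅N j, K j⁆)
      rwa [inv_mul_cancel_right] at h1
    · by_cases e : i = j
      · subst e
        exact hF i ((mem_normalizer_iff.1 ((bk i).pb.LV hg) v).1 hv)
      · have h1 := pair_norm h e (bk i) (bk j) ((bk j).inf_X h).le hg hv
        have h2 : ⁅N i, K i⁆ ⊔ ⁅N j, K j⁆ ⊔ X ≤ X ⊔ ⨆ j, ⁅N j, K j⁆ := sup_le (sup_le (hF i) (hF j)) le_sup_left
        exact h2 h1
  intro g hg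
  rw [mem_normalizer_iff_cj]
  refine le_antisymm (key g hg) ?_
  have h1 := cj_mono g (key g⁻¹ (inv_mem hg))
  rwa [cj_cj, mul_inv_cancel, cj_one] at h1

end Loc

end Cfsg.Agent.Omega.OM.Lev.Low.TorusK

end

section


/-!
# TORUS, `k ≥ 3` (helper607 #23961): the last page over `TK` and `Fam`

* `Fam.false_of` : a frame `TK`, a family `Fam` and (theta) are a contradiction.
-/

set_option autoImplicit false
set_option linter.unusedSectionVars false
set_option linter.unusedVariables false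

namespace Cfsg.Agent.Omega.OM.Lev.Low.TorusK.EndFam

open Subgroup Cfsg Cfsg.Agent.ZN Cfsg.Agent.ZN.ChoiceBase
open Cfsg.Agent.Omega.OM.Lev.Low

universe u

variable {G : Type u} [Group G]

variable {ι : Type} {S B Q V Xn ZJ B0 X M0 Y0 : Subgroup G} {L W Z C A : ι → Subgroup G} {z : G}

/-- **The last page.** -/
theorem false_of [Finite G] [Finite ι] [Nonempty ι] (h : TK S B Q V Xn ZJ B0 X M0 Y0 L W Z C A z)
    {K N N1 N0 : ι → Subgroup G} (f : Fam S B B0 X M0 Y0 W K N N1 N0)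
    (theta : ∀ m, ∃ R ≤ K m, K m ≤ normalizer (R : Set G) ∧ K m ≤ R ⊔ B0 ∧
      ∀ l, l ≠ m → R ≤ centralizer ((⁅N l, K l⁆ : Subgroup G) : Set G)) : False := by
  obtain ⟨i0⟩ := (inferInstance : Nonempty ι)
  refine EndTK.false_BL h (i0 := i0) f.bk (fun m => (f.bk m).n4 h) (fun m => (f.bk m).inf_X h) f.chi ?_ theta
    ((f.na i0).lines h (f.bk i0))
  intro m
  obtain ⟨s, hs, e, e'⟩ := f.conj i0 m
  exact ⟨s, hs, e', e⟩

/-- **One block.** -/
theorem false_one [Finite G] [Finite ι] (h : TK S B Q V Xn ZJ B0 X M0 Y0 L W Z C A z) {l : ι}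
    {K N N1 N0 : Subgroup G} (k : BK B B0 X M0 Y0 W l K N N1 N0) (a : NA B K N)
    (theta : ∀ K N N1 N0 : ι → Subgroup G, Fam S B B0 X M0 Y0 W K N N1 N0 → ∀ m,
      ∃ R ≤ K m, K m ≤ normalizer (R : Set G) ∧ K m ≤ R ⊔ B0 ∧
        ∀ l, l ≠ m → R ≤ centralizer ((⁅N l, K l⁆ : Subgroup G) : Set G)) : False := by
  have : Nonempty ι := ⟨l⟩
  obtain ⟨K, N, N1, N0, f⟩ := exists_fam h k a
  exact false_of h f (theta K N N1 N0 f)

end Cfsg.Agent.Omega.OM.Lev.Low.TorusK.EndFam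

end

end

-- merged: Cfsg.Agent.Mrg.Omega.OM.Lev.Low.TorusK.LocIn
section

section


/-!
# TORUS, `q = 2`, `k ≥ 2`: the local inputs of the frame of helper607 #23961 from `Ln` + `Bg`

* `syl` : `B` is a Sylow 2-subgroup of `C_G(Z p : p ≠ l)`;
* `loc1`, `loc2` : `E = Ω₁Z(O₂(C_G(Z p : p ≠ l, m)))` is elementary abelian, `Z_J ≤ E ≤ B`, normalised by this centraliser;
* `exists_z` : `Ω₁Z(S) = {1, z}`, `z ∈ Z_J` of full support;
* `fact` : a local `H ≥ S` is generated by `N_H(Ω₁Z(lev S j))` and `C_H(z)`.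
-/

set_option autoImplicit false
set_option linter.unusedSectionVars false

namespace Cfsg.Agent.Omega.OM.Lev.Low.TorusK.LocIn

open Subgroup Cfsg Cfsg.Agent.ZN.ChoiceBase Cfsg.Agent.ZN.ChoiceSit
open Cfsg.Agent.ZN (jj zj bau zc zl o2)
open Cfsg.Agent.Omega.MinPar (IsLoc IsPar IsParS)
open Cfsg.Agent.Omega.OM.Lev.Uni (FrL)
open Cfsg.Agent.Omega.OM.SwapL (Ln ZL BL)
open Cfsg.Agent.Omega.NO3S.EThree.Frame (Bg)
open Cfsg.Agent.Omega.NO3S.Level (lev lev_mono lev_isLev lev_le)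
open Cfsg.Agent.Omega.OM.Lev.Low.Line (Full)
open Cfsg.Agent.Omega.EK3.Q.Loc (YI CI mem_YI mem_CI)

universe u

variable {G : Type u} [Group G] [Finite G] {ι : Type} [Finite ι] {S : Sylow 2 G} {P : Subgroup G} {n : ℕ}
  {L W Z C A : ι → Subgroup G}

/-- An element of `N_G(B)` which centralises `Z p` for all `p ≠ l` centralises `Z_J`. -/
theorem mem_cent (hL : Ln S P n L W Z C A 2)
    (hB : Bg S P (BL (S : Subgroup G) n) (ZL (S : Subgroup G) n) L W Z C 2) {l : ι} {t : G}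
    (ht : t ∈ normalizer (BL (S : Subgroup G) n : Set G))
    (hc : ∀ p, p ≠ l → ∀ x ∈ Z p, t * x = x * t) : t ∈ centralizer (ZL (S : Subgroup G) n : Set G) := by
  obtain ⟨j, hj, -, -⟩ := SwapL.perm hL ht l
  have hjl : j = l := by
    by_contra hne
    have h1 : cj t (Z j) = Z j := by
      have h2 : t ∈ centralizer (Z j : Set G) := mem_centralizer_iff.2 fun x hx => (hc j hne x hx).symm
      exact cj_eq_of_mem_normalizer (centralizer_le_normalizer _ h2)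
    have h2 := hj.trans h1.symm
    have h3 := congrArg (cj t⁻¹) h2
    rw [cj_inv_cj, cj_inv_cj] at h3
    exact hne (SwapL.Z_inj hL h3).symm
  rw [hjl] at hj
  have hl : ∀ z ∈ Z l, z * t = t * z := fun z hz => (SwapL.cent_of_cj hL hj hz).symm
  exact EK3.Q.Loc.mem_D hB (i := l) (j := l) (mem_CI.2 fun p hp _ z hz => (hc p hp z hz).symm) hl hl

/-- **(syl)** `B` is a Sylow 2-subgroup of `C_G(Z p : p ≠ l)`. -/
theorem syl (hL : Ln S P n L W Z C A 2)
    (hB : Bg S P (BL (S : Subgroup G) n) (ZL (S : Subgroup G) n) L W Z C 2) :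
    ∀ (l : ι) (T : Subgroup G), IsPGroup 2 T → BL (S : Subgroup G) n ≤ T →
      (∀ p, p ≠ l → T ≤ centralizer (Z p : Set G)) → T ≤ BL (S : Subgroup G) n := by
  intro l T hT hBT hc
  refine EK3.Q.Loc.le_B_of hB hT (fun t ht => ?_) (hBT.trans le_normalizer)
  exact mem_cent hL hB (l := l) (hB.le_norm_B hT hBT ht) fun p hp x hx =>
    (mem_centralizer_iff.1 (hc p hp ht) x hx).symm

/-- **(loc2)**, strong form: `E = Ω₁Z(O₂(C_G(Z p : p ≠ l, m)))`. -/
theorem loc2' (hB : Bg S P (BL (S : Subgroup G) n) (ZL (S : Subgroup G) n) L W Z C 2) {l m r : ι} (hl : r ≠ l)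
    (hm : r ≠ m) : ∃ E : Subgroup G, IsElementaryAbelian 2 E ∧ E ≤ BL (S : Subgroup G) n ∧
      ZL (S : Subgroup G) n ≤ E ∧ ∀ g : G, (∀ p, p ≠ l → p ≠ m → ∀ x ∈ Z p, g * x = x * g) →
        g ∈ normalizer (E : Set G) := by
  refine ⟨zc (o2 (CI Z l m)), NO3S.OneLine.zc_elem _, (zc_le _).trans (EK3.Q.Loc.o2CI_le_B hB l m),
    EK3.Q.Loc.ZJ_le_zc hB hl hm, fun g hg => EK3.Q.Loc.le_normalizer_zc_o2 hB _ ?_⟩
  exact mem_CI.2 fun p hp hp' z hz => (hg p hp hp' z hz).symm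

/-- **(loc1)** -/
theorem loc1 (hB : Bg S P (BL (S : Subgroup G) n) (ZL (S : Subgroup G) n) L W Z C 2) :
    ∀ l : ι, ∃ E : Subgroup G, IsElementaryAbelian 2 E ∧ E ≤ BL (S : Subgroup G) n ∧
      ZL (S : Subgroup G) n ≤ E ∧ ∀ g : G, (∀ p, p ≠ l → ∀ x ∈ Z p, g * x = x * g) →
        g ∈ normalizer (E : Set G) := by
  intro l
  obtain ⟨r, hr⟩ := hB.two l
  obtain ⟨E, h1, h2, h3, h4⟩ := loc2' hB hr hr
  exact ⟨E, h1, h2, h3, fun g hg => h4 g fun p hp _ => hg p hp⟩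

/-- **(loc2)**: `k ≥ 3`. -/
theorem loc2 (hB : Bg S P (BL (S : Subgroup G) n) (ZL (S : Subgroup G) n) L W Z C 2)
    (h3 : ∀ l m : ι, ∃ r, r ≠ l ∧ r ≠ m) :
    ∀ l m : ι, l ≠ m → ∃ E : Subgroup G, IsElementaryAbelian 2 E ∧ E ≤ (S : Subgroup G) ∧
      (∀ x ∈ Z l, ∀ y ∈ Z m, x ≠ 1 → y ≠ 1 → x * y ∈ E) ∧
      ∀ g : G, (∀ p, p ≠ l → p ≠ m → ∀ x ∈ Z p, g * x = x * g) → g ∈ normalizer (E : Set G) := by
  intro l m _
  obtain ⟨r, hl, hm⟩ := h3 l m
  obtain ⟨E, h1, h2, h4, h5⟩ := loc2' hB hl hm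
  exact ⟨E, h1, h2.trans hB.BS, fun x hx y hy _ _ =>
    mul_mem (h4 (hB.fr.Z_le l hx)) (h4 (hB.fr.Z_le m hy)), h5⟩

omit [Finite ι] [Finite G] in
/-- a third index -/
theorem third {k : ℕ} (hk : 3 ≤ k) (i j : Fin k) : ∃ l, l ≠ i ∧ l ≠ j := by
  by_contra hcon
  push Not at hcon
  have h1 : ∀ l : Fin k, l = i ∨ l = j := fun l => by
    by_cases hl : l = i
    · exact Or.inl hl
    · exact Or.inr (hcon l hl)
  have h2 : (Finset.univ : Finset (Fin k)) ⊆ {i, j} := fun l _ => by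
    rcases h1 l with rfl | rfl <;> simp
  have h3 := Finset.card_le_card h2
  rw [Finset.card_univ, Fintype.card_fin] at h3
  have h4 : ({i, j} : Finset (Fin k)).card ≤ 2 := Finset.card_le_two
  omega

/-- an element of `S` centralising `X_j = Ω₁Z(lev S j)` lies in `B_j` -/
theorem mem_B0 {j : ℕ} {e : G} (he : e ∈ (S : Subgroup G))
    (hc : e ∈ centralizer (zc (lev (S : Subgroup G) j) : Set G)) : e ∈ LevB.BL (S : Subgroup G) j := ⟨he, hc⟩

omit [Finite ι] in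
/-- `Ω₁Z(S) ≤ Z_J` -/
theorem zc_le_ZJ (hB : Bg S P (BL (S : Subgroup G) n) (ZL (S : Subgroup G) n) L W Z C 2) :
    zc (S : Subgroup G) ≤ ZL (S : Subgroup G) n := by
  intro x hx
  obtain ⟨h1, h2, h3⟩ := ZN.ChoiceBase.mem_zc.1 hx
  have hZB : ZL (S : Subgroup G) n ≤ BL (S : Subgroup G) n := hB.fr.ZJV.trans hB.fr.VB
  have hxB : x ∈ BL (S : Subgroup G) n := hB.mem_B h1 fun z hz => (h3 z (hB.BS (hZB hz))).symm
  rw [← hB.fr.zcB]
  exact ZN.ChoiceBase.mem_zc.2 ⟨hxB, h2, fun y hy => h3 y (hB.BS hy)⟩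

/-- **`Ω₁Z(S) = {1, z}`**, `z ∈ Z_J` of full support. -/
theorem exists_z (hL : Ln S P n L W Z C A 2)
    (hB : Bg S P (BL (S : Subgroup G) n) (ZL (S : Subgroup G) n) L W Z C 2) :
    ∃ z ∈ ZL (S : Subgroup G) n, Full C z ∧ z ≠ 1 ∧ z ∈ zc (S : Subgroup G) ∧
      ∀ x ∈ zc (S : Subgroup G), x ≠ 1 → x = z := by
  obtain ⟨z, hz, hf⟩ := Line.exists_full hL.fr
  have hne : ∃ i : ι, True := by
    by_contra hcon
    push Not at hcon
    have hι : ∀ i : ι, False := fun i => hcon i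
    have h1 := hL.hyp.zc_ne
    apply h1
    rw [eq_bot_iff]
    intro x hx
    rw [mem_bot]
    exact hB.fr.C0 x (hB.fr.ZJV (zc_le_ZJ hB hx)) fun i => (hι i).elim
  obtain ⟨i₀, -⟩ := hne
  have hz1 : z ≠ 1 := by
    rintro rfl
    exact hf i₀ (one_mem _)
  refine ⟨z, hz, hf, hz1, ?_, fun x hx hx1 => ?_⟩
  · exact ZN.ChoiceBase.mem_zc.2 ⟨hB.BS (hB.fr.VB (hB.fr.ZJV hz)), hB.fr.Vsq (hB.fr.ZJV hz),
      fun s hs => Line.S_cent hL hB hz hf hs⟩
  · have hxJ := zc_le_ZJ hB hx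
    have hxs := (ZN.ChoiceBase.mem_zc.1 hx).2.2
    refine Line.full_unique hL.fr hxJ hz (fun j hj => hx1 ?_) hf
    refine hB.fr.C0 x (hB.fr.ZJV hxJ) fun i => ?_
    obtain ⟨s, hs, e⟩ := hB.trans j i
    obtain ⟨σ, hσ⟩ := hB.perm_S hs
    have h1 : σ j = i := hB.W_inj ((hσ j).1.symm.trans e)
    have h2 : s * x * s⁻¹ ∈ cj s (C j) := ⟨x, hj, rfl⟩
    rw [(hσ j).2.2, h1, hxs s hs, mul_inv_cancel_right] at h2
    exact h2

/-- **(fact)**, for any `z` with `Ω₁Z(S) = {1, z}`. -/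
theorem fact' (S : Sylow 2 G) {H : Subgroup G} (hH : IsLoc (S : Subgroup G) H) {n j : ℕ} (hj : j ≤ n)
    (hall : ∀ R, IsParS (S : Subgroup G) R → lev (S : Subgroup G) n ≤ o2 R) {z : G} (hz : z ∈ zc (S : Subgroup G))
    (hz1 : z ≠ 1) (hzS : ∀ x ∈ zc (S : Subgroup G), x ≠ 1 → x = z) :
    H ≤ (H ⊓ normalizer (zc (lev (S : Subgroup G) j) : Set G)) ⊔ (H ⊓ centralizer ({z} : Set G)) := by
  have hlv := lev_isLev (S : Subgroup G) j
  refine hH.le_of_forall S ?_ fun Y hY hYH => ?_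
  · refine le_trans (le_inf inf_le_left fun g hg => ?_) le_sup_left
    exact NO3S.Level.normalizer_le_zc _ (hlv.norm _ hlv.le le_rfl hg.2)
  · by_cases hZ : Y ≤ normalizer (zc (S : Subgroup G) : Set G)
    · refine le_trans (le_inf hYH fun g hg => ?_) le_sup_right
      rw [mem_centralizer_singleton_iff]
      have h1 : g * z * g⁻¹ ∈ zc (S : Subgroup G) := (mem_normalizer_iff.1 (hZ hg) z).1 hz
      have h2 := hzS _ h1 fun e => hz1 (conj_eq_one_iff.1 e)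
      exact mul_inv_eq_iff_eq_mul.1 h2
    · refine le_trans (le_inf hYH ?_) le_sup_left
      have h1 := hall Y ⟨hY, hZ⟩
      exact (hlv.le_norm_of_o2 ((lev_mono _ hj).trans h1) (hY.isLoc.o2_le S)).trans (NO3S.Level.normalizer_le_zc _)

/-- `S ≤ H ≤ N_G(U)`, `U ≠ 1` a 2-group: `H` is local. -/
theorem isLoc_of (S : Sylow 2 G) {H U : Subgroup G} (hS : (S : Subgroup G) ≤ H) (hU1 : U ≠ ⊥) (hU : IsPGroup 2 U)
    (hn : H ≤ normalizer (U : Set G)) : IsLoc (S : Subgroup G) H := by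
  have : Fact (Nat.Prime 2) := ⟨Nat.prime_two⟩
  refine ⟨hS, fun e => hU1 ?_⟩
  have h1 : IsPGroup 2 (((S : Subgroup G) ⊔ U : Subgroup G)) := IsPGroup.to_sup_of_normal_right' S.isPGroup' hU
    (hS.trans hn)
  have h2 : U ≤ (S : Subgroup G) := by
    have h3 := S.is_maximal' h1 le_sup_left
    rw [← h3]
    exact le_sup_right
  have h4 : U ≤ o2 H := le_o2 hU (h2.trans hS) hn
  rw [e] at h4
  exact le_bot_iff.1 h4

/-- **(fact)** -/
theorem fact (hL : Ln S P n L W Z C A 2)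
    (hB : Bg S P (BL (S : Subgroup G) n) (ZL (S : Subgroup G) n) L W Z C 2)
    (hall : ∀ R, IsParS (S : Subgroup G) R → lev (S : Subgroup G) n ≤ o2 R) :
    ∃ z ∈ ZL (S : Subgroup G) n, Full C z ∧ z ≠ 1 ∧ z ∈ zc (S : Subgroup G) ∧
      (∀ x ∈ zc (S : Subgroup G), x ≠ 1 → x = z) ∧
      ∀ H : Subgroup G, (S : Subgroup G) ≤ H → (∃ U : Subgroup G, U ≠ ⊥ ∧ IsPGroup 2 U ∧ H ≤ normalizer (U : Set G)) →
        ∀ j ≤ n, H ≤ (H ⊓ normalizer (zc (lev (S : Subgroup G) j) : Set G)) ⊔ (H ⊓ centralizer ({z} : Set G)) := by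
  obtain ⟨z, hz, hf, hz1, hzS, hu⟩ := exists_z hL hB
  refine ⟨z, hz, hf, hz1, hzS, hu, fun H hH hU j hj => ?_⟩
  obtain ⟨U, hU1, hU2, hU3⟩ := hU
  exact fact' S (isLoc_of S hH hU1 hU2 hU3) hj hall hzS hz1 hu

end Cfsg.Agent.Omega.OM.Lev.Low.TorusK.LocIn

end

section


/-!
# TORUS, `q = 2`, `k ≥ 3`: the socket `LocOf` of `Low/PlugE.lean`

* `loc_of` : the structure `TorusK.Loc` (any finite index type with at least three elements);
* `locOf` : **`PlugE.LocOf`**.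
-/

set_option autoImplicit false
set_option linter.unusedSectionVars false

namespace Cfsg.Agent.Omega.OM.Lev.Low.TorusK.LocIn

open Subgroup Cfsg Cfsg.Agent.ZN.ChoiceBase Cfsg.Agent.ZN.ChoiceSit
open Cfsg.Agent.ZN (jj zj bau zc zl o2)
open Cfsg.Agent.Omega.MinPar (IsLoc IsPar IsParS)
open Cfsg.Agent.Omega.OM.SwapL (Ln ZL BL)
open Cfsg.Agent.Omega.NO3S.EThree.Frame (Bg)
open Cfsg.Agent.Omega.NO3S.Level (lev)
open Cfsg.Agent.Omega.OM.Lev.Low.Line (Full)
open Cfsg.Agent.Omega.OM.Lev.Low.TorusK (Loc)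

universe u

theorem loc_of {G : Type u} [Group G] [Finite G] {ι : Type} [Finite ι] {S : Sylow 2 G} {P : Subgroup G} {n : ℕ}
    {L W Z C A : ι → Subgroup G} (h3 : ∀ l m : ι, ∃ r, r ≠ l ∧ r ≠ m) (hL : Ln S P n L W Z C A 2)
    (hB : Bg S P (BL (S : Subgroup G) n) (ZL (S : Subgroup G) n) L W Z C 2)
    (hall : ∀ R, IsParS (S : Subgroup G) R → lev (S : Subgroup G) n ≤ o2 R) {j : ℕ} (hj : j ≤ n) {z : G}
    (hz : z ∈ ZL (S : Subgroup G) n) (hf : ∀ i, z ∉ C i) :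
    Loc (S : Subgroup G) (BL (S : Subgroup G) n) (ZL (S : Subgroup G) n) (LevB.BL (S : Subgroup G) j)
      (zc (lev (S : Subgroup G) j)) Z z where
  syl := syl hL hB
  loc1 := loc1 hB
  loc2 := fun l m hlm => by
    obtain ⟨r, hl, hm⟩ := h3 l m
    obtain ⟨E, h1, h2, h4, h5⟩ := loc2' hB hl hm
    exact ⟨E, h1, fun e he hc => mem_B0 (hB.BS (h2 he)) (mem_centralizer_iff.2 fun x hx => (hc x hx).symm),
      fun x hx y hy _ _ => mul_mem (h4 (hB.fr.Z_le l hx)) (h4 (hB.fr.Z_le m hy)), h5⟩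
  fact := fun H hH hU => by
    obtain ⟨z', hz', hf', -, -, -, h6⟩ := fact hL hB hall
    rw [Line.full_unique hL.fr hz hz' hf hf']
    exact h6 H hH hU j hj

/-- **The socket `LocOf`.** -/
theorem locOf : PlugE.LocOf.{u} := fun G _ _ k S P n L W Z C A hk hL hB hall j hj z hz hf =>
  loc_of (third hk) hL hB hall hj hz hf

end Cfsg.Agent.Omega.OM.Lev.Low.TorusK.LocIn

end

section


/-!
# TORUS, `k ≥ 3`: the torus theorem, and the socket `NoLowK`

`torusOf : TorusOf`, `noLowK : NoLowK K`, `uniLevK : UniLevK K` (UNI+ at the levels, `q = 2`, `k ≥ 3`).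
-/

set_option autoImplicit false

namespace Cfsg.Agent.Omega.OM.Lev.Low.TorusK.Done

open Subgroup Cfsg Cfsg.Agent.Omega.OM.Lev.Low Cfsg.Agent.Omega.OM.Lev.Low.TorusK

universe u

/-- **`TorusOf`** (helper607, helper12, helper543, helper472, helper548, helper646). -/
theorem torusOf : PlugE.TorusOf.{u} :=
  fun _ _ _ _ _ _ _ _ _ _ _ _ _ _ _ _ _ _ _ _ _ _ _ _ _ _ h k a =>
    EndFam.false_one h k a fun _ _ _ _ f m =>
      TD.theta ⟨h, f.bk, fun i => Loc.fam_norm h f.bk i, fun i j _ _ hu _ hv => Loc.fam_comm h f.bk i j hu hv⟩ m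

/-- **`NoLowK`.** -/
theorem noLowK {K : Frame.Cls.{u}} : EK3.UniLevK.NoLowK K :=
  PlugE.noLowK_of LocIn.locOf torusOf

/-- **UNI+ at the levels, `q = 2`, `k ≥ 3`.** -/
theorem uniLevK {K : Frame.Cls.{u}} : EK3.OfMul.UniLevK K :=
  EK3.UniLevK.uniLevK_of noLowK

end Cfsg.Agent.Omega.OM.Lev.Low.TorusK.Done

end

end

-- merged: Cfsg.Agent.Mrg.Omega.OM.LowT.Full
section

section


/-!
# TORUS, `q = 2`: (W) (helper607 #23961), over the frame `SWT.Ln P n`

Port of `OM/Lev/Low/Full.lean`.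

* `full_of_conj` : **(W)**: if `z, g z g⁻¹ ∈ Z_J` and `z` has full support then so has `g z g⁻¹`;
* `full_V'` : the same in `V`;
* `line'` : (L) over `Ln` + `Bg`.
-/

set_option autoImplicit false
set_option linter.unusedSectionVars false

namespace Cfsg.Agent.Omega.OM.LowT.Line

open Subgroup Cfsg Cfsg.Agent.ZN.ChoiceBase Cfsg.Agent.ZN.ChoiceSit
open Cfsg.Agent.ZN (jj zj bau zc zl o2)
open Cfsg.Agent.Omega.OM.Lev.Uni (FrL)
open Cfsg.Agent.Omega.OM.SWT (Ln LV)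
open Cfsg.Agent.Omega.OM.Lev.Low.Line
open Cfsg.Agent.Omega.NO3S.EThree.Frame (Bg)
open Cfsg.Agent.Omega.NO3S.Level (lev)

universe u

section W

variable {G : Type u} [Group G] [Finite G] {ι : Type} [Finite ι] {S : Sylow 2 G} {P : Subgroup G} {n : LV S}
  {L W Z C A : ι → Subgroup G}

theorem norm_ZL {y z : G} (hy : y ∈ normalizer (SWT.BT n : Set G)) (hz : z ∈ SWT.ZT n) :
    y * z * y⁻¹ ∈ SWT.ZT n := by
  have h4 := cj_eq_of_mem_normalizer ((SWT.lb n).norm_B_le hy)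
  have h5 : y * z * y⁻¹ ∈ cj y (SWT.ZT n) := ⟨z, hz, rfl⟩
  rwa [h4] at h5

theorem full_norm (hL : Ln P n L W Z C A 2) {y z : G} (hy : y ∈ normalizer (SWT.BT n : Set G))
    (hz : z ∈ SWT.ZT n) (hf : Full C z) : Full C (y * z * y⁻¹) := by
  intro j hj
  obtain ⟨i, -, -, h1⟩ := LowT.perm hL (inv_mem hy) j
  have h2 := (h1 _ (norm_ZL hy hz)).2 hj
  have e : y⁻¹ * (y * z * y⁻¹) * y⁻¹⁻¹ = z := by group
  rw [e] at h2
  exact hf i h2

/-- `S` centralises the element of full support -/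
theorem S_cent (hL : Ln P n L W Z C A 2)
    (hB : Bg S P (SWT.BT n) (SWT.ZT n) L W Z C 2) {z : G}
    (hz : z ∈ SWT.ZT n) (hf : Full C z) {s : G} (hs : s ∈ (S : Subgroup G)) : s * z = z * s := by
  have h1 := hB.S_norm_B hs
  have h2 := full_unique hL.fr (norm_ZL h1 hz) hz (full_norm hL h1 hz hf) hf
  exact mul_inv_eq_iff_eq_mul.1 h2

/-- **(W)** -/
theorem full_of_conj (hL : Ln P n L W Z C A 2)
    (hB : Bg S P (SWT.BT n) (SWT.ZT n) L W Z C 2) {z g : G}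
    (hz : z ∈ SWT.ZT n) (hg : g * z * g⁻¹ ∈ SWT.ZT n) (hf : Full C z) :
    Full C (g * z * g⁻¹) := by
  have : Fact (Nat.Prime 2) := ⟨Nat.prime_two⟩
  obtain ⟨z', hz'⟩ : ∃ z', z' = g * z * g⁻¹ := ⟨_, rfl⟩
  rw [← hz'] at hg ⊢
  have hBz : SWT.BT n ≤ centralizer ({z'} : Set G) := by
    intro b hb
    rw [hB.eqB] at hb
    rw [mem_centralizer_singleton_iff]
    exact (mem_centralizer_iff.1 hb.2 z' hg).symm
  have hSz : ((g • S : Sylow 2 G) : Subgroup G) ≤ centralizer ({z'} : Set G) := by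
    rw [Sylow.coe_subgroup_smul]
    rintro _ ⟨s, hs, rfl⟩
    rw [mem_centralizer_singleton_iff]
    have h1 := S_cent hL hB hz hf hs
    change g * s * g⁻¹ * z' = z' * (g * s * g⁻¹)
    rw [hz']
    calc g * s * g⁻¹ * (g * z * g⁻¹) = g * (s * z) * g⁻¹ := by group
      _ = g * (z * s) * g⁻¹ := by rw [h1]
      _ = _ := by group
  have hB2 : IsPGroup 2 ((SWT.BT n).subgroupOf (centralizer ({z'} : Set G))) :=
    (hB.bau_two).comap_of_injective _ (Subgroup.subtype_injective _)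
  obtain ⟨R, hR⟩ := hB2.exists_le_sylow
  obtain ⟨x, hx⟩ := MulAction.exists_smul_eq (centralizer ({z'} : Set G)) ((g • S).subtype hSz) R
  have h2 : SWT.BT n ≤ cj ((x : G) * g) (S : Subgroup G) := by
    intro b hb
    have h3 : (⟨b, hBz hb⟩ : centralizer ({z'} : Set G)) ∈ R := hR hb
    rw [← hx] at h3
    obtain ⟨⟨c, hc⟩, hc1, e⟩ := h3
    obtain ⟨s, hs, rfl⟩ := hc1
    refine ⟨s, hs, ?_⟩
    have e2 : (x : G) * (g * s * g⁻¹) * (x : G)⁻¹ = b := congrArg Subtype.val e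
    change (x : G) * g * s * ((x : G) * g)⁻¹ = b
    rw [← e2]
    group
  have h3 : cj ((x : G) * g)⁻¹ (SWT.BT n) ≤ (S : Subgroup G) := by
    have := cj_mono ((x : G) * g)⁻¹ h2
    rwa [cj_inv_cj] at this
  have h4 : ((x : G) * g)⁻¹ ∈ normalizer (SWT.BT n : Set G) :=
    mem_normalizer_iff_cj.2 (SWT.wc n (S : Subgroup G) S.isPGroup' (SWT.lb n).BS _ h3)
  have h5 : (x : G) * g ∈ normalizer (SWT.BT n : Set G) := inv_mem_iff.1 h4
  have h6 := full_norm hL h5 hz hf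
  have e : (x : G) * g * z * ((x : G) * g)⁻¹ = z' := by
    have h7 := mem_centralizer_singleton_iff.1 x.2
    calc (x : G) * g * z * ((x : G) * g)⁻¹ = x * (g * z * g⁻¹) * (x : G)⁻¹ := by group
      _ = z' := by rw [← hz', h7]; group
  rwa [e] at h6

/-- **(L)** over `Ln` + `Bg` -/
theorem line' (hL : Ln P n L W Z C A 2)
    (hB : Bg S P (SWT.BT n) (SWT.ZT n) L W Z C 2)
    {c N : Subgroup G} (hcV : c ≤ zl (S : Subgroup G) P) (hc4 : Nat.card c = 4)
    (hfix : ∀ x ∈ zc n.K, ∃ a ∈ c, a * x ∈ N)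
    (htriv : c ⊓ N = ⊥) (hBc : ∀ b ∈ SWT.BT n, ∀ x ∈ c, b * x * b⁻¹ ∈ c)
    (hBN : ∀ b ∈ SWT.BT n, ∀ x ∈ N, b * x * b⁻¹ ∈ N)
    (hZJ : ¬ SWT.ZT n ≤ N) {τ : G} (hτc : ∀ x ∈ c, τ * x * τ⁻¹ ∈ c)
    (hτ1 : ∀ x ∈ c, τ * x * τ⁻¹ = x → x = 1) (hτN : ∀ x ∈ N, τ * x * τ⁻¹ = x) :
    ∃ l, c = W l ∧ (∀ m, m ≠ l → W m ≤ N) ∧ ∀ m, m ≠ l → Z m ≤ N :=
  line hL.fr (tr_of hB) (fun _ hz _ hg hf => full_of_conj hL hB hz hg hf) hcV hc4 hfix htriv hBc hBN hZJ hτc
    hτ1 hτN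

end W

end Cfsg.Agent.Omega.OM.LowT.Line

end

section


/-!
# (LL): minimal parabolics of lower stage, over a general top level

Port of `OM/Lev/Low/LowMain.lean` to the frame `SWT.Ln P n`, `n : LV S`: `qv`, `zc_T_le`, `low_four`.
-/

set_option autoImplicit false
set_option linter.unusedSectionVars false

namespace Cfsg.Agent.Omega.OM.LowT

open Subgroup Cfsg Cfsg.Agent.ZN.ChoiceBase Cfsg.Agent.ZN.ChoiceSit
open Cfsg.Agent.ZN (jj zj bau zc zl o2)
open Cfsg.Agent.MinSimple.MinParabolic (IsMinPar)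
open Cfsg.Agent.Omega.OM.SWT (Ln LV ZT BT)
open Cfsg.Agent.Omega.OM.Lev.Low
open Cfsg.Agent.Omega.NO3S.Level (lev lev_mono lev_isLev Lev lev_le)

universe u

variable {G : Type u} [Group G] [Finite G] {ι : Type} {S : Sylow 2 G} {P : Subgroup G} {n : LV S}
  {L W Z C A : ι → Subgroup G} {q : ℕ}

end Cfsg.Agent.Omega.OM.LowT

end

section


/-!
# The output of (4), (5), (W), `q = 2`, over a general top level

Port of `OM/Lev/Low/YKInst.lean` to the frame `SWT.Ln P n`, `n : LV S` (`yk_nat`, `yk_sym`, `NB'` are frame-free).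
-/

set_option autoImplicit false
set_option linter.unusedSectionVars false

namespace Cfsg.Agent.Omega.OM.LowT

open Subgroup Cfsg Cfsg.Agent.ZN.ChoiceBase Cfsg.Agent.ZN.ChoiceSit
open Cfsg.Agent.ZN (jj zj bau zc zl o2)
open Cfsg.Agent.MinSimple.MinParabolic (IsMinPar)
open Cfsg.Agent.Omega.NO3S.OneLine (NatC natC_of)
open Cfsg.Agent.Omega.OM.Lev.Nat (Wn mem_Wn)
open Cfsg.Agent.Omega.OM.GLev
open Cfsg.Agent.Omega.FFThm (NatKM SymKM)
open Cfsg.Agent.Omega.FrameFF (cv)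
open Cfsg.Agent.Omega.OM.SWT (Ln LV ZT)
open Cfsg.Agent.Omega.OM.Lev.Low hiding OutN exists_out
open Cfsg.Agent.Omega.NO3S.Level (lev lev_mono lev_isLev Lev lev_le)
open scoped commutatorElement

universe u

variable {G : Type u} [Group G] [Finite G]

/-- **The output of (4), (5), (W).** -/
structure OutN {ι : Type} {S : Sylow 2 G} (P : Subgroup G) (n : LV S) (L W Z C A : ι → Subgroup G) (T Y : Subgroup G)
    (j : ℕ) {F : Type} [Field F] {k : ℕ} (M : NatC F T Y (zl T Y) (cv T Y) k) (K Nn c : Fin k → Subgroup G) :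
    Prop where
  inp : Inp P n L W Z C A T Y j K (fun i => Wn M i) Nn c
  nb : NB' M (LevB.BL (S : Subgroup G) j) (zc (lev (S : Subgroup G) j)) K c
  zT : ∀ l, ¬ zc T ≤ Nn l
  wide : ∀ l, ∃ v ∈ zl (S : Subgroup G) P, ∃ a ∈ c l, a * v ∈ Nn l ∧ a ≠ 1 ∧
      ∃ v' ∈ zl (S : Subgroup G) P, ∃ a' ∈ c l, a' * v' ∈ Nn l ∧ a' ≠ 1 ∧ a ≠ a'

/-- **The output of (4), (5), (W), `q = 2`.** -/
theorem exists_out {ι : Type} [Finite ι] {S : Sylow 2 G} {P : Subgroup G} {n : LV S} {L W Z C A : ι → Subgroup G}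
    (h : Ln P n L W Z C A 2) {T Y : Subgroup G} (hT : Syl T Y) (hB : SWT.BT n ≤ T)
    (hP : IsMinPar T Y) (hc : Y ⊓ centralizer (o2 Y : Set G) ≤ o2 Y) (hZ : ¬ Y ≤ centralizer (zc T : Set G)) {j : ℕ}
    (hj : lev (S : Subgroup G) j ≤ n.K) (hlow : ∀ i < j, lev (S : Subgroup G) i ≤ o2 Y) (hnj : ¬ lev (S : Subgroup G) j ≤ o2 Y) :
    ∃ (X : Subgroup G) (AA' : Set (Subgroup G)) (hge : GE T Y X AA')
      (_ : BZ T X AA' (LevB.BL (S : Subgroup G) j) (zc (lev (S : Subgroup G) j))) (_ : ∃ A ∈ AA', ¬ A ≤ o2 Y)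
      (F : Type) (_ : Field F) (_ : Finite F) (_ : CharP F 2) (k : ℕ) (hk : 0 < k)
      (N : NatKM F T Y (zl T Y) (cv T Y) k) (K Nn c : Fin k → Subgroup G),
      OutN P n L W Z C A T Y j (natC_of hge.hm hk N.toNatK) K Nn c := by
  have hBj : LevB.BL (S : Subgroup G) j ≤ T := (BL_le_BT hj).trans hB
  obtain ⟨X, AA', hge, hbz, hex, hcon⟩ := exists_ge S hT hBj hP hc hlow hnj hZ
  have hzT : ∀ {Λ : Type} {K E Nn c : Λ → Subgroup G},
      YK T Y (zc (lev (S : Subgroup G) j)) (LevB.BL (S : Subgroup G) j) K E Nn c → ∀ l, ¬ zc T ≤ Nn l := by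
    intro Λ K E Nn c hyk l hle
    refine hZ ((hyk.sup l).trans (sup_le (NO3S.Level.le_centralizer_zc T) fun x hx => mem_centralizer_iff.2
      fun z hz => ?_))
    have hzX : z ∈ zc (lev (S : Subgroup G) j) :=
      (isLev_le hT.2.1 hBj hz : z ∈ zc (lev (S : Subgroup G) j))
    exact ((hyk.memN l z hzX).1 (hle hz) x hx).symm
  rcases hcon with ⟨F, hF1, hF2, hF3, k, hk, ⟨N⟩⟩ | ⟨k, m, hk, hm, ⟨N⟩⟩
  · obtain ⟨K, Nn, c, hyk, hnb⟩ := yk_nat hge hbz N hk hex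
    have hin : Inp P n L W Z C A T Y j K (fun i => Wn (natC_of hge.hm hk N.toNatK) i) Nn c :=
      ⟨h, hT, hB, hj, hc, hlow, hyk⟩
    have hz := hzT hyk
    exact ⟨X, AA', hge, hbz, hex, F, hF1, hF2, hF3, k, hk, N, K, Nn, c, hin, hnb, hz, hin.wide ⟨⟨0, hk⟩, hz _⟩⟩
  · exfalso
    obtain ⟨ι', hf, ⟨i⟩, W', K, d, hyk, hpb, hd2⟩ := yk_sym hge hbz N hk (by omega) hex
    have hin : Inp P n L W Z C A T Y j K W' (fun i => centralizer (K i : Set G)) (fun i => zpowers (d i)) :=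
      ⟨h, hT, hB, hj, hc, hlow, hyk⟩
    obtain ⟨v, -, a, ha, -, h88⟩ := hin.wide ⟨i, hzT hyk i⟩ i
    revert h88; rintro ⟨ha1, v', -, a', ha', h88⟩
    revert h88; rintro ⟨-, ha1', hne⟩
    have h1 : ∀ x ∈ zpowers (d i), x ≠ 1 → x = d i := by
      intro x hx hx1
      obtain ⟨r, rfl⟩ := mem_zpowers_iff.1 hx
      rcases Int.even_or_odd r with ⟨s, rfl⟩ | ⟨s, rfl⟩
      · exfalso
        apply hx1
        rw [← two_mul, zpow_mul, zpow_ofNat, pow_two, hd2, one_zpow]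
      · rw [zpow_add, zpow_mul, zpow_ofNat, pow_two, hd2, one_zpow, one_mul, zpow_one]
    exact hne ((h1 a ha ha1).trans (h1 a' ha' ha1').symm)
where
  isLev_le {S : Sylow 2 G} {T : Subgroup G} {j : ℕ} (hT : IsPGroup 2 T) (hB : LevB.BL (S : Subgroup G) j ≤ T) :
      zc T ≤ zc (lev (S : Subgroup G) j) :=
    (LevB.isLev_T S hT ((LevB.lb S j).KB.trans hB)).zc_le

end Cfsg.Agent.Omega.OM.LowT

end

section


/-!
# TORUS, `k ≥ 3`, over a general top level: the instances of `TK` and `BK` (helper607's frame)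

Port of `OM/Lev/Low/TorusK/Inst.lean` from `SwapL.Ln` (top level `lev S n`) to `SWT.Ln` (top level `n : LV S`).
`stM`, `stY`, `fml_of`, `Loc` are those of `OM/Lev/Low/TorusK/Inst.lean`.

* `tk_of` : the instance of `TK`;
* `Bk0` : the fields of the block of `R` (`Core.Blk`) which are used;
* `bk_of` : the instance of `BK`.
-/

set_option autoImplicit false
set_option linter.unusedSectionVars false

namespace Cfsg.Agent.Omega.OM.LowT.TorusK

open Subgroup Cfsg Cfsg.Agent.ZN.ChoiceBase Cfsg.Agent.ZN.ChoiceSit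
open Cfsg.Agent.ZN (jj zj bau zc zl o2)
open Cfsg.Agent.Omega.OM.SWT (LV Ln ZT BT)
open Cfsg.Agent.Omega.NO3S.Level (lev lev_mono lev_isLev Lev lev_le BO nxt)
open Cfsg.Agent.Omega.NO3S.EThree.Frame (Bg)
open Cfsg.Agent.Omega.OM.Lev.Low.SetS (S_norm_lev S_norm_zc S_norm_BL)
open Cfsg.Agent.Omega.FrameFF (cv)
open Cfsg.Agent.Omega.OM.Lev.Low.Line (Full)
open Cfsg.Agent.Omega.OM.LowT.Line (full_of_conj S_cent)
open Cfsg.Agent.Omega.OM.Lev.Low.TorusK (TK BK stM stY fml_of Loc)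

open scoped commutatorElement

universe u

variable {G : Type u} [Group G] [Finite G]

section tk

variable {ι : Type} [Finite ι] {S : Sylow 2 G} {P : Subgroup G} {n : LV S} {L W Z C A : ι → Subgroup G}

/-- **The instance of `TK`.** -/
theorem tk_of (hln : Ln P n L W Z C A 2) (hbg : Bg S P (BT n) (ZT n) L W Z C 2) {j : ℕ}
    (hj : lev (S : Subgroup G) j ≤ n.K) {z : G} (hz : z ∈ ZT n) (hzC : ∀ i, z ∉ C i)
    (hloc : Loc (S : Subgroup G) (BT n) (ZT n) (LevB.BL (S : Subgroup G) j) (zc (lev (S : Subgroup G) j)) Z z) :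
    TK (S : Subgroup G) (BT n) (o2 P) (zl (S : Subgroup G) P) (zc n.K) (ZT n) (LevB.BL (S : Subgroup G) j)
      (zc (lev (S : Subgroup G) j)) (stM (S : Subgroup G) j) (stY (S : Subgroup G) j) L W Z C A z where
  fr := hln.fr
  fml := fml_of S j
  two := S.isPGroup'
  BS := hbg.BS
  B0B := BL_le_BT hj
  SB := hbg.S_norm_B
  SB0 := S_norm_BL S j
  SX := S_norm_zc S j
  zB := LevB.zc_B S j
  VX := hln.fr.VX.trans ((lev_isLev (S : Subgroup G) j).zc_le_zc hj n.lev.le)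
  XY := by
    cases j with
    | zero => exact le_top
    | succ m => exact (lev_isLev (S : Subgroup G) m).zc_le_zc (lev_mono _ (Nat.le_succ m)) (lev_le _ _)
  mX := fun s hs hc => mem_inf.2 ⟨hs, mem_centralizer_iff.2 fun x hx => (hc x hx).symm⟩
  cQ := fun x hx hc => by
    have h1 := SWT.qv hln hbg.bau_two le_rfl (D := ⟨_, lev_isLev (S : Subgroup G) j⟩) hj
    exact (h1.mem x).2 ⟨hx, hc⟩
  SM := by
    cases j with
    | zero => exact le_top
    | succ m => exact S_norm_lev S m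
  MY := by
    cases j with
    | zero =>
      show (⊤ : Subgroup G) ≤ normalizer (((⊤ : Subgroup G) : Subgroup G) : Set G)
      intro x _
      rw [mem_normalizer_iff]
      exact fun y => ⟨fun _ => mem_top _, fun _ => mem_top _⟩
    | succ m => exact NO3S.Level.normalizer_le_zc _
  perm := fun s hs i => by
    obtain ⟨σ, hσ⟩ := hbg.perm_S hs
    exact ⟨σ i, hσ i⟩
  tr := hbg.trans
  wt := fun g z hz hg hf => full_of_conj hln hbg hz hg hf
  syl := hloc.syl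
  loc1 := hloc.loc1
  loc2 := hloc.loc2
  zJ := hz
  zS := fun s hs => S_cent hln hbg hz hzC hs
  zC := hzC
  fact := hloc.fact

end tk

/-- **The block of `R`**: the fields of `Core.Blk` which are used. -/
structure Bk0 {ι : Type} {S : Sylow 2 G} (P : Subgroup G) (n : LV S) (L W Z C A : ι → Subgroup G) (R : Subgroup G)
    (j : ℕ) (K N₁ c : Subgroup G) (τ : G) (l : ι) : Prop where
  ln : Ln P n L W Z C A 2
  bg : Bg S P (BT n) (ZT n) L W Z C 2
  jn : lev (S : Subgroup G) j ≤ n.K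
  syl : Syl (BT n) R
  low : ∀ i < j, lev (S : Subgroup G) i ≤ o2 R
  KR : K ≤ R
  pb : PB (LevB.BL (S : Subgroup G) j) K (zl (BT n) R) N₁ (cv (BT n) R) 4
  nK : BT n ≤ normalizer ((⁅zl (BT n) R, K⁆ : Subgroup G) : Set G)
  act : ∀ t ∈ BT n, ∀ k ∈ K, ∃ k' ∈ K, ∀ v ∈ zl (BT n) R,
    t * k * t⁻¹ * v * (t * k * t⁻¹)⁻¹ = k' * v * k'⁻¹
  cN1 : c ≤ N₁
  cD : c ⊓ cv (BT n) R = ⊥
  τK : τ ∈ K
  τB0 : τ ∈ normalizer (LevB.BL (S : Subgroup G) j : Set G)
  τc : cj τ c = c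
  τ1 : ∀ x ∈ c, τ * x * τ⁻¹ = x → x = 1
  /-- `B` normalises `C_X(K)` -/
  fixN : ∀ b ∈ BT n, cj b (zc (lev (S : Subgroup G) j) ⊓ centralizer (K : Set G)) =
    zc (lev (S : Subgroup G) j) ⊓ centralizer (K : Set G)
  /-- (L) -/
  cW : c = W l
  WK : ∀ m, m ≠ l → W m ≤ centralizer (K : Set G)

section bk

variable {ι : Type} {S : Sylow 2 G} {P : Subgroup G} {n : LV S} {L W Z C A : ι → Subgroup G} {R : Subgroup G}
  {j : ℕ} {K N₁ c : Subgroup G} {τ : G} {l : ι}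

/-- `R` normalises the levels `< j` -/
theorem R_norm (h : Bk0 P n L W Z C A R j K N₁ c τ l) {m : ℕ} (hm : m < j) :
    R ≤ normalizer (lev (S : Subgroup G) m : Set G) :=
  (lev_isLev (S : Subgroup G) m).le_norm_of_o2 (h.low m hm) ((o2_le_syl h.syl).trans h.bg.BS)

/-- `⟨Ω₁Z(B)^R⟩ ≤ Ω₁Z(lev S m)`, `m < j` -/
theorem zl_le_lev (h : Bk0 P n L W Z C A R j K N₁ c τ l) {m : ℕ} (hm : m < j) :
    zl (BT n) R ≤ zc (lev (S : Subgroup G) m) := by
  have h1 : zc (BT n) ≤ zc (lev (S : Subgroup G) m) := by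
    have h2 : zc (BT n) = ZT n := h.ln.fr.zcB
    rw [h2]
    exact (lev_isLev (S : Subgroup G) m).zc_le_zc ((lev_mono _ hm.le).trans (h.jn.trans n.K_le_nx)) n.lev.next.le
  refine iSup_le fun g => ?_
  have h2 := (R_norm h hm).trans (NO3S.Level.normalizer_le_zc _)
  have h3 := cj_mono (g : G) h1
  rwa [cj_eq_of_mem_normalizer (h2 g.2)] at h3

/-- **The instance of `BK`.** -/
theorem bk_of (h : Bk0 P n L W Z C A R j K N₁ c τ l) :
    BK (BT n) (LevB.BL (S : Subgroup G) j) (zc (lev (S : Subgroup G) j)) (stM (S : Subgroup G) j)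
      (stY (S : Subgroup G) j) W l K (zl (BT n) R) N₁ (cv (BT n) R) where
  pb := h.pb
  NY := by
    cases j with
    | zero => exact le_top
    | succ m => exact zl_le_lev h (Nat.lt_succ_self m)
  KM := by
    cases j with
    | zero => exact le_top
    | succ m => exact h.KR.trans (R_norm h (Nat.lt_succ_self m))
  WN := h.cW ▸ h.cN1
  WN0 := h.cW ▸ h.cD
  cW := fun p hp w hw k hk => mem_centralizer_iff.1 (h.WK p hp hw) k hk
  BX := fun b hb => mem_normalizer_iff_cj.2 (h.fixN b hb)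
  tor := by
    refine ⟨τ, h.τK, h.τB0, fun w hw => ?_, fun w hw => h.τ1 w (h.cW ▸ hw)⟩
    rw [← h.cW] at hw ⊢
    have h1 : τ * w * τ⁻¹ ∈ cj τ c := ⟨w, hw, rfl⟩
    rwa [h.τc] at h1

end bk

end Cfsg.Agent.Omega.OM.LowT.TorusK

end

section


/-!
# TORUS, `T = B`, `q = 2`, over a general top level: the block of a parabolic `R` of finite stage over `B = BT n`

Port of `OM/Lev/Low/Core.lean` from `SwapL.Ln` (top level `lev S n`) to `SWT.Ln` (top level `n : LV S`); instead of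
`lin_V` the hypothesis (LIN) is used (`LinH`).

`R` is a minimal parabolic over `B` of characteristic 2 which moves `Ω₁Z(B)`, `lev S m ≰ O₂(R)` for some `m` with
`lev S m ≤ K₀`.

* `Blk P n L W Z C A R j K N₁ c τ l` : `R` has one block `K`, of natural type over `𝔽₄`, and its torus line is `c = W l`;
  `K` centralises all `W m`, `m ≠ l`;
* `exists_blk_at`, `exists_blk` : it exists;
* `Blk.bk0` : its part `TorusK.Bk0`.
-/

set_option autoImplicit false
set_option linter.unusedSectionVars false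

namespace Cfsg.Agent.Omega.OM.LowT.Core

open Subgroup Cfsg Cfsg.Agent.ZN.ChoiceBase Cfsg.Agent.ZN.ChoiceSit
open Cfsg.Agent.ZN (jj zj bau zc zl o2)
open Cfsg.Agent.MinSimple.MinParabolic (IsMinPar)
open Cfsg.Agent.Omega.NO3S.OneLine (NatC natC_of)
open Cfsg.Agent.Omega.OM.GLev
open Cfsg.Agent.Omega.FFThm (NatKM SymKM)
open Cfsg.Agent.Omega.FrameFF (cv)
open Cfsg.Agent.Omega.OM.SWT (LV Ln ZT BT)
open Cfsg.Agent.Omega.NO3S.Level (lev lev_mono lev_isLev Lev lev_le)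
open Cfsg.Agent.Omega.NO3S.EThree.Frame (Bg)
open Cfsg.Agent.Omega.OM.Lev.Low (YB YK NB' Mv exists_stg)
open Cfsg.Agent.Omega.OM.Lev.Low.Core (exists_all)
open scoped commutatorElement

universe u

variable {G : Type u} [Group G] [Finite G]

/-- **The block of `R`.** -/
structure Blk {ι : Type} {S : Sylow 2 G} (P : Subgroup G) (n : LV S) (L W Z C A : ι → Subgroup G) (R : Subgroup G)
    (j : ℕ) (K N₁ c : Subgroup G) (τ : G) (l : ι) : Prop where
  ln : Ln P n L W Z C A 2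
  bg : Bg S P (BT n) (ZT n) L W Z C 2
  jn : lev (S : Subgroup G) j ≤ n.K
  syl : Syl (BT n) R
  min : IsMinPar (BT n) R
  char2 : R ⊓ centralizer (o2 R : Set G) ≤ o2 R
  low : ∀ i < j, lev (S : Subgroup G) i ≤ o2 R
  nlow : ¬ lev (S : Subgroup G) j ≤ o2 R
  mv : ¬ R ≤ centralizer (zc (BT n) : Set G)
  B0K : LevB.BL (S : Subgroup G) j ≤ K
  KR : K ≤ R
  pb : PB (LevB.BL (S : Subgroup G) j) K (zl (BT n) R) N₁ (cv (BT n) R) 4
  RK : R ≤ BT n ⊔ K
  nK : BT n ≤ normalizer ((⁅zl (BT n) R, K⁆ : Subgroup G) : Set G)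
  yb : YB (BT n) (zc (lev (S : Subgroup G) j))
    (fun _ : Fin 1 => zc (lev (S : Subgroup G) j) ⊓ centralizer (K : Set G)) (fun _ => c)
  cN1 : c ≤ N₁
  N1c : N₁ ≤ c ⊔ cv (BT n) R
  cD : c ⊓ cv (BT n) R = ⊥
  c4 : Nat.card c = 4
  τK : τ ∈ K
  τB0 : τ ∈ normalizer (LevB.BL (S : Subgroup G) j : Set G)
  τc : cj τ c = c
  τ1 : ∀ x ∈ c, τ * x * τ⁻¹ = x → x = 1
  τD : ∀ v ∈ zl (BT n) R, τ * v * τ⁻¹ * v⁻¹ ∈ cv (BT n) R → v ∈ cv (BT n) R
  cc : c ≤ ⁅⁅zl (BT n) R, K⁆, LevB.BL (S : Subgroup G) j⁆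
  line : ∀ y ∈ R, ∀ v ∈ N₁, v ∉ cv (BT n) R → y * v * y⁻¹ ∈ N₁ → cj y N₁ = N₁
  act : ∀ t ∈ BT n, ∀ k ∈ K, ∃ k' ∈ K, ∀ v ∈ zl (BT n) R,
    t * k * t⁻¹ * v * (t * k * t⁻¹)⁻¹ = k' * v * k'⁻¹
  /-- `B` normalises `c` and `C_X(K)` -/
  fix : ∀ b ∈ BT n, cj b (zc (lev (S : Subgroup G) j) ⊓ centralizer (K : Set G)) =
    zc (lev (S : Subgroup G) j) ⊓ centralizer (K : Set G) ∧ cj b c = c
  /-- (L) -/
  cW : c = W l
  WK : ∀ m, m ≠ l → W m ≤ centralizer (K : Set G)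

theorem Blk.bk0 {ι : Type} {S : Sylow 2 G} {P : Subgroup G} {n : LV S} {L W Z C A : ι → Subgroup G}
    {R : Subgroup G} {j : ℕ} {K N₁ c : Subgroup G} {τ : G} {l : ι} (h : Blk P n L W Z C A R j K N₁ c τ l) :
    TorusK.Bk0 P n L W Z C A R j K N₁ c τ l :=
  ⟨h.ln, h.bg, h.jn, h.syl, h.low, h.KR, h.pb, h.nK, h.act, h.cN1, h.cD, h.τK, h.τB0, h.τc, h.τ1, fun b hb => (h.fix b hb).1, h.cW,
    h.WK⟩

/-- a finite field of characteristic 2 with more than 2 elements has at least 4 -/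
theorem four_le {F : Type} [Field F] [Finite F] [CharP F 2] (h : 2 < Nat.card F) : 4 ≤ Nat.card F := by
  have := Fintype.ofFinite F
  obtain ⟨m, -, hm⟩ := FiniteField.card F 2
  rw [Nat.card_eq_fintype_card] at h ⊢
  rw [hm] at h ⊢
  have h1 : (m : ℕ) ≠ 1 := by
    intro e
    rw [e] at h
    omega
  have h2 : 2 ≤ (m : ℕ) := by
    have := m.pos
    omega
  calc 4 = 2 ^ 2 := rfl
    _ ≤ 2 ^ (m : ℕ) := Nat.pow_le_pow_right (by norm_num) h2

/-- the field of `exists_out` has at least 4 elements -/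
theorem card_out {ι : Type} {S : Sylow 2 G} {P : Subgroup G} {n : LV S} {L W Z C A : ι → Subgroup G}
    {T Y : Subgroup G} {j : ℕ} {F : Type} [Field F] [Finite F] [CharP F 2] {k : ℕ}
    {M : NatC F T Y (zl T Y) (cv T Y) k} {K Nn c : Fin k → Subgroup G} (h : OutN P n L W Z C A T Y j M K Nn c)
    (hk : 0 < k) : 4 ≤ Nat.card F := by
  apply four_le
  rw [← h.nb.co.card ⟨0, hk⟩]
  obtain ⟨-, -, a, ha, -, ha1, -, -, a', ha', -, ha1', hne⟩ := h.wide ⟨0, hk⟩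
  have h1 : ({1, a, a'} : Set G).ncard = 3 := by
    rw [Set.ncard_eq_three]
    exact ⟨1, a, a', fun e => ha1 e.symm, fun e => ha1' e.symm, hne, rfl⟩
  have h2 : ({1, a, a'} : Set G) ⊆ (c ⟨0, hk⟩ : Set G) := by
    rintro x (rfl | rfl | rfl)
    · exact one_mem _
    · exact ha
    · exact ha'
  have h3 := Set.ncard_le_ncard h2 (Set.toFinite _)
  rw [h1, ← Nat.card_coe_set_eq] at h3
  exact lt_of_lt_of_le (by norm_num) h3

/-- **(L)** for a line of `YB` on `Ω₁Z(lev S j)`, `lev S j ≤ K₀`. -/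
theorem line_yb' {ι : Type} [Finite ι] {S : Sylow 2 G} {P : Subgroup G} {n : LV S} {L W Z C A : ι → Subgroup G}
    (hL : Ln P n L W Z C A 2) (hB : Bg S P (BT n) (ZT n) L W Z C 2) {j : ℕ} (hj : lev (S : Subgroup G) j ≤ n.K)
    {Λ : Type*} {N c : Λ → Subgroup G} (hy : YB (BT n) (zc (lev (S : Subgroup G) j)) N c) {l : Λ}
    (hfix : ∀ b ∈ BT n, Mv N c b l l) (hcV : c l ≤ zl (S : Subgroup G) P)
    (hc4 : Nat.card (c l) = 4) (hZJ : ¬ ZT n ≤ N l) {τ : G}
    (hτc : ∀ x ∈ c l, τ * x * τ⁻¹ ∈ c l) (hτ1 : ∀ x ∈ c l, τ * x * τ⁻¹ = x → x = 1)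
    (hτN : ∀ x ∈ N l, τ * x * τ⁻¹ = x) :
    ∃ i, c l = W i ∧ (∀ m, m ≠ i → W m ≤ N l) ∧ ∀ m, m ≠ i → Z m ≤ N l := by
  refine Line.line' hL hB hcV hc4 (fun x hx => hy.fix l x ?_) (hy.triv l) (fun b hb x hx => ?_) (fun b hb x hx => ?_)
    hZJ hτc hτ1 hτN
  · exact (lev_isLev (S : Subgroup G) j).zc_le_zc hj n.lev.le hx
  · have h1 := (hfix b hb).2
    have h2 : b * x * b⁻¹ ∈ cj b (c l) := ⟨x, hx, rfl⟩
    rwa [h1] at h2
  · have h1 := (hfix b hb).1
    have h2 : b * x * b⁻¹ ∈ cj b (N l) := ⟨x, hx, rfl⟩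
    rwa [h1] at h2

/-- **The block of `R` exists**, the stage `j` given. -/
theorem exists_blk_at {ι : Type} [Finite ι] {S : Sylow 2 G} {P : Subgroup G} {n : LV S}
    {L W Z C A : ι → Subgroup G} (hln : Ln P n L W Z C A 2)
    (hbg : Bg S P (BT n) (ZT n) L W Z C 2) {R : Subgroup G}
    (hP : IsMinPar (BT n) R) (hT : Syl (BT n) R)
    (hc : R ⊓ centralizer (o2 R : Set G) ≤ o2 R) {j : ℕ} (hj : lev (S : Subgroup G) j ≤ n.K)
    (hlow : ∀ i < j, lev (S : Subgroup G) i ≤ o2 R) (hnj : ¬ lev (S : Subgroup G) j ≤ o2 R)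
    (hZ : ¬ R ≤ centralizer (zc (BT n) : Set G)) (hl : LinH S P (BT n) R j) :
    ∃ (K N₁ c : Subgroup G) (τ : G) (l : ι), Blk P n L W Z C A R j K N₁ c τ l := by
  obtain ⟨X, AA', hge, hbz, hex, h88⟩ :=
    exists_out hln hT le_rfl hP hc hZ hj hlow hnj
  revert h88; rintro ⟨F, _, _, _, k, h88⟩
  revert h88; rintro ⟨hk, N, K, Nn, c, hout⟩
  obtain ⟨hk1, hF⟩ := hl.one F k hk N (card_out hout hk)
  clear hout K Nn c
  subst hk1
  -- the block
  obtain ⟨K, N₁, c, τ, h1, h88⟩ :=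
    exists_all hge hbz N hex (by rw [hF]; norm_num)
  revert h88; rintro ⟨h2, h3, h4, h5, h6, h88⟩
  revert h88; rintro ⟨h7, h8, h9, h10, h11, h88⟩
  revert h88; rintro ⟨h12, h13, h14, h15, h16, h88⟩
  revert h88; rintro ⟨h17, h18, h19⟩
  rw [hF] at h3 h10
  have hcV : c ≤ zl (S : Subgroup G) P := hl.le K N₁ c τ h3 h2 h7 h11 h12 h13 h14
  have hzT : ¬ zc (BT n) ≤ zc (lev (S : Subgroup G) j) ⊓ centralizer (K : Set G) := by
    intro hle
    refine hZ (h4.trans (sup_le (NO3S.Level.le_centralizer_zc _) ?_))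
    exact le_centralizer_iff.1 (hle.trans inf_le_right)
  have hfix : ∀ b ∈ BT n, Mv (fun _ : Fin 1 => zc (lev (S : Subgroup G) j) ⊓ centralizer (K : Set G)) (fun _ => c)
      b 0 0 := by
    intro b hb
    obtain ⟨i, hi⟩ := h6.perm b hb 0
    rwa [Subsingleton.elim i 0] at hi
  have hτX : ∀ x ∈ c, τ * x * τ⁻¹ ∈ c := fun x hx => by
    have h20 : τ * x * τ⁻¹ ∈ cj τ c := ⟨x, hx, rfl⟩
    rwa [h13] at h20
  have hZJ : ¬ ZT n ≤ zc (lev (S : Subgroup G) j) ⊓ centralizer (K : Set G) := fun h =>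
    hzT ((SWT.zc_T_le n hT.2.1 le_rfl).trans h)
  obtain ⟨l, hcl, hW, -⟩ := line_yb' hln hbg hj h6 (l := 0) hfix hcV h10 hZJ hτX h14
    (fun x hx => by
      have h20 := mem_centralizer_iff.1 (mem_inf.1 hx).2 τ h11
      rw [h20]; group)
  exact ⟨K, N₁, c, τ, l, ⟨hln, hbg, hj, hT, hP, hc, hlow, hnj, hZ, h1, h2, h3, h4, h5, h6, h7, h8, h9, h10, h11,
    h12, h13, h14, h15, h16, h17, h18, hfix, hcl, fun m hm => (hW m hm).trans inf_le_right⟩⟩

end Cfsg.Agent.Omega.OM.LowT.Core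

end

section


/-!
# TORUS, `q = 2`, `k ≥ 2`: the local inputs of the frame of helper607 #23961 from `SWT.Ln` + `Bg`

Port of `OM/Lev/Low/TorusK/LocIn.lean` to a general top level `n : LV S`.

* `syl` : `B` is a Sylow 2-subgroup of `C_G(Z p : p ≠ l)`;
* `loc1`, `loc2` : `E = Ω₁Z(O₂(C_G(Z p : p ≠ l, m)))` is elementary abelian, `Z_J ≤ E ≤ B`, normalised by this centraliser;
* `exists_z` : `Ω₁Z(S) = {1, z}`, `z ∈ Z_J` of full support;
* `fact` : a local `H ≥ S` is generated by `N_H(Ω₁Z(lev S j))` and `C_H(z)`.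
-/

set_option autoImplicit false
set_option linter.unusedSectionVars false

namespace Cfsg.Agent.Omega.OM.LowT.TorusK.LocIn

open Subgroup Cfsg Cfsg.Agent.ZN.ChoiceBase Cfsg.Agent.ZN.ChoiceSit
open Cfsg.Agent.ZN (jj zj bau zc zl o2)
open Cfsg.Agent.Omega.MinPar (IsLoc IsPar IsParS)
open Cfsg.Agent.Omega.OM.Lev.Uni (FrL)
open Cfsg.Agent.Omega.OM.SWT (Ln LV)
open Cfsg.Agent.Omega.OM.Lev.Low.TorusK.LocIn (third mem_B0 isLoc_of)
open Cfsg.Agent.Omega.NO3S.EThree.Frame (Bg)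
open Cfsg.Agent.Omega.NO3S.Level (lev lev_mono lev_isLev lev_le)
open Cfsg.Agent.Omega.OM.Lev.Low.Line (Full)
open Cfsg.Agent.Omega.EK3.Q.Loc (YI CI mem_YI mem_CI)

universe u

variable {G : Type u} [Group G] [Finite G] {ι : Type} [Finite ι] {S : Sylow 2 G} {P : Subgroup G} {n : LV S}
  {L W Z C A : ι → Subgroup G}

/-- An element of `N_G(B)` which centralises `Z p` for all `p ≠ l` centralises `Z_J`. -/
theorem mem_cent (hL : Ln P n L W Z C A 2)
    (hB : Bg S P (SWT.BT n) (SWT.ZT n) L W Z C 2) {l : ι} {t : G}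
    (ht : t ∈ normalizer (SWT.BT n : Set G))
    (hc : ∀ p, p ≠ l → ∀ x ∈ Z p, t * x = x * t) : t ∈ centralizer (SWT.ZT n : Set G) := by
  obtain ⟨j, hj, -, -⟩ := LowT.perm hL ht l
  have hjl : j = l := by
    by_contra hne
    have h1 : cj t (Z j) = Z j := by
      have h2 : t ∈ centralizer (Z j : Set G) := mem_centralizer_iff.2 fun x hx => (hc j hne x hx).symm
      exact cj_eq_of_mem_normalizer (centralizer_le_normalizer _ h2)
    have h2 := hj.trans h1.symm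
    have h3 := congrArg (cj t⁻¹) h2
    rw [cj_inv_cj, cj_inv_cj] at h3
    exact hne (LowT.Z_inj hL h3).symm
  rw [hjl] at hj
  have hl : ∀ z ∈ Z l, z * t = t * z := fun z hz => (LowT.cent_of_cj hL hj hz).symm
  exact EK3.Q.Loc.mem_D hB (i := l) (j := l) (mem_CI.2 fun p hp _ z hz => (hc p hp z hz).symm) hl hl

/-- **(syl)** `B` is a Sylow 2-subgroup of `C_G(Z p : p ≠ l)`. -/
theorem syl (hL : Ln P n L W Z C A 2)
    (hB : Bg S P (SWT.BT n) (SWT.ZT n) L W Z C 2) :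
    ∀ (l : ι) (T : Subgroup G), IsPGroup 2 T → SWT.BT n ≤ T →
      (∀ p, p ≠ l → T ≤ centralizer (Z p : Set G)) → T ≤ SWT.BT n := by
  intro l T hT hBT hc
  refine EK3.Q.Loc.le_B_of hB hT (fun t ht => ?_) (hBT.trans le_normalizer)
  exact mem_cent hL hB (l := l) (hB.le_norm_B hT hBT ht) fun p hp x hx =>
    (mem_centralizer_iff.1 (hc p hp ht) x hx).symm

/-- **(loc2)**, strong form: `E = Ω₁Z(O₂(C_G(Z p : p ≠ l, m)))`. -/
theorem loc2' (hB : Bg S P (SWT.BT n) (SWT.ZT n) L W Z C 2) {l m r : ι} (hl : r ≠ l)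
    (hm : r ≠ m) : ∃ E : Subgroup G, IsElementaryAbelian 2 E ∧ E ≤ SWT.BT n ∧
      SWT.ZT n ≤ E ∧ ∀ g : G, (∀ p, p ≠ l → p ≠ m → ∀ x ∈ Z p, g * x = x * g) →
        g ∈ normalizer (E : Set G) := by
  refine ⟨zc (o2 (CI Z l m)), NO3S.OneLine.zc_elem _, (zc_le _).trans (EK3.Q.Loc.o2CI_le_B hB l m),
    EK3.Q.Loc.ZJ_le_zc hB hl hm, fun g hg => EK3.Q.Loc.le_normalizer_zc_o2 hB _ ?_⟩
  exact mem_CI.2 fun p hp hp' z hz => (hg p hp hp' z hz).symm

/-- **(loc1)** -/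
theorem loc1 (hB : Bg S P (SWT.BT n) (SWT.ZT n) L W Z C 2) :
    ∀ l : ι, ∃ E : Subgroup G, IsElementaryAbelian 2 E ∧ E ≤ SWT.BT n ∧
      SWT.ZT n ≤ E ∧ ∀ g : G, (∀ p, p ≠ l → ∀ x ∈ Z p, g * x = x * g) →
        g ∈ normalizer (E : Set G) := by
  intro l
  obtain ⟨r, hr⟩ := hB.two l
  obtain ⟨E, h1, h2, h3, h4⟩ := loc2' hB hr hr
  exact ⟨E, h1, h2, h3, fun g hg => h4 g fun p hp _ => hg p hp⟩

/-- **(loc2)**: `k ≥ 3`. -/
theorem loc2 (hB : Bg S P (SWT.BT n) (SWT.ZT n) L W Z C 2)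
    (h3 : ∀ l m : ι, ∃ r, r ≠ l ∧ r ≠ m) :
    ∀ l m : ι, l ≠ m → ∃ E : Subgroup G, IsElementaryAbelian 2 E ∧ E ≤ (S : Subgroup G) ∧
      (∀ x ∈ Z l, ∀ y ∈ Z m, x ≠ 1 → y ≠ 1 → x * y ∈ E) ∧
      ∀ g : G, (∀ p, p ≠ l → p ≠ m → ∀ x ∈ Z p, g * x = x * g) → g ∈ normalizer (E : Set G) := by
  intro l m _
  obtain ⟨r, hl, hm⟩ := h3 l m
  obtain ⟨E, h1, h2, h4, h5⟩ := loc2' hB hl hm
  exact ⟨E, h1, h2.trans hB.BS, fun x hx y hy _ _ =>
    mul_mem (h4 (hB.fr.Z_le l hx)) (h4 (hB.fr.Z_le m hy)), h5⟩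

omit [Finite ι] in
/-- `Ω₁Z(S) ≤ Z_J` -/
theorem zc_le_ZJ (hB : Bg S P (SWT.BT n) (SWT.ZT n) L W Z C 2) :
    zc (S : Subgroup G) ≤ SWT.ZT n := by
  intro x hx
  obtain ⟨h1, h2, h3⟩ := ZN.ChoiceBase.mem_zc.1 hx
  have hZB : SWT.ZT n ≤ SWT.BT n := hB.fr.ZJV.trans hB.fr.VB
  have hxB : x ∈ SWT.BT n := hB.mem_B h1 fun z hz => (h3 z (hB.BS (hZB hz))).symm
  rw [← hB.fr.zcB]
  exact ZN.ChoiceBase.mem_zc.2 ⟨hxB, h2, fun y hy => h3 y (hB.BS hy)⟩

/-- **`Ω₁Z(S) = {1, z}`**, `z ∈ Z_J` of full support. -/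
theorem exists_z (hL : Ln P n L W Z C A 2)
    (hB : Bg S P (SWT.BT n) (SWT.ZT n) L W Z C 2) :
    ∃ z ∈ SWT.ZT n, Full C z ∧ z ≠ 1 ∧ z ∈ zc (S : Subgroup G) ∧
      ∀ x ∈ zc (S : Subgroup G), x ≠ 1 → x = z := by
  obtain ⟨z, hz, hf⟩ := Lev.Low.Line.exists_full hL.fr
  have hne : ∃ i : ι, True := by
    by_contra hcon
    push Not at hcon
    have hι : ∀ i : ι, False := fun i => hcon i
    have h1 := hL.hyp.zc_ne
    apply h1
    rw [eq_bot_iff]
    intro x hx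
    rw [mem_bot]
    exact hB.fr.C0 x (hB.fr.ZJV (zc_le_ZJ hB hx)) fun i => (hι i).elim
  obtain ⟨i₀, -⟩ := hne
  have hz1 : z ≠ 1 := by
    rintro rfl
    exact hf i₀ (one_mem _)
  refine ⟨z, hz, hf, hz1, ?_, fun x hx hx1 => ?_⟩
  · exact ZN.ChoiceBase.mem_zc.2 ⟨hB.BS (hB.fr.VB (hB.fr.ZJV hz)), hB.fr.Vsq (hB.fr.ZJV hz),
      fun s hs => Line.S_cent hL hB hz hf hs⟩
  · have hxJ := zc_le_ZJ hB hx
    have hxs := (ZN.ChoiceBase.mem_zc.1 hx).2.2
    refine Lev.Low.Line.full_unique hL.fr hxJ hz (fun j hj => hx1 ?_) hf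
    refine hB.fr.C0 x (hB.fr.ZJV hxJ) fun i => ?_
    obtain ⟨s, hs, e⟩ := hB.trans j i
    obtain ⟨σ, hσ⟩ := hB.perm_S hs
    have h1 : σ j = i := hB.W_inj ((hσ j).1.symm.trans e)
    have h2 : s * x * s⁻¹ ∈ cj s (C j) := ⟨x, hj, rfl⟩
    rw [(hσ j).2.2, h1, hxs s hs, mul_inv_cancel_right] at h2
    exact h2

/-- **(fact)**, for any `z` with `Ω₁Z(S) = {1, z}`. -/
theorem fact' (S : Sylow 2 G) {H : Subgroup G} (hH : IsLoc (S : Subgroup G) H) {n : LV S} {j : ℕ}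
    (hj : lev (S : Subgroup G) j ≤ n.K) (hall : ∀ R, IsParS (S : Subgroup G) R → n.K ≤ o2 R) {z : G} (hz : z ∈ zc (S : Subgroup G))
    (hz1 : z ≠ 1) (hzS : ∀ x ∈ zc (S : Subgroup G), x ≠ 1 → x = z) :
    H ≤ (H ⊓ normalizer (zc (lev (S : Subgroup G) j) : Set G)) ⊔ (H ⊓ centralizer ({z} : Set G)) := by
  have hlv := lev_isLev (S : Subgroup G) j
  refine hH.le_of_forall S ?_ fun Y hY hYH => ?_
  · refine le_trans (le_inf inf_le_left fun g hg => ?_) le_sup_left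
    exact NO3S.Level.normalizer_le_zc _ (hlv.norm _ hlv.le le_rfl hg.2)
  · by_cases hZ : Y ≤ normalizer (zc (S : Subgroup G) : Set G)
    · refine le_trans (le_inf hYH fun g hg => ?_) le_sup_right
      rw [mem_centralizer_singleton_iff]
      have h1 : g * z * g⁻¹ ∈ zc (S : Subgroup G) := (mem_normalizer_iff.1 (hZ hg) z).1 hz
      have h2 := hzS _ h1 fun e => hz1 (conj_eq_one_iff.1 e)
      exact mul_inv_eq_iff_eq_mul.1 h2
    · refine le_trans (le_inf hYH ?_) le_sup_left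
      have h1 := hall Y ⟨hY, hZ⟩
      exact (hlv.le_norm_of_o2 (hj.trans h1) (hY.isLoc.o2_le S)).trans (NO3S.Level.normalizer_le_zc _)

end Cfsg.Agent.Omega.OM.LowT.TorusK.LocIn

end

end
end

-- part: Mrg/Omega/OM/LowT/LinGen
section
set_option linter.all false
open scoped Cfsg.Agent.FastGrp

-- merged: Cfsg.Agent.Mrg.Omega.OM.LowT.LinTop
section

/-!
# `hlin` from `c l ≤ Ω₁Z(K₀)`, over the frame `SWT.Ln P n`

`exists_mv_top` : some best offender `A i` at the top level does not centralise all `c l`;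
`lin_top` : if all `c l` lie in `Ω₁Z(K₀)` (for `K₀ = O₂(P)`: in `V`), then `O₂(P)` fixes all `l`, `|c l| = 4`, `c l ≤ V`.
-/

set_option autoImplicit false
set_option linter.unusedSectionVars false

namespace Cfsg.Agent.Omega.OM.LowT

open Subgroup Cfsg Cfsg.Agent.ZN.ChoiceBase Cfsg.Agent.ZN.ChoiceSit
open Cfsg.Agent.ZN (jj zj bau zc zl o2)
open Cfsg.Agent.Omega.NO3S.OneLine (BFam bo bo_fam)
open Cfsg.Agent.Omega.FFThm (ElemM)
open Cfsg.Agent.Omega.NO1.BestOff (Best)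
open Cfsg.Agent.Omega.NO3S.Level (Lev BO nxt normalizer_le_zc)
open Cfsg.Agent.Omega.OM.SWT (Ln LV)
open Cfsg.Agent.Omega.OM.Lev.Low (YB Mv Cen)
open Cfsg.Agent.Omega.OM.Lev.Low.YB (QV Sub Wide)

universe u

variable {G : Type u} [Group G] [Finite G] {ι Λ : Type} [Finite ι] {S : Sylow 2 G} {P : Subgroup G} {n : LV S}
  {L W Z C A : ι → Subgroup G} {T X : Subgroup G} {N c : Λ → Subgroup G}

/-- some `A i` does not centralise all `c l`. -/
theorem exists_mv_top (h : Ln P n L W Z C A 2) (hT : IsPGroup 2 T) (hB : SWT.BT n ≤ T) (hy : YB T X N c)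
    (hVX : zl (S : Subgroup G) P ≤ X) (hZ : ∃ l, ¬ zc T ≤ N l) : ∃ i l, ¬ Cen (A i) (c l) := by
  by_contra hcon
  push Not at hcon
  obtain ⟨l, hl⟩ := hZ
  refine hl ((SWT.zc_T_le n hT hB).trans (Lev.Low.zj_le h.fr fun i z hz => ?_))
  have hane := h.fr.Ane i
  push Not at hane
  obtain ⟨b, hb, v, hv, hbv⟩ := hane
  have r := Lev.Low.rt h.fr hB hb fun h1 => hbv (h1 v hv)
  obtain ⟨w, hw, rfl⟩ := r.all z hz
  have hcen := hcon i l
  have hbT : b ∈ T := hB (h.fr.AB i hb)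
  have hbl : Mv N c b l l := hy.mv_of_cen hbT (hcen b hb)
  have hwX : w ∈ X := hVX hw
  obtain ⟨y, hy', hyw⟩ := hy.fix l w hwX
  have e0 : w = y * (y * w) := by rw [← mul_assoc, hy.mul_self (hy.cX l hy'), one_mul]
  have hy1 : b * y * b⁻¹ = y := by rw [hcen b hb y hy']; group
  have hn' : b * (y * w) * b⁻¹ ∈ N l := hbl.cen.2 hyw
  have h5 := hy.cm (mul_mem (hy.cX l hy') hwX) (hy.cX l hy')
  have e1 : w * (b * w * b⁻¹) = (y * w) * (b * (y * w) * b⁻¹) := by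
    calc w * (b * w * b⁻¹) = y * (y * w) * (b * (y * (y * w)) * b⁻¹) := by rw [← e0]
      _ = y * (y * w) * ((b * y * b⁻¹) * (b * (y * w) * b⁻¹)) := by group
      _ = y * ((y * w) * y) * (b * (y * w) * b⁻¹) := by rw [hy1]; group
      _ = (y * y) * (y * w) * (b * (y * w) * b⁻¹) := by rw [h5]; group
      _ = _ := by rw [hy.mul_self (hy.cX l hy'), one_mul]
  rw [e1]
  exact mul_mem hyw hn'

/-- a 2-group over `B` normalises `Ω₁Z(K₀)` -/
theorem two_norm_top (n : LV S) (hT : IsPGroup 2 T) (hB : SWT.BT n ≤ T) : T ≤ normalizer (zc n.K : Set G) :=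
  ((SWT.lb n).two_le hT hB).trans ((SWT.norm_K n).trans (normalizer_le_zc _))

/-- **`hlin` from `c l ≤ Ω₁Z(K₀)`.** -/
theorem lin_top [Finite Λ] (h : Ln P n L W Z C A 2) (hT : IsPGroup 2 T) (hB : SWT.BT n ≤ T) (hy : YB T X N c)
    (hKX : zc n.K ≤ X) (htr : ∀ l m, ∃ t ∈ T, Mv N c t l m) (hs : Sub T N c) (hZ : ∃ l, ¬ zc T ≤ N l)
    (hw : ∀ l, Wide (zl (S : Subgroup G) P) N c l) (hc : ∀ l, c l ≤ zc n.K) (l : Λ) :
    (∀ q ∈ o2 P, Mv N c q l l) ∧ Nat.card (c l) = 4 ∧ c l ≤ zl (S : Subgroup G) P := by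
  have hym : YB T (zc n.K) N c := hy.mono_X hKX (two_norm_top n hT hB) hc
  obtain ⟨i, l₀, hl₀⟩ := exists_mv_top h hT hB hym h.fr.VX hZ
  have hqm : QV T (zc n.K) (o2 P) (zl (S : Subgroup G) P) := SWT.qv h hT hB (D := n) le_rfl
  have hA : A i ∈ bo T (zc n.K) := ⟨(h.fr.AB i).trans hB, h.fr.AX i, fun E h1 h2 => h.fr.best i E h1 h2⟩
  obtain ⟨h1, h2, h3⟩ := hym.lin hs (bo_fam T (zc n.K)) hqm (hw l₀) ⟨A i, hA, hl₀⟩
  obtain ⟨t, ht, htm⟩ := htr l₀ l
  refine ⟨fun q hq => ?_, ?_, ?_⟩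
  · have h4 : t⁻¹ * q * t ∈ o2 P := by
      have := (mem_normalizer_iff.1 (inv_mem (hqm.TQ ht)) q).1 hq
      rwa [inv_inv] at this
    have h5 := (htm.mul (h1 _ h4)).mul htm.inv
    have e : t * (t⁻¹ * q * t) * t⁻¹ = q := by group
    rwa [e] at h5
  · rw [← htm.2, card_cj, h2]
  · rw [← htm.2]
    rintro _ ⟨x, hx, rfl⟩
    exact YB.QV.memV hym hqm ht (h3 hx)

end Cfsg.Agent.Omega.OM.LowT

end

-- merged: Cfsg.Agent.Mrg.Omega.OM.LowT.LinGen
section

/-!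
# LIN (helper388 #25947) over `SWT.Ln P n`, `n.K = O₂(P)`: `LinH S P (BT n) Y j` from the choice of `Y`

No `Bg`, no `MulL`: natural and symmetric `V_P`.

* `cen_of_zero`, `z_ne` : the components of an element of `Ω₁Z(T)` which is not centralised by `Y`;
* `hyp_of` : the instance of `LinCore.Hyp`;
* **`linH_of`**.
-/

set_option autoImplicit false
set_option linter.unusedSectionVars false

namespace Cfsg.Agent.Omega.OM.LowT.LinGen

open Subgroup Cfsg Cfsg.Agent.ZN.ChoiceBase Cfsg.Agent.ZN.ChoiceSit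
open Cfsg.Agent.ZN (jj zj bau zc zl o2)
open Cfsg.Agent.Omega.NatPair (ext2)
open Cfsg.Agent.MinSimple.MinParabolic (IsMinPar)
open Cfsg.Agent.MinSimple.VModule (zc_le_zl)
open Cfsg.Agent.Omega.NO3S.OneLine (NatC natC_of)
open Cfsg.Agent.Omega.OM.Lev.Nat (Wn mem_Wn)
open Cfsg.Agent.Omega.OM.GLev
open Cfsg.Agent.Omega.FFThm (NatKM SymKM)
open Cfsg.Agent.Omega.FrameFF (cv)
open Cfsg.Agent.Omega.OM.SWT (Ln LV ZT BT)
open Cfsg.Agent.Omega.OM.Lev.Low hiding OutN exists_out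
open Cfsg.Agent.Omega.NO3S.Level (lev lev_mono lev_isLev Lev lev_le)

universe u

variable {G : Type u} [Group G] [Finite G]

section comp

variable {F : Type} [Field F] {T H V D : Subgroup G} {k : ℕ} {M : NatC F T H V D k} {B X : Subgroup G}

/-- the block `L` of the `i`-th summand centralises the elements on the lines with trivial `i`-th component -/
theorem cen_of_zero {L : Subgroup G} {i : Fin k} (hL : LD M B X L i) {v : G} (hv : v ∈ V)
    (h0 : ∀ j, M.nat.e v j 1 = 0) (hi0 : M.nat.e v i = 0) : ∀ l ∈ L, l * v = v * l := by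
  classical
  intro τ hτ
  have key : ∀ s : Finset (Fin k), ∀ v ∈ V, (∀ j, M.nat.e v j 1 = 0) → M.nat.e v i = 0 →
      (∀ j ∉ s, M.nat.e v j = 0) → τ * v = v * τ := by
    intro s
    induction s using Finset.induction_on with
    | empty =>
      intro v hv _ _ h1
      have h2 : v ∈ D := (M.nat.ker v hv).1 (funext fun j => h1 j (Finset.notMem_empty j))
      exact hL.cD τ hτ v h2
    | insert m s hm ih =>
      intro v hv h0 hi0 h1
      by_cases hmi : m = i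
      · refine ih v hv h0 hi0 fun j hj => ?_
        by_cases hji : j = i
        · rw [hji]; exact hi0
        · exact h1 j fun h => (Finset.mem_insert.1 h).elim (fun e => hji (e.trans hmi)) hj
      · obtain ⟨u, hu, eu⟩ := exists_line M m (M.nat.e v m 0)
        have hvu : v * u⁻¹ ∈ V := mul_mem hv (inv_mem hu.1)
        have h2 := ih (v * u⁻¹) hvu (fun j => ?_) ?_ fun j hj => ?_
        · have h3 := hL.LW τ hτ m hmi u hu
          have c1 : Commute τ (v * u⁻¹) := h2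
          have c2 : Commute τ u := h3
          have c3 := c1.mul_right c2
          rw [inv_mul_cancel_right] at c3
          exact c3.eq
        · rw [M.map_div hv hu.1, Pi.sub_apply, Pi.sub_apply, h0 j]
          by_cases hjm : j = m
          · subst hjm; rw [hu.2.2, sub_zero]
          · rw [hu.2.1 j hjm, Pi.zero_apply, sub_zero]
        · rw [M.map_div hv hu.1, Pi.sub_apply, hi0, hu.2.1 i (Ne.symm hmi), sub_zero]
        · rw [M.map_div hv hu.1, Pi.sub_apply]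
          by_cases hjm : j = m
          · subst hjm
            rw [sub_eq_zero]
            exact ext2 eu.symm (by rw [h0, hu.2.2])
          · rw [h1 j (fun h => (Finset.mem_insert.1 h).elim hjm hj), hu.2.1 j hjm, sub_zero]
  exact key Finset.univ v hv h0 hi0 fun j hj => absurd (Finset.mem_univ j) hj

/-- **The components of a `T`-fixed element on the lines which is not centralised by `H`.** -/
theorem z_ne {K c : Fin k → Subgroup G} (hnb : NB' M B X K c) (hsup : ∀ i, H ≤ T ⊔ K i) {z : G} (hzV : z ∈ V)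
    (hzX : z ∈ X) (hzT : ∀ t ∈ T, t * z = z * t) (hz : ¬ ∀ x ∈ H, x * z = z * x) (i : Fin k) :
    M.nat.e z i ≠ 0 := by
  intro h0
  apply hz
  have h1 := cen_of_zero (hnb.ld i) hzV (((hnb.ld i).mem z hzV).1 hzX) h0
  have h2 : H ≤ centralizer ({z} : Set G) := (hsup i).trans (sup_le
    (fun t ht => mem_centralizer_singleton_iff.2 (hzT t ht))
    fun t ht => mem_centralizer_singleton_iff.2 (h1 t ht))
  exact fun x hx => mem_centralizer_singleton_iff.1 (h2 hx)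

/-- the elements of `V` in `X` are products of elements of the lines `c i` and of `D` -/
theorem mem_lines [Finite F] {K c : Fin k → Subgroup G} (hnb : NB' M B X K c) {E : Subgroup G} (hE : ∀ i, c i ≤ E)
    {v : G} (hv : v ∈ V) (hvX : v ∈ X) : v ∈ E ⊔ D := by
  have h1 := LinCore.mem_iSup_Li hv ((hnb.ld ⟨0, M.pos⟩).mem v hv |>.1 hvX)
  refine (iSup_le fun i w hw => ?_ : (⨆ i, Li M i) ≤ E ⊔ D) h1
  obtain ⟨a, ha, d, hd, rfl⟩ := hnb.co.cov i w hw
  exact mul_mem (mem_sup_left (hE i ha)) (mem_sup_right hd)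

end comp

section main

variable {ι : Type} [Finite ι] {S : Sylow 2 G} {P : Subgroup G} {n : LV S} {L W Z C A : ι → Subgroup G} {Y : Subgroup G}
  {j : ℕ}

/-- **The instance of `LinCore.Hyp`.** -/
theorem hyp_of (h : Ln P n L W Z C A 2) (hQ : n.K = o2 P)
    (hNQ : normalizer (o2 P : Set G) ≤ normalizer (zl (S : Subgroup G) P : Set G))
    (hZ : ¬ Y ≤ centralizer (zc (BT n) : Set G))
    (hYb : ∀ R' : Subgroup G, IsMinPar (BT n) R' → R' ≤ Y → R' ≤ normalizer (LevB.BL (S : Subgroup G) j : Set G) →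
      R' ≤ normalizer (o2 P : Set G) ∨ R' ≤ centralizer (ZT n : Set G))
    {F : Type} [Field F] {k : ℕ} {M : NatC F (BT n) Y (zl (BT n) Y) (cv (BT n) Y) k} {K Nn c : Fin k → Subgroup G}
    (hin : Inp P n L W Z C A (BT n) Y j K (fun i => Wn M i) Nn c)
    (hnb : NB' M (LevB.BL (S : Subgroup G) j) (zc (lev (S : Subgroup G) j)) K c) :
    ∃ z, LinCore.Hyp M (LevB.BL (S : Subgroup G) j) (zc (lev (S : Subgroup G) j)) K c (o2 P)
      (zl (S : Subgroup G) P) z := by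
  have hqv := hin.qv
  have hB2 := hin.syl.2.1
  obtain ⟨y, hy, hyz⟩ := SetLike.not_le_iff_exists.1 hZ
  rw [mem_centralizer_iff] at hyz
  push Not at hyz
  obtain ⟨z, hz, hyz⟩ := hyz
  have hzJ : z ∈ ZT n := SWT.zc_T_le n hB2 le_rfl hz
  have hzP : z ∈ zl (S : Subgroup G) P := h.fr.ZJV hzJ
  have hzX := hqv.VX hzP
  have hzV : z ∈ zl (BT n) Y := MinSimple.VModule.zc_le_zl (BT n) Y hz
  refine ⟨z, ⟨hnb, ?_, hqv.QT, hqv.TQ, hqv.mem, ?_, inf_le_right.trans hNQ, hzV, hzP, ?_, ?_⟩⟩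
  · exact (LevB.lb S j).nrm _ (S.isPGroup'.to_le (LevB.lb S j).BS) (LevB.lb S j).KB
  · rw [← hQ]
    exact inf_le_right.trans (SWT.norm_K n)
  · exact z_ne hnb hin.yk.sup hzV hzX (fun t ht => (mem_zc.1 hz).2.2 t ht) fun hc => hyz (hc y hy).symm
  · intro R hR hRY hRB
    rcases hYb R hR hRY hRB with h1 | h1
    · exact Or.inl h1
    · exact Or.inr fun x hx => (mem_centralizer_iff.1 (h1 hx) z hzJ).symm

/-- **LIN.** -/
theorem linH_of (h : Ln P n L W Z C A 2) (hQ : n.K = o2 P)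
    (hNQ : normalizer (o2 P : Set G) ≤ normalizer (zl (S : Subgroup G) P : Set G))
    (hT : Syl (BT n) Y) (hP : IsMinPar (BT n) Y) (hc : Y ⊓ centralizer (o2 Y : Set G) ≤ o2 Y)
    (hZ : ¬ Y ≤ centralizer (zc (BT n) : Set G)) (hj : lev (S : Subgroup G) j ≤ n.K)
    (hlow : ∀ i < j, lev (S : Subgroup G) i ≤ o2 Y) (hnj : ¬ lev (S : Subgroup G) j ≤ o2 Y)
    (hYb : ∀ R' : Subgroup G, IsMinPar (BT n) R' → R' ≤ Y → R' ≤ normalizer (LevB.BL (S : Subgroup G) j : Set G) →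
      R' ≤ normalizer (o2 P : Set G) ∨ R' ≤ centralizer (ZT n : Set G)) : LinH S P (BT n) Y j := by
  have hBj : LevB.BL (S : Subgroup G) j ≤ BT n := BL_le_BT hj
  constructor
  · intro F _ _ _ k hk N hF
    obtain ⟨X, AA', hge, hbz, hex, -⟩ := exists_ge S hT hBj hP hc hlow hnj hZ
    obtain ⟨K, Nn, c, hyk, hnb⟩ := yk_nat hge hbz N hk hex
    have hin : Inp P n L W Z C A (BT n) Y j K (fun i => Wn (natC_of hge.hm hk N.toNatK) i) Nn c :=
      ⟨h, hT, le_rfl, hj, hc, hlow, hyk⟩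
    obtain ⟨z, hz⟩ := hyp_of h hQ hNQ hZ hYb hin hnb
    have hcV := fun l => hz.c_le (by omega) l
    have hyb := hyk.yb
    have hzN : ∀ l, ¬ zc (BT n) ≤ Nn l := by
      intro l hle
      refine hZ ((hyk.sup l).trans (sup_le (NO3S.Level.le_centralizer_zc _) fun x hx => mem_centralizer_iff.2
        fun z hz => ?_))
      have hzX : z ∈ zc (lev (S : Subgroup G) j) :=
        hin.qv.VX (h.fr.ZJV (SWT.zc_T_le n hT.2.1 le_rfl hz))
      exact ((hyk.memN l z hzX).1 (hle hz) x hx).symm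
    have hKX : zc n.K ≤ zc (lev (S : Subgroup G) j) :=
      LV.zc_le (D := (⟨_, lev_isLev (S : Subgroup G) j⟩ : LV S)) hj
    have hlin := fun l => lin_top h hT.2.1 le_rfl hyb hKX hyk.tr (sub_of_co hge.hm N hk hnb.co hyb)
      ⟨⟨0, hk⟩, hzN _⟩ (hin.wide ⟨⟨0, hk⟩, hzN _⟩) (fun l => (hcV l).trans h.fr.VX) l
    have : Nonempty ι := ⟨(exists_mv_top h hT.2.1 le_rfl hyb hin.qv.VX ⟨⟨0, hk⟩, hzN _⟩).choose⟩
    have hfix := Line.fix_all h.fr hyb (fun q hq l => (hlin l).1 q hq) (fun l => (hlin l).2.2)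
      fun l => by rw [(hlin l).2.1]; norm_num
    refine ⟨?_, ?_⟩
    · have key : ∀ i : Fin k, i = ⟨0, hk⟩ := by
        intro i
        obtain ⟨t, ht, hm⟩ := hyk.tr ⟨0, hk⟩ i
        exact hyb.uniq hm (hfix t ht _)
      have h2 : Fintype.card (Fin k) = 1 := Fintype.card_eq_one_iff.2 ⟨_, key⟩
      rwa [Fintype.card_fin] at h2
    · rw [← hnb.co.card ⟨0, hk⟩]
      exact (hlin _).2.1
  · intro K₀ N₁ c₀ τ hpb hK₀ hcN hτ hτB hτc hτ1
    obtain ⟨X, AA', hge, hbz, hex, F, _, _, _, k, hk, N, K, Nn, c, hout⟩ := exists_out h hT le_rfl hP hc hZ hj hlow hnj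
    obtain ⟨z, hz⟩ := hyp_of h hQ hNQ hZ hYb hout.inp hout.nb
    have hF : 2 < Nat.card F := by
      rw [← hout.nb.co.card ⟨0, hk⟩]
      exact YB.Wide.two_lt (hout.wide _)
    have hcV := fun l => hz.c_le hF l
    have hτY : τ ∈ Y ⊓ normalizer (LevB.BL (S : Subgroup G) j : Set G) := ⟨hK₀ hτ, hτB⟩
    -- `[x, τ] ∈ V_P` for `x ∈ c₀`
    have key : ∀ x ∈ c₀, τ * x * τ⁻¹ * x⁻¹ ∈ zl (S : Subgroup G) P := by
      intro x hx
      have hxN := hpb.N1N (hcN hx)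
      have hxX : x ∈ zc (lev (S : Subgroup G) j) := by
        rw [← LevB.zc_B S j]
        exact mem_zc.2 ⟨hpb.NB hxN, Cfsg.Agent.Omega.SQ1.Bau.elem_sq hpb.el x hxN, fun b hb => hpb.N1c b hb x (hcN hx)⟩
      obtain ⟨a, ha, d, hd, rfl⟩ := Cfsg.Agent.Omega.SQ1.Bau.mem_sup_comm
        (fun a ha b hb => hpb.comm (mem_inf.1 ha).2 (hpb.N1N (hpb.N01 hb)))
        (mem_lines hout.nb (E := zl (S : Subgroup G) P ⊓ zl (BT n) Y)
          (fun i => le_inf (hcV i) fun y hy => (hout.nb.co.le i hy).1) hxN hxX)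
      have h1 : τ * a * τ⁻¹ ∈ zl (S : Subgroup G) P ⊓ zl (BT n) Y := (mem_normalizer_iff.1 (hz.norm_F hτY) a).1 ha
      have h2 := hpb.N0c τ hτ d hd
      have h3 : τ * (a * d) * τ⁻¹ * (a * d)⁻¹ = τ * a * τ⁻¹ * a⁻¹ := by
        calc τ * (a * d) * τ⁻¹ * (a * d)⁻¹ = τ * a * (d * τ⁻¹) * d⁻¹ * a⁻¹ := by group
          _ = τ * a * (τ⁻¹ * d) * d⁻¹ * a⁻¹ := by
            have h4 : d * τ⁻¹ = τ⁻¹ * d := by
              calc d * τ⁻¹ = τ⁻¹ * (τ * d) * τ⁻¹ := by group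
                _ = τ⁻¹ * (d * τ) * τ⁻¹ := by rw [h2]
                _ = τ⁻¹ * d := by group
            rw [h4]
          _ = _ := by group
      rw [h3]
      exact mul_mem h1.1 (inv_mem ha.1)
    have hcomm : ∀ x ∈ c₀, ∀ y ∈ c₀, x * y = y * x := fun x hx y hy =>
      hpb.comm (hpb.N1N (hcN hx)) (hpb.N1N (hcN hy))
    have hmem : ∀ x ∈ c₀, τ * x * τ⁻¹ ∈ c₀ := fun x hx => by
      have h1 : τ * x * τ⁻¹ ∈ cj τ c₀ := ⟨x, hx, rfl⟩
      rwa [hτc] at h1
    have hinj : Function.Injective (fun x : c₀ => (⟨τ * x * τ⁻¹ * (x : G)⁻¹, mul_mem (hmem x x.2) (inv_mem x.2)⟩ : c₀)) := by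
      rintro ⟨x, hx⟩ ⟨y, hy⟩ hxy
      have h1 : τ * x * τ⁻¹ * x⁻¹ = τ * y * τ⁻¹ * y⁻¹ := congrArg Subtype.val hxy
      have h2 := hτ1 (y⁻¹ * x) (mul_mem (inv_mem hy) hx) (by
        have e1 : τ * (y⁻¹ * x) * τ⁻¹ = (τ * y * τ⁻¹)⁻¹ * (τ * x * τ⁻¹) := by group
        have e2 : τ * x * τ⁻¹ = τ * y * τ⁻¹ * (y⁻¹ * x) := by
          calc τ * x * τ⁻¹ = τ * x * τ⁻¹ * x⁻¹ * x := by group
            _ = τ * y * τ⁻¹ * y⁻¹ * x := by rw [h1]
            _ = _ := by group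
        rw [e1, e2]
        group)
      exact Subtype.ext (inv_mul_eq_one.1 h2).symm
    intro x hx
    obtain ⟨⟨y, hy⟩, e⟩ := Finite.surjective_of_injective hinj ⟨x, hx⟩
    have e1 : τ * y * τ⁻¹ * y⁻¹ = x := congrArg Subtype.val e
    rw [← e1]
    exact key y hy

end main

end Cfsg.Agent.Omega.OM.LowT.LinGen

end
end

-- part: Mrg/Omega/OM/LowT/TwoMain
section
set_option linter.all false
open scoped Cfsg.Agent.FastGrp

section


/-!
# TORUS, `k = 2 = q`, over a general top level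

Port of `OM/Lev/Low/TwoMain.lean` to the frame `SWT.Ln P n`, `n : LV S`, with the hypothesis `LinH`.

* `Tor` : the block with its torus and the frame `Res`; `exists_tor` : one natural factor over `𝔽₄`;
* `OutN.four_le` : `4 ≤ |F|`; `exists_tor_j`, `exists_tor'` : the torus block of a parabolic over `B` of a finite stage;
* `Tor.not_loc` : `⟨K, S⟩` is not local; `Tor.j_eq` : only the stage `j = 0` remains.
-/

set_option autoImplicit false
set_option linter.unusedSectionVars false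

namespace Cfsg.Agent.Omega.OM.LowT.TwoMain

open Subgroup Cfsg Cfsg.Agent.ZN Cfsg.Agent.ZN.ChoiceBase
open Cfsg.Agent.ZN.ChoiceSit (Syl)
open Cfsg.Agent.MinSimple.MinParabolic (IsMinPar)
open Cfsg.Agent.Omega.MinPar (IsLoc IsPar IsParS)
open Cfsg.Agent.Omega.NO3S.EThree.Frame (Bg)
open Cfsg.Agent.Omega.NO3S.Level (lev lev_mono lev_isLev lev_le)
open Cfsg.Agent.Omega.OM.SWT (Ln LV)
open Cfsg.Agent.Omega.OM.GLev
open Cfsg.Agent.Omega.OM.Lev.Low
open Cfsg.Agent.Omega.FFThm (NatKM)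
open Cfsg.Agent.Omega.FrameFF (cv)
open scoped commutatorElement

universe u

variable {G : Type u} [Group G] [Finite G]

/-- **(L)** over `Ln` + `Bg`, for a line of `YB` -/
theorem line_yb {ι : Type} [Finite ι] {S : Sylow 2 G} {P : Subgroup G} {n : LV S} {L W Z C A : ι → Subgroup G}
    (hL : Ln P n L W Z C A 2) (hB : Bg S P (SWT.BT n) (SWT.ZT n) L W Z C 2) {j : ℕ}
    (hj : lev (S : Subgroup G) j ≤ n.K) {Λ : Type*}
    {N c : Λ → Subgroup G} (hy : YB (SWT.BT n) (zc (lev (S : Subgroup G) j)) N c) {l : Λ}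
    (hfix : ∀ b ∈ SWT.BT n, Mv N c b l l) (hcV : c l ≤ zl (S : Subgroup G) P)
    (hc4 : Nat.card (c l) = 4) (hZJ : ¬ SWT.ZT n ≤ N l) {τ : G}
    (hτc : ∀ x ∈ c l, τ * x * τ⁻¹ ∈ c l) (hτ1 : ∀ x ∈ c l, τ * x * τ⁻¹ = x → x = 1)
    (hτN : ∀ x ∈ N l, τ * x * τ⁻¹ = x) :
    ∃ i, c l = W i ∧ (∀ m, m ≠ i → W m ≤ N l) ∧ ∀ m, m ≠ i → Z m ≤ N l := by
  refine LowT.Line.line' hL hB hcV hc4 (fun x hx => hy.fix l x ?_) (hy.triv l) (fun b hb x hx => ?_)
    (fun b hb x hx => ?_) hZJ hτc hτ1 hτN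
  · exact (lev_isLev (S : Subgroup G) j).zc_le_zc hj n.lev.le hx
  · have h1 := (hfix b hb).2
    have h2 : b * x * b⁻¹ ∈ cj b (c l) := ⟨x, hx, rfl⟩
    rwa [h1] at h2
  · have h1 := (hfix b hb).1
    have h2 : b * x * b⁻¹ ∈ cj b (N l) := ⟨x, hx, rfl⟩
    rwa [h1] at h2

/-- The block with its torus. -/
structure Tor {S : Sylow 2 G} (P : Subgroup G) (n : LV S) (L W Z C A : Fin 2 → Subgroup G) (R : Subgroup G) (j : ℕ)
    (K N₁ c : Subgroup G) (τ : G) : Prop where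
  inp : LowT.Inp P n L W Z C A (SWT.BT n) R j (fun _ : Fin 1 => K)
    (fun _ => zl (SWT.BT n) R)
    (fun _ => zc (lev (S : Subgroup G) j) ⊓ centralizer (K : Set G)) (fun _ => c)
  pb : PB (LevB.BL (S : Subgroup G) j) K (zl (SWT.BT n) R) N₁
    (cv (SWT.BT n) R) 4
  TV : SWT.BT n ≤ normalizer ((⁅zl (SWT.BT n) R, K⁆ : Subgroup G) : Set G)
  cN1 : c ≤ N₁
  N1c : N₁ ≤ c ⊔ cv (SWT.BT n) R
  cD : c ⊓ cv (SWT.BT n) R = ⊥
  c4 : Nat.card c = 4
  τK : τ ∈ K
  τB : τ ∈ normalizer (LevB.BL (S : Subgroup G) j : Set G)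
  τc : cj τ c = c
  τ1 : ∀ x ∈ c, τ * x * τ⁻¹ = x → x = 1
  τD : ∀ v ∈ zl (SWT.BT n) R, τ * v * τ⁻¹ * v⁻¹ ∈ cv (SWT.BT n) R →
    v ∈ cv (SWT.BT n) R
  cl : c ≤ ⁅⁅zl (SWT.BT n) R, K⁆, LevB.BL (S : Subgroup G) j⁆
  line : ∀ y ∈ R, ∀ v ∈ N₁, v ∉ cv (SWT.BT n) R → y * v * y⁻¹ ∈ N₁ → cj y N₁ = N₁
  hat : ∀ u ∈ SWT.BT n, (∀ x ∈ c, u * x = x * u) →
    ∀ x ∈ ⁅(⁅zl (SWT.BT n) R, K⁆ : Subgroup G), LevB.BL (S : Subgroup G) j⁆, u * x = x * u
  sub : YB.Sub (SWT.BT n)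
    (fun _ : Fin 1 => zc (lev (S : Subgroup G) j) ⊓ centralizer (K : Set G)) (fun _ => c)

theorem exists_tor {S : Sylow 2 G} {P : Subgroup G} {n : LV S} {L W Z C A : Fin 2 → Subgroup G}
    (hln : Ln P n L W Z C A 2) {R : Subgroup G} (hR : Syl (SWT.BT n) R)
    (hc : R ⊓ centralizer (o2 R : Set G) ≤ o2 R) {j : ℕ} (hj : lev (S : Subgroup G) j ≤ n.K)
    (hlow : ∀ i < j, lev (S : Subgroup G) i ≤ o2 R) {F : Type} [Field F] [Finite F] [CharP F 2]
    (hF : Nat.card F = 4) {X : Subgroup G} {AA' : Set (Subgroup G)} (hge : GE (SWT.BT n) R X AA')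
    (hbz : BZ (SWT.BT n) X AA' (LevB.BL (S : Subgroup G) j) (zc (lev (S : Subgroup G) j)))
    (hex : ∃ A ∈ AA', ¬ A ≤ o2 R)
    (N : NatKM F (SWT.BT n) R (zl (SWT.BT n) R)
      (cv (SWT.BT n) R) 1) :
    ∃ K N₁ c τ, Tor P n L W Z C A R j K N₁ c τ := by
  obtain ⟨K, N₁, c, τ, hBK, hKR, hpb, hRT, hTV, hyb, hcN, hNc, hcD, hcF, hτK, hτB, hτc, hτ1, hτD, hcl, hline⟩ :=
    Two.exists_tor hge hbz N hex (by omega)
  have hsub := sub_one hge hbz N hex hpb hyb hcN hNc hcD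
  rw [hF] at hpb hcF
  refine ⟨K, N₁, c, τ, ?_, hpb, hTV, hcN, hNc, hcD, hcF, hτK, hτB, hτc, hτ1, hτD, hcl, hline,
    fun u hu huc x hx => ?_, hsub⟩
  swap
  · refine cen_hat hge hbz N hex hu (fun v hv hvZ => ?_) x (commutator_mono hpb.VN le_rfl hx)
    have hvN : v ∈ N₁ := by
      refine (BlOf.line_iff hpb hv).2 ?_
      rw [hbz.zcB]
      exact hvZ
    obtain ⟨a, ha, d, hd, rfl⟩ := Cfsg.Agent.Omega.SQ1.Bau.mem_sup_comm
      (fun a ha b hb => hpb.comm (hpb.N1N (hcN ha)) (hpb.N1N (hpb.N01 hb))) (hNc hvN)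
    have hdu : u * d * u⁻¹ ∈ cv (SWT.BT n) R :=
      (NO3S.OneLine.natC_of hge.hm one_pos N.toNatK).Dn u (hR.1 hu) d hd
    have hdd := mul_mem hdu (inv_mem hd)
    have e1 : a * (u * d * u⁻¹ * d⁻¹) = u * d * u⁻¹ * d⁻¹ * a :=
      hpb.comm (hpb.N1N (hcN ha)) (hpb.N1N (hpb.N01 hdd))
    have e2 : u * (a * d) * u⁻¹ * (a * d)⁻¹ = u * d * u⁻¹ * d⁻¹ := by
      calc u * (a * d) * u⁻¹ * (a * d)⁻¹ = (u * a) * d * u⁻¹ * d⁻¹ * a⁻¹ := by group
        _ = (a * u) * d * u⁻¹ * d⁻¹ * a⁻¹ := by rw [huc a ha]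
        _ = a * (u * d * u⁻¹ * d⁻¹) * a⁻¹ := by group
        _ = _ := by rw [e1]; group
    rw [e2]
    exact hdd
  refine ⟨hln, hR, le_rfl, hj, hc, hlow, ?_⟩
  exact
    { yb := hyb
      pb := fun _ => ⟨_, _, _, hpb⟩
      KY := fun _ => hKR
      EY := fun _ => le_rfl
      memN := fun _ x hx => ⟨fun h1 => mem_centralizer_iff.1 h1.2, fun h1 => ⟨hx, mem_centralizer_iff.2 h1⟩⟩
      mv := fun t ht _ _ _ => cj_eq_of_mem_normalizer (hTV ht)
      line := fun _ => hcl.trans (commutator_mono hpb.VN le_rfl)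
      cross := fun l m hlm => absurd (Subsingleton.elim l m) hlm
      tr := fun l m => ⟨1, one_mem _, by
        rw [Subsingleton.elim l m]
        exact Mv.one m⟩
      sup := fun _ => hRT }

namespace Tor

variable {S : Sylow 2 G} {P : Subgroup G} {n : LV S} {L W Z C A : Fin 2 → Subgroup G} {R : Subgroup G} {j : ℕ}
  {K N₁ c : Subgroup G} {τ : G} (h : Tor P n L W Z C A R j K N₁ c τ)
  (hbg : Bg S P (SWT.BT n) (SWT.ZT n) L W Z C 2)
include h

theorem oR : o2 R ≤ (S : Subgroup G) :=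
  (ChoiceSit.o2_le_syl h.inp.syl).trans (SWT.lb n).BS

/-- `K ≤ N(lev S i)`, `i < j` -/
theorem K_norm : ∀ i, j = i + 1 → K ≤ normalizer (lev (S : Subgroup G) i : Set G) := fun i hi =>
  (h.inp.yk.KY 0).trans ((lev_isLev (S : Subgroup G) i).le_norm_of_o2 (h.inp.low i (by omega)) h.oR)

/-- (L) -/
theorem line_eq (hbg : Bg S P (SWT.BT n) (SWT.ZT n) L W Z C 2)
    (hZ : ¬ R ≤ centralizer (zc (SWT.BT n) : Set G)) (hV : c ≤ zl (S : Subgroup G) P) :
    ∃ i, c = W i ∧ (∀ m, m ≠ i → W m ≤ centralizer (K : Set G)) ∧ ∀ m, m ≠ i → Z m ≤ centralizer (K : Set G) := by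
  obtain ⟨i, h1, h2, h3⟩ := line_yb h.inp.ln hbg h.inp.jn h.inp.yk.yb (l := 0)
    (fun b hb => by
      obtain ⟨m, hm⟩ := h.inp.yk.yb.perm b hb 0
      rwa [Subsingleton.elim m 0] at hm) hV h.c4
    (fun hle => hZ ((h.inp.yk.sup 0).trans (sup_le (NO3S.Level.le_centralizer_zc _) (by
      have e : zc (SWT.BT n) = SWT.ZT n := h.inp.ln.fr.zcB
      rw [e]
      exact le_centralizer_iff.1 (hle.trans inf_le_right))))) (τ := τ)
    (fun x hx => by
      have h4 : τ * x * τ⁻¹ ∈ cj τ c := ⟨x, hx, rfl⟩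
      rwa [h.τc] at h4) h.τ1
    (fun x hx => by
      have h4 : τ * x = x * τ := mem_centralizer_iff.1 (mem_inf.1 hx).2 τ h.τK
      rw [h4, mul_inv_cancel_right])
  exact ⟨i, h1, fun m hm => (h2 m hm).trans inf_le_right, fun m hm => (h3 m hm).trans inf_le_right⟩

/-- **`Res`, and (D)** -/
theorem exists_res (hbg : Bg S P (SWT.BT n) (SWT.ZT n) L W Z C 2)
    (hZ : ¬ R ≤ centralizer (zc (SWT.BT n) : Set G)) (hV : c ≤ zl (S : Subgroup G) P) :
    ∃ z z1 z2, TwoRes.Res S (SWT.BT n) (LevB.BL (S : Subgroup G) j) (zc (lev (S : Subgroup G) j))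
        (zl (SWT.BT n) R) N₁ (cv (SWT.BT n) R) K c z z1 z2 ∧
      ∀ t ∈ (S : Subgroup G), t ∉ SWT.BT n →
        cj t ⁅(⁅zl (SWT.BT n) R, K⁆ : Subgroup G), LevB.BL (S : Subgroup G) j⁆ ≠
          ⁅(⁅zl (SWT.BT n) R, K⁆ : Subgroup G), LevB.BL (S : Subgroup G) j⁆ := by
  obtain ⟨i, hcW, hWm, hZm⟩ := h.line_eq hbg hZ hV
  obtain ⟨i', hii⟩ : ∃ i', i ≠ i' := by
    have h5 : ∀ i : Fin 2, ∃ i', i ≠ i' := by decide
    exact h5 i
  obtain ⟨v, hv1, hv, -⟩ := TC.OfBg.exists_sit hbg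
  have hcl : c ≤ ⁅zl (SWT.BT n) R, K⁆ := by
    refine h.cl.trans ?_
    rw [commutator_le]
    intro x hx b hb
    have h1 := mul_mem hx ((mem_normalizer_iff.1 (h.pb.LV (h.pb.BL hb)) _).1 (inv_mem hx))
    have e : x * (b * x⁻¹ * b⁻¹) = ⁅x, b⁆ := by rw [commutatorElement_def]; group
    rwa [e] at h1
  refine ⟨_, _, _, LowT.TwoInst.res_of h.inp.ln hbg hv1 hv h.inp.jn h.pb h.TV h.inp.yk.yb h.cN1 h.N1c h.cD h.c4 hcl hii
    ?_ ?_, fun t ht htB => ?_⟩
  · rw [hcW]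
    exact (hbg.fr.blk i).ZV ((hv i _).2 (Or.inr rfl))
  · exact hZm i' (Ne.symm hii) ((hv i' _).2 (Or.inr rfl))
  · intro he
    have hne := h.inp.ln.fr.Ane i'
    push Not at hne
    obtain ⟨a, ha, w, hw, hne⟩ := hne
    apply hne
    have haB := h.inp.ln.fr.AB i' ha
    refine h.hat a haB (fun x hx => h.inp.ln.fr.AC i' a ha x (h.inp.ln.fr.WjC i' i (Ne.symm hii) (hcW ▸ hx))) w ?_
    rw [← he]
    refine cj_mono t h.cl ?_
    rw [hcW, Two.swap hbg ht htB hii]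
    exact hw

theorem zT (hZ : ¬ R ≤ centralizer (zc (SWT.BT n) : Set G)) :
    ¬ zc (SWT.BT n) ≤ zc (lev (S : Subgroup G) j) ⊓ centralizer (K : Set G) := fun hle =>
  hZ ((h.inp.yk.sup 0).trans (sup_le (NO3S.Level.le_centralizer_zc _)
    (le_centralizer_iff.1 (hle.trans inf_le_right))))

/-- `c ≤ V_P` -/
theorem le_V (hlin : LinH S P (SWT.BT n) R j) : c ≤ zl (S : Subgroup G) P :=
  hlin.le K N₁ c τ h.pb (h.inp.yk.KY 0) h.cN1 h.τK h.τB h.τc h.τ1

/-- **`⟨K, S⟩` is not local.** -/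
theorem not_loc (hbg : Bg S P (SWT.BT n) (SWT.ZT n) L W Z C 2)
    (hall : ∀ R, IsParS (S : Subgroup G) R → n.K ≤ o2 R)
    (hZ : ¬ R ≤ centralizer (zc (SWT.BT n) : Set G)) (hV : c ≤ zl (S : Subgroup G) P) :
    ¬ IsLoc (S : Subgroup G) (K ⊔ (S : Subgroup G)) := by
  intro hL
  obtain ⟨z, z1, z2, hR, hD⟩ := h.exists_res hbg hZ hV
  have hz1 : z ≠ 1 := fun e => hR.zK (by rw [e]; exact one_mem _)
  exact TwoEnd.false_of hR (H := R) h.inp.syl.1 (h.inp.yk.KY 0) (h.inp.yk.sup 0)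
    (MinSimple.VModule.le_normalizer_zl _ R) h.line h.τK h.τc h.τD h.K_norm h.inp.ln.hyp.ctx.char2 hL hD
    (LowT.TwoInst.gen_le hL h.inp.jn hall hR.zz hz1 hR.zS)

end Tor

/-- `4 ≤ |F|` -/
theorem four_le {ι : Type} [Finite ι] {S : Sylow 2 G} {P : Subgroup G} {n : LV S}
    {L W Z C A : ι → Subgroup G} {T Y : Subgroup G} {j : ℕ} {F : Type} [Field F] [Finite F] [CharP F 2] {k : ℕ}
    {M : NO3S.OneLine.NatC F T Y (zl T Y) (cv T Y) k} {K Nn c : Fin k → Subgroup G} (hk : 0 < k)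
    (h : LowT.OutN P n L W Z C A T Y j M K Nn c) : 4 ≤ Nat.card F := by
  obtain ⟨v, -, a, ha, -, ha1, v', -, a', ha', -, ha1', hne⟩ := h.wide ⟨0, hk⟩
  have h1 : 2 < Nat.card (c ⟨0, hk⟩) := Line.two_lt_card (one_mem _) ha ha' (Ne.symm ha1) (Ne.symm ha1') hne
  rw [h.nb.co.card] at h1
  have : Fact (Nat.Prime 2) := ⟨Nat.prime_two⟩
  obtain ⟨m, hm⟩ := (IsPGroup.iff_card (p := 2) (G := Multiplicative F)).1 (fun x => ⟨1, by
    have h2 : (2 : F) = 0 := CharP.cast_eq_zero F 2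
    show Multiplicative.ofAdd ((2 ^ 1) • Multiplicative.toAdd x) = 1
    rw [pow_one, two_smul, CharTwo.add_self_eq_zero]
    rfl⟩)
  have hm' : Nat.card F = 2 ^ m := hm
  rw [hm'] at h1 ⊢
  have h3 : 1 < m := by
    by_contra hcon
    have h4 : m ≤ 1 := by omega
    have h5 := Nat.pow_le_pow_right (show 0 < 2 by norm_num) h4
    omega
  have h5 := Nat.pow_le_pow_right (show 0 < 2 by norm_num) (show 2 ≤ m by omega)
  omega

/-- **The torus block of a parabolic over `B` of the stage `j`.** -/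
theorem exists_tor_j {S : Sylow 2 G} {P : Subgroup G} {n : LV S} {L W Z C A : Fin 2 → Subgroup G}
    (hln : Ln P n L W Z C A 2) {R : Subgroup G} (hR : Syl (SWT.BT n) R) (hP : IsMinPar (SWT.BT n) R)
    (hc : R ⊓ centralizer (o2 R : Set G) ≤ o2 R) (hZ : ¬ R ≤ centralizer (zc (SWT.BT n) : Set G)) {j : ℕ}
    (hj : lev (S : Subgroup G) j ≤ n.K) (hlow : ∀ i < j, lev (S : Subgroup G) i ≤ o2 R)
    (hnj : ¬ lev (S : Subgroup G) j ≤ o2 R) (hlin : LinH S P (SWT.BT n) R j) :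
    ∃ K N₁ c τ, Tor P n L W Z C A R j K N₁ c τ := by
  obtain ⟨X, AA', hge, hbz, hex, F, _, _, _, k, hk, N, K, Nn, c, ho⟩ :=
    LowT.exists_out hln hR le_rfl hP hc hZ hj hlow hnj
  obtain ⟨rfl, hF⟩ := hlin.one F k hk N (four_le hk ho)
  exact exists_tor hln hR hc hj hlow hF hge hbz hex N

/-- **The torus block of a parabolic over `B` of a finite stage.** -/
theorem exists_tor' {S : Sylow 2 G} {P : Subgroup G} {n : LV S} {L W Z C A : Fin 2 → Subgroup G}
    (hln : Ln P n L W Z C A 2) {R : Subgroup G} (hR : Syl (SWT.BT n) R)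
    (hP : IsMinPar (SWT.BT n) R) (hc : R ⊓ centralizer (o2 R : Set G) ≤ o2 R)
    (hn : ∃ s, lev (S : Subgroup G) s ≤ n.K ∧ ¬ lev (S : Subgroup G) s ≤ o2 R)
    (hZ : ¬ R ≤ centralizer (zc (SWT.BT n) : Set G))
    (hlin : ∀ j, lev (S : Subgroup G) j ≤ n.K → (∀ i < j, lev (S : Subgroup G) i ≤ o2 R) →
      ¬ lev (S : Subgroup G) j ≤ o2 R → LinH S P (SWT.BT n) R j) :
    ∃ j K N₁ c τ, Tor P n L W Z C A R j K N₁ c τ ∧ c ≤ zl (S : Subgroup G) P := by
  classical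
  obtain ⟨s, hs, hns⟩ := hn
  have hexs : ∃ j, ¬ lev (S : Subgroup G) j ≤ o2 R := ⟨s, hns⟩
  have hj : lev (S : Subgroup G) (Nat.find hexs) ≤ n.K := (lev_mono _ (Nat.find_min' hexs hns)).trans hs
  have hlow : ∀ i < Nat.find hexs, lev (S : Subgroup G) i ≤ o2 R := fun i hi => by
    by_contra hcon
    exact Nat.find_min hexs hi hcon
  have hl := hlin _ hj hlow (Nat.find_spec hexs)
  obtain ⟨K, N₁, c, τ, ht⟩ := exists_tor_j hln hR hP hc hZ hj hlow (Nat.find_spec hexs) hl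
  exact ⟨_, K, N₁, c, τ, ht, ht.le_V hl⟩

end Cfsg.Agent.Omega.OM.LowT.TwoMain

end

section


/-!
# `V_P` = even subsets of five letters, over a general top level: no minimal parabolic of finite stage over `T` moves
`Ω₁(Z(T))`

Port of `NO3S/Sym/LowFive.lean` (helper604) to the frame `SWT.Ln P n`, `n : LV S`, `ι = Fin 2`; `B = T = Std.T S p`.

* `line_five`, `res_five`, `exists_res`, `not_loc`, `tor_false` : over the torus block `Tor` with its line `c ≤ V_P`.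
-/

set_option autoImplicit false
set_option linter.unusedSectionVars false

namespace Cfsg.Agent.Omega.OM.LowT.Five

open Subgroup Cfsg Cfsg.Agent.ZN Cfsg.Agent.ZN.ChoiceBase
open Cfsg.Agent.ZN.ChoiceSit (Syl)
open Cfsg.Agent.MinSimple.MinParabolic (IsMinPar)
open Cfsg.Agent.Omega.MinPar (IsLoc IsPar IsParS)
open Cfsg.Agent.Omega.NO3S.Level (lev lev_mono lev_isLev lev_le)
open Cfsg.Agent.Omega.OM
open Cfsg.Agent.Omega.OM.SWT (Ln LV)
open Cfsg.Agent.Omega.OM.GLev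
open Cfsg.Agent.Omega.OM.Lev.Uni (FrL)
open Cfsg.Agent.Omega.OM.Lev.Low
open Cfsg.Agent.Omega.FrameFF (cv)
open Cfsg.Agent.Omega.SQ1.Bau (card_sup_comm)
open Cfsg.Agent.Omega.NTwo (Std nn aa)
open Cfsg.Agent.Omega.NO3S.Sym
open Cfsg.Agent.Omega.NO3S.Sym.Light (FiveL)
open Cfsg.Agent.Omega.NO3S.Sym.LowFive (Id5 idx cj_W exists_pair heavy_light mem_Z_of)
open scoped commutatorElement

universe u

variable {G : Type u} [Group G] [Finite G] {S : Sylow 2 G} {P : Subgroup G} {n : LV S}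
  {L W Z C A : Fin 2 → Subgroup G} {R : Subgroup G} {j : ℕ} {K N₁ c : Subgroup G} {τ : G} {p : Fin 5 → G}

/-- **The line of the torus block is `W l`.** -/
theorem line_five (h : FiveL S P p) (hid : Id5 (S : Subgroup G) (SWT.BT n) W Z p)
    (ht : TwoMain.Tor P n L W Z C A R j K N₁ c τ)
    (hZ : ¬ R ≤ centralizer (zc (SWT.BT n) : Set G)) (hV : c ≤ zl (S : Subgroup G) P) :
    ∃ i, c = W i ∧ ∀ m, m ≠ i → Z m ≤ centralizer (K : Set G) := by
  have hyb := ht.inp.yk.yb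
  have hfix : ∀ b ∈ SWT.BT n, Mv (fun _ : Fin 1 => zc (lev (S : Subgroup G) j) ⊓ centralizer (K : Set G))
      (fun _ => c) b 0 0 := fun b hb => by
    obtain ⟨m, hm⟩ := hyb.perm b hb 0
    rwa [Subsingleton.elim m 0] at hm
  obtain ⟨i, h1, h2⟩ := LineFive.line5 ht.inp.ln.fr (c := c) (N := zc (lev (S : Subgroup G) j) ⊓ centralizer (K : Set G))
    (τ := τ)
    (fun l z hz hz1 w hw hwZ b hb hbC hb1 g => by
      obtain ⟨m, hlm⟩ : ∃ m, l ≠ m := by
        have key : ∀ l : Fin 2, ∃ m, l ≠ m := by decide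
        exact key l
      exact heavy_light h hid hlm hz hz1 hw hwZ (mem_Z_of ht.inp.ln.fr hlm hb hbC) hb1 g)
    hV ht.c4
    (fun x hx => hyb.fix 0 x ((lev_isLev (S : Subgroup G) j).zc_le_zc ht.inp.jn n.lev.le hx))
    (hyb.triv 0)
    (fun b hb x hx => by
      have h3 := (hfix b hb).2
      have h4 : b * x * b⁻¹ ∈ cj b c := ⟨x, hx, rfl⟩
      rwa [h3] at h4)
    (fun b hb x hx => by
      have h3 := (hfix b hb).1
      have h4 : b * x * b⁻¹ ∈ cj b (zc (lev (S : Subgroup G) j) ⊓ centralizer (K : Set G)) := ⟨x, hx, rfl⟩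
      rwa [h3] at h4)
    (fun hle => hZ ((ht.inp.yk.sup 0).trans (sup_le (NO3S.Level.le_centralizer_zc _) (by
      rw [ht.inp.ln.fr.zcB]
      exact le_centralizer_iff.1 (hle.trans inf_le_right)))))
    (fun x hx => by
      have h4 : τ * x * τ⁻¹ ∈ cj τ c := ⟨x, hx, rfl⟩
      rwa [ht.τc] at h4) ht.τ1
  exact ⟨i, h1, fun m hm => (h2 m hm).trans inf_le_right⟩

/-- `|V_P| ≥ 16` -/
theorem card_V (hln : Ln P n L W Z C A 2) : 16 ≤ Nat.card (zl (S : Subgroup G) P) := by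
  have hW : ∀ i, Nat.card (W i) = 4 := fun i => by
    rw [(hln.fr.blk i).card, hln.fr.cardZ i]
  have h01 : W 0 ⊓ W 1 = ⊥ := by
    rw [eq_bot_iff, ← hln.fr.dir 0]
    exact inf_le_inf_left _ (hln.fr.WjC 0 1 (by decide))
  have h1 := card_sup_comm (A := W 0) (B := W 1) fun a ha b hb => hln.fr.Vc (hln.fr.WV 0 ha) (hln.fr.WV 1 hb)
  rw [h01, Subgroup.card_bot, mul_one, hW, hW] at h1
  calc 16 = Nat.card ↥(W 0 ⊔ W 1) := h1.symm
    _ ≤ _ := Subgroup.card_le_of_le (sup_le (hln.fr.WV 0) (hln.fr.WV 1))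

/-- **The instance of `Res`.** -/
theorem res_five (h : FiveL S P p) (hid : Id5 (S : Subgroup G) (SWT.BT n) W Z p)
    (hln : Ln P n L W Z C A 2) {M N₁ D K c : Subgroup G}
    {j : ℕ} (hj : lev (S : Subgroup G) j ≤ n.K) (hpb : PB (LevB.BL (S : Subgroup G) j) K M N₁ D 4)
    (hBN : SWT.BT n ≤ normalizer ((⁅M, K⁆ : Subgroup G) : Set G))
    (hyb : YB (SWT.BT n) (zc (lev (S : Subgroup G) j))
      (fun _ : Fin 1 => zc (lev (S : Subgroup G) j) ⊓ centralizer (K : Set G)) (fun _ => c))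
    (hc1 : c ≤ N₁) (hc2 : N₁ ≤ c ⊔ D) (hcD : c ⊓ D = ⊥) (hc4 : Nat.card c = 4) (hcV : c ≤ ⁅M, K⁆)
    {z1 z2 : G} (hz1 : z1 ≠ 1) (hz2 : z2 ≠ 1) (e : p 4 = z1 * z2) (h1 : z1 ∈ c) (h2V : z2 ∈ zl (S : Subgroup G) P)
    (h2 : z2 ∈ centralizer (K : Set G)) :
    TwoRes.Res S (SWT.BT n) (LevB.BL (S : Subgroup G) j) (zc (lev (S : Subgroup G) j)) M N₁ D K c
      (p 4) z1 z2 where
  BS := (SWT.lb n).BS
  SB := by rw [hid.BT]; exact h.std.le_norm_T
  idx := fun a ha haB b hb hbB => idx h hid ha haB hb hbB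
  ne := NO3S.Sym.LowFive.exists_out h hid
  SX := ((lev_isLev (S : Subgroup G) j).S_norm).trans (NO3S.Level.normalizer_le_zc _)
  X2 := NO3S.OneLine.zc_elem _
  B0eq := rfl
  B0B := BL_le_BT hj
  XB0 := by
    have h3 := LevB.zc_B S j
    rw [← h3]
    exact fun x hx => (ChoiceBase.mem_zc.1 hx).1
  pb := hpb
  BN := hBN
  yb := hyb
  cN1 := hc1
  N1c := hc2
  cD := hcD
  c4 := hc4
  cV := hcV
  zz := ChoiceBase.mem_zc.2 ⟨h.std.mem 4, by rw [pow_two]; exact h.std.sq 4,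
    fun s hs => mul_inv_eq_iff_eq_mul.1 (h.std.fix s hs)⟩
  zS := fun x hx hx1 => (h.std.zc4 x hx).resolve_left hx1
  ez := e
  z1c := h1
  z1n := hz1
  z2c := mem_inf.2 ⟨(hln.fr.VX.trans ((lev_isLev (S : Subgroup G) j).zc_le_zc hj n.lev.le)) h2V, h2⟩
  z2n := hz2
  X16 := (card_V hln).trans (Subgroup.card_le_of_le
    (hln.fr.VX.trans ((lev_isLev (S : Subgroup G) j).zc_le_zc hj n.lev.le)))

/-- **`Res`, and (D)** -/
theorem exists_res (h : FiveL S P p) (hid : Id5 (S : Subgroup G) (SWT.BT n) W Z p)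
    (ht : TwoMain.Tor P n L W Z C A R j K N₁ c τ)
    (hZ : ¬ R ≤ centralizer (zc (SWT.BT n) : Set G)) (hV : c ≤ zl (S : Subgroup G) P) :
    ∃ z1 z2, TwoRes.Res S (SWT.BT n) (LevB.BL (S : Subgroup G) j) (zc (lev (S : Subgroup G) j))
        (zl (SWT.BT n) R) N₁ (cv (SWT.BT n) R) K c (p 4) z1 z2 ∧
      ∀ t ∈ (S : Subgroup G), t ∉ SWT.BT n →
        cj t ⁅(⁅zl (SWT.BT n) R, K⁆ : Subgroup G), LevB.BL (S : Subgroup G) j⁆ ≠
          ⁅(⁅zl (SWT.BT n) R, K⁆ : Subgroup G), LevB.BL (S : Subgroup G) j⁆ := by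
  obtain ⟨i, hcW, hZm⟩ := line_five h hid ht hZ hV
  obtain ⟨i', hii⟩ : ∃ i', i ≠ i' := by
    have h5 : ∀ i : Fin 2, ∃ i', i ≠ i' := by decide
    exact h5 i
  obtain ⟨z1, hz1, z2, hz2, hz11, hz21, e⟩ := exists_pair h hid hii
  have hcl : c ≤ ⁅zl (SWT.BT n) R, K⁆ := by
    refine ht.cl.trans ?_
    rw [commutator_le]
    intro x hx b hb
    have h1 := mul_mem hx ((mem_normalizer_iff.1 (ht.pb.LV (ht.pb.BL hb)) _).1 (inv_mem hx))
    have e : x * (b * x⁻¹ * b⁻¹) = ⁅x, b⁆ := by rw [commutatorElement_def]; group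
    rwa [e] at h1
  refine ⟨z1, z2, res_five h hid ht.inp.ln ht.inp.jn ht.pb ht.TV ht.inp.yk.yb ht.cN1 ht.N1c ht.cD ht.c4 hcl
    hz11 hz21 e ?_ (ht.inp.ln.fr.ZV i' hz2) (hZm i' (Ne.symm hii) hz2), fun t hs htB => ?_⟩
  · rw [hcW]
    exact (ht.inp.ln.fr.blk i).ZV hz1
  · intro he
    have hne := ht.inp.ln.fr.Ane i'
    push Not at hne
    obtain ⟨a, ha, w, hw, hne⟩ := hne
    apply hne
    have haB := ht.inp.ln.fr.AB i' ha
    refine ht.hat a haB (fun x hx => ht.inp.ln.fr.AC i' a ha x (ht.inp.ln.fr.WjC i' i (Ne.symm hii) (hcW ▸ hx))) w ?_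
    rw [← he]
    refine cj_mono t ht.cl ?_
    rw [hcW, cj_W h hid hs htB hii]
    exact hw

/-- **`⟨K, S⟩` is not local.** -/
theorem not_loc (h : FiveL S P p) (hid : Id5 (S : Subgroup G) (SWT.BT n) W Z p)
    (ht : TwoMain.Tor P n L W Z C A R j K N₁ c τ)
    (hall : ∀ R, IsParS (S : Subgroup G) R → n.K ≤ o2 R)
    (hZ : ¬ R ≤ centralizer (zc (SWT.BT n) : Set G)) (hV : c ≤ zl (S : Subgroup G) P) :
    ¬ IsLoc (S : Subgroup G) (K ⊔ (S : Subgroup G)) := by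
  intro hL
  obtain ⟨z1, z2, hR, hD⟩ := exists_res h hid ht hZ hV
  have hz1 : p 4 ≠ 1 := h.std.ne 4
  exact TwoEnd.false_of hR (H := R) ht.inp.syl.1 (ht.inp.yk.KY 0) (ht.inp.yk.sup 0)
    (MinSimple.VModule.le_normalizer_zl _ R) ht.line ht.τK ht.τc ht.τD ht.K_norm ht.inp.ln.hyp.ctx.char2 hL hD
    (LowT.TwoInst.gen_le hL ht.inp.jn hall hR.zz hz1 hR.zS)

/-- **The torus block does not exist.** -/
theorem tor_false (h : FiveL S P p) (hid : Id5 (S : Subgroup G) (SWT.BT n) W Z p)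
    (ht : TwoMain.Tor P n L W Z C A R j K N₁ c τ)
    (hall : ∀ R, IsParS (S : Subgroup G) R → n.K ≤ o2 R)
    (hZ : ¬ R ≤ centralizer (zc (SWT.BT n) : Set G)) (hV : c ≤ zl (S : Subgroup G) P) : False := by
  obtain ⟨z1, z2, hR, hD⟩ := exists_res h hid ht hZ hV
  exact not_loc h hid ht hall hZ hV (hR.isLoc hD)

end Cfsg.Agent.Omega.OM.LowT.Five

end
end

-- part: Mrg/Omega/NO3S/WY/FinDone
section
set_option linter.all false
open scoped Cfsg.Agent.FastGrp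

-- merged: Cfsg.Agent.Mrg.Omega.NO3S.WY.FinOf
section

/-!
# NoW, `q = 2`: the finite stages

`¬ J(S) ≤ O₂(Y)` is the stage `0`.

* `LinOf K` : (LIN) at the stage `0` for the maximal `Y`;
* `LowEnd k` : the end of the torus configuration, over `SWT.Ln` + `Bg` + (LIN);
* **`finP_of : LinOf K → LowEnd 2 → (∀ k ≥ 3, LowEnd k) → FinP K`**.
-/

set_option autoImplicit false
set_option linter.unusedSectionVars false
set_option linter.dupNamespace false

namespace Cfsg.Agent.Omega.NO3S.WY.FinOf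

open Subgroup Cfsg Cfsg.Agent.ZN Cfsg.Agent.ZN.ChoiceBase Cfsg.Agent.Omega.MinPar Cfsg.Agent.Omega.Frame
open Cfsg.Agent.ZN.ChoiceSit (Syl)
open Cfsg.Agent.MinSimple.MinParabolic (IsMinPar)
open Cfsg.Agent.Omega.NO3S.Level
open Cfsg.Agent.Omega.Frame (Cls)
open Cfsg.Agent.Omega.OM
open Cfsg.Agent.Omega.OM.SWT (LV Ln ZT BT)
open Cfsg.Agent.Omega.OM.LowT (LinH)
open Cfsg.Agent.Omega.NO3S.EThree.Frame (Bg)
open Cfsg.Agent.Omega.Node.MultiOf Cfsg.Agent.Omega.Node.MulG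
open Cfsg.Agent.Omega.Node.MulX (MulL KX)
open Cfsg.Agent.Omega.NO3S.WY.Sel (Wd Mx FinP zc_B)

universe u

/-- **(LIN) at the stage `0`** for the maximal `Y`. -/
def LinOf (K : Cls.{u}) : Prop :=
  ∀ (G : Type u) [Group G] [Finite G], K G → ∀ (S : Sylow 2 G) (P B ZJ : Subgroup G) (k : ℕ)
    (L W Z C A : Fin k → Subgroup G), 2 ≤ k → MulL S P B ZJ L W Z C A 2 →
      NLoc (KX B ZJ (zl (S : Subgroup G) P)) → ∀ (j : Fin k) (Y : Subgroup G), Wd S P B ZJ Z j Y →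
        Mx S P B ZJ Z Y → ¬ jj (S : Subgroup G) ≤ o2 Y → LinH S P B Y 0

/-- **The end of the finite stages**: over the frame `SWT.Ln` with (LIN), a parabolic of stage `j` over `B` centralises
`Ω₁Z(B)`. -/
def LowEnd (k : ℕ) : Prop :=
  ∀ (G : Type u) [Group G] [Finite G] (S : Sylow 2 G) (P : Subgroup G) (n : LV S) (L W Z C A : Fin k → Subgroup G),
    Ln P n L W Z C A 2 → Bg S P (BT n) (ZT n) L W Z C 2 → (∀ R, IsParS (S : Subgroup G) R → n.K ≤ o2 R) →
      ∀ R : Subgroup G, IsMinPar (BT n) R → Syl (BT n) R → R ⊓ centralizer (o2 R : Set G) ≤ o2 R →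
        ∀ j : ℕ, lev (S : Subgroup G) j ≤ n.K → (∀ i < j, lev (S : Subgroup G) i ≤ o2 R) →
          ¬ lev (S : Subgroup G) j ≤ o2 R → LinH S P (BT n) R j → R ≤ centralizer (zc (BT n) : Set G)

section mul

variable {G : Type u} [Group G] [Finite G] {S : Sylow 2 G} {P B ZJ : Subgroup G} {k : ℕ}
  {L W Z C A : Fin k → Subgroup G} {q : ℕ} (h : MulL S P B ZJ L W Z C A q)

/-- the top level `O₂(P)` of the case (L) -/
def topL {G : Type u} [Group G] [Finite G] {S : Sylow 2 G} {P : Subgroup G} (h : NO3S.Level.CaseL S P) : LV S :=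
  ⟨o2 P, h.levQ⟩

theorem ZT_top : ZT (topL h.cl) = ZJ := h.eZ.symm

theorem BT_top : BT (topL h.cl) = B := h.eqB.symm

/-- the frame `Ln` of the case (L) -/
theorem ln_top (hk : 2 ≤ k) : Ln P (topL h.cl) L W Z C A q where
  hyp := h.cl.hypN
  le := le_rfl
  fr := by
    rw [BT_top h, ZT_top h]
    show OM.Lev.Uni.FrL B (o2 P) (zl (S : Subgroup G) P) (zc (o2 P)) ZJ L W Z C A q
    rw [h.cl.zc_eq]
    exact h.fr
  two := fun i => by
    have : Nontrivial (Fin k) := Fin.nontrivial_iff_two_le.2 hk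
    exact exists_ne i

theorem bg_top : Bg S P (BT (topL h.cl)) (ZT (topL h.cl)) L W Z C q := by
  rw [BT_top h, ZT_top h]
  exact h.bg

end mul

/-- **The finite stages.** -/
theorem finP_of {K : Cls.{u}} (hL : LinOf K) (h2 : LowEnd.{u} 2) (h3 : ∀ k, 3 ≤ k → LowEnd.{u} k) : FinP K := by
  intro G _ _ hK S P B ZJ k L W Z C A hk hM hN j Y hw hx
  by_contra hj
  have hlin := hL G hK S P B ZJ k L W Z C A hk hM hN j Y hw hx hj
  have hend : LowEnd.{u} k := by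
    rcases Nat.lt_or_ge k 3 with h4 | h4
    · obtain rfl : k = 2 := by omega
      exact h2
    · exact h3 k h4
  have hB := BT_top hM
  refine hw.mv ?_
  have h5 := hend G S P (topL hM.cl) L W Z C A (ln_top hM hk) (bg_top hM) (fun _ hR => hM.cl.o2_le hR) Y
    (hB.symm ▸ hw.par) (hB.symm ▸ hw.syl) hw.c2 0 ((lev_le_lim _ 0).trans hM.cl.lim_le)
    (fun i hi => absurd hi (Nat.not_lt_zero i)) hj (hB.symm ▸ hlin)
  rwa [hB, zc_B hM] at h5

end Cfsg.Agent.Omega.NO3S.WY.FinOf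

end

-- merged: Cfsg.Agent.Mrg.Omega.OM.LowT.PlugE
section

/-!
# The torus configuration over a general top level, `q = 2`, `k ≥ 3`

Port of `OM/Lev/Low/PlugE.lean` from `SwapL.Ln` (top level `lev S n`) to `SWT.Ln` (top level `n : LV S`), and its form
over the case (L) of GammaFF.

* `loc_of` : the local fields `Loc`;
* **`false_of_blk`** : no `Bk0` over `SWT.Ln` + `Bg`, from the torus theorem `TorusOf`;
* `topL`, `ZT_top`, `BT_top`, `ln_top`, `bg_top` : `SWT.Ln`, `Bg` at the top level `O₂(P)` from `MulL`;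
* **`false_of_blkL`** : the same over the case (L).
-/

set_option autoImplicit false
set_option linter.unusedSectionVars false

namespace Cfsg.Agent.Omega.OM.LowT.PlugE

open Subgroup Cfsg Cfsg.Agent.ZN.ChoiceBase Cfsg.Agent.ZN.ChoiceSit
open Cfsg.Agent.ZN (jj zj bau zc zl o2)
open Cfsg.Agent.MinSimple.MinParabolic (IsMinPar)
open Cfsg.Agent.Omega.OM.SWT (LV Ln ZT BT)
open Cfsg.Agent.Omega.NO3S.Level (lev lev_mono lev_isLev)
open Cfsg.Agent.Omega.NO3S.EThree.Frame (Bg)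
open Cfsg.Agent.Omega.MinPar (IsParS IsLoc)
open Cfsg.Agent.Omega.OM.Lev.Low.Line (Full full_unique)
open Cfsg.Agent.Omega.OM.Lev.Low.TorusK (TK BK NA Loc stM stY)
open Cfsg.Agent.Omega.OM.Lev.Low.PlugE (TorusOf)
open Cfsg.Agent.Omega.OM.LowT.TorusK (tk_of bk_of Bk0)
open Cfsg.Agent.Omega.Node.MulX (MulL)

universe u

section loc

variable {G : Type u} [Group G] [Finite G] {ι : Type} [Finite ι] {S : Sylow 2 G} {P : Subgroup G} {n : LV S}
  {L W Z C A : ι → Subgroup G}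

/-- **The local fields.** -/
theorem loc_of (hL : Ln P n L W Z C A 2) (hB : Bg S P (BT n) (ZT n) L W Z C 2) (h3 : ∀ l m : ι, ∃ r, r ≠ l ∧ r ≠ m)
    (hall : ∀ R, IsParS (S : Subgroup G) R → n.K ≤ o2 R) {j : ℕ} (hj : lev (S : Subgroup G) j ≤ n.K) {z : G}
    (hz : z ∈ ZT n) (hzC : ∀ i, z ∉ C i) :
    Loc (S : Subgroup G) (BT n) (ZT n) (LevB.BL (S : Subgroup G) j) (zc (lev (S : Subgroup G) j)) Z z where
  syl := TorusK.LocIn.syl hL hB
  loc1 := TorusK.LocIn.loc1 hB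
  loc2 := by
    intro l m hlm
    obtain ⟨E, h1, h2, h4, h5⟩ := TorusK.LocIn.loc2 hB h3 l m hlm
    exact ⟨E, h1, fun e he hc => ⟨h2 he, mem_centralizer_iff.2 fun x hx => (hc x hx).symm⟩, h4, h5⟩
  fact := by
    obtain ⟨z', hz', hf, hz1, hzS, hu⟩ := TorusK.LocIn.exists_z hL hB
    obtain rfl : z = z' := full_unique hL.fr hz hz' hzC hf
    rintro H hH ⟨U, hU1, hU2, hU3⟩
    exact TorusK.LocIn.fact' S (Lev.Low.TorusK.LocIn.isLoc_of S hH hU1 hU2 hU3) hj hall hzS hz1 hu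

end loc

/-- `NA` from `Bk0` -/
theorem na_of {G : Type u} [Group G] [Finite G] {ι : Type} {S : Sylow 2 G} {P : Subgroup G} {n : LV S}
    {L W Z C A : ι → Subgroup G} {R : Subgroup G} {j : ℕ} {K N₁ c : Subgroup G} {τ : G} {l : ι}
    (h : Bk0 P n L W Z C A R j K N₁ c τ l) : NA (BT n) K (zl (BT n) R) := ⟨h.nK, h.act⟩

/-- **The torus configuration is impossible**, `k ≥ 3`. -/
theorem false_of_blk (hT : TorusOf.{u}) {G : Type u} [Group G] [Finite G] {k : ℕ} (hk : 3 ≤ k) {S : Sylow 2 G}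
    {P : Subgroup G} {n : LV S} {L W Z C A : Fin k → Subgroup G}
    (hall : ∀ R, IsParS (S : Subgroup G) R → n.K ≤ o2 R) {R : Subgroup G} {j : ℕ} {K N₁ c : Subgroup G} {τ : G}
    {l : Fin k} (hb : Bk0 P n L W Z C A R j K N₁ c τ l) : False := by
  obtain ⟨z, hz, hzf⟩ := Lev.Low.Line.exists_full hb.ln.fr
  exact hT G k _ _ _ _ _ _ _ _ _ _ _ _ _ _ _ _ _ _ _ _ _ hk
    (tk_of hb.ln hb.bg hb.jn hz hzf
      (loc_of hb.ln hb.bg (fun l m => Lev.Low.TorusK.LocIn.third hk l m) hall hb.jn hz hzf)) (bk_of hb) (na_of hb)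

section mul

variable {G : Type u} [Group G] [Finite G] {S : Sylow 2 G} {P B ZJ : Subgroup G} {k : ℕ}
  {L W Z C A : Fin k → Subgroup G} {q : ℕ} (h : MulL S P B ZJ L W Z C A q)

end mul

end Cfsg.Agent.Omega.OM.LowT.PlugE

end

-- merged: Cfsg.Agent.Mrg.Omega.NO3S.WY.FinK
section

/-!
# NoW, `q = 2`, finite stages, `k ≥ 3`

`lowEnd_ge` : `LowEnd k` for `k ≥ 3` from the torus theorem `TorusOf`; `finP_two : LinOf K → LowEnd 2 → FinP K`.
-/

set_option autoImplicit false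
set_option linter.unusedSectionVars false
set_option linter.dupNamespace false

namespace Cfsg.Agent.Omega.NO3S.WY.FinOf

open Subgroup Cfsg Cfsg.Agent.ZN Cfsg.Agent.ZN.ChoiceBase Cfsg.Agent.Omega.MinPar Cfsg.Agent.Omega.Frame
open Cfsg.Agent.Omega.Frame (Cls)
open Cfsg.Agent.Omega.OM.Lev.Low.PlugE (TorusOf)
open Cfsg.Agent.Omega.NO3S.WY.Sel (FinP)

universe u

/-- **`k ≥ 3`.** -/
theorem lowEnd_ge (hT : TorusOf.{u}) (k : ℕ) (hk : 3 ≤ k) : LowEnd.{u} k := by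
  intro G _ _ S P n L W Z C A hln hbg hall R hP hR hc j hj hlow hnj hlin
  by_contra hZ
  obtain ⟨K, N₁, c, τ, l, hb⟩ := OM.LowT.Core.exists_blk_at hln hbg hP hR hc hj hlow hnj hZ hlin
  exact OM.LowT.PlugE.false_of_blk hT hk hall hb.bk0

/-- the finite stages from (LIN), the torus theorem and the end for `k = 2` -/
theorem finP_two {K : Cls.{u}} (hL : LinOf K) (hT : TorusOf.{u}) (h2 : LowEnd.{u} 2) : FinP K :=
  finP_of hL h2 (lowEnd_ge hT)

end Cfsg.Agent.Omega.NO3S.WY.FinOf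

end

-- merged: Cfsg.Agent.Mrg.Omega.NO3S.WY.FinDone
section

section


/-!
# NoW, `q = 2`: the finite stages, complete

* `linOf` : **(LIN) at the stage `0`** (366's `linH_of`, 388's `norm_or_lev`);
* `lowEnd_two` : `LowEnd 2` (808's `TwoMain`, `PushRes`);
* **`finP : FinP K`**, for every class `K`, no hypotheses.
-/

set_option autoImplicit false
set_option linter.unusedSectionVars false
set_option linter.dupNamespace false

namespace Cfsg.Agent.Omega.NO3S.WY.FinOf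

open Subgroup Cfsg Cfsg.Agent.ZN Cfsg.Agent.ZN.ChoiceBase Cfsg.Agent.Omega.MinPar Cfsg.Agent.Omega.Frame
open Cfsg.Agent.ZN.ChoiceSit (Syl)
open Cfsg.Agent.MinSimple.MinParabolic (IsMinPar)
open Cfsg.Agent.Omega.NO3S.Level
open Cfsg.Agent.Omega.Frame (Cls)
open Cfsg.Agent.Omega.OM
open Cfsg.Agent.Omega.OM.SWT (LV Ln ZT BT)
open Cfsg.Agent.Omega.OM.LowT (LinH)
open Cfsg.Agent.Omega.NO3S.EThree.Frame (Bg)
open Cfsg.Agent.Omega.Node.MulX (MulL KX)
open Cfsg.Agent.Omega.NO3S.WY.Sel (Wd Mx FinP zc_B)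

universe u

/-- **(LIN) at the stage `0`.** -/
theorem linOf {K : Cls.{u}} : LinOf K := by
  intro G _ _ _ S P B ZJ k L W Z C A hk hM hN j Y hw hx hj
  have hB := BT_top hM
  have hZ := ZT_top hM
  have hle : lev (S : Subgroup G) 0 ≤ o2 P := (lev_le_lim _ 0).trans hM.cl.lim_le
  have h1 := LowT.LinGen.linH_of (n := topL hM.cl) (Y := Y) (j := 0) (ln_top hM hk) rfl hM.cl.norm_o2_le
    (hB.symm ▸ hw.syl) (hB.symm ▸ hw.par) hw.c2 (by rw [hB, zc_B hM]; exact hw.mv) hle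
    (fun i hi => absurd hi (Nat.not_lt_zero i)) hj (by
      rw [hB, hZ]
      intro R' h1 h2 h3
      exact LowT.norm_or_lev hM hw hx hle hj h1 h2 h3)
  rwa [hB] at h1

/-- **`k = 2`.** -/
theorem lowEnd_two : LowEnd.{u} 2 := by
  intro G _ _ S P n L W Z C A hln hbg hall R hP hR hc j hj hlow hnj hlin
  by_contra hZ
  obtain ⟨K, N₁, c, τ, ht⟩ := LowT.TwoMain.exists_tor_j hln hR hP hc hZ hj hlow hnj hlin
  obtain ⟨z, z1, z2, hr, hD⟩ := ht.exists_res hbg hZ (ht.le_V hlin)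
  exact ht.not_loc hbg hall hZ (ht.le_V hlin) (hr.isLoc hD)

/-- **The finite stages.** -/
theorem finP {K : Cls.{u}} : FinP K := finP_two linOf OM.Lev.Low.TorusK.Done.torusOf lowEnd_two

end Cfsg.Agent.Omega.NO3S.WY.FinOf

end

section


/-!
# The infinite stage of `NoW`: the glue

* `TorOf K` : `MulL .. 2`, `WJ`, `Mx` give `TorP` ((ii) of #25080);
* `TorEnd K` : `TorP` is impossible (THEOREM TOR, #25011);
* **`infP_of : TorOf K → TorEnd K → Sel.InfP K`**.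
-/

set_option autoImplicit false
set_option linter.dupNamespace false

namespace Cfsg.Agent.Omega.NO3S.WY.InfOf

open Subgroup Cfsg Cfsg.Agent.ZN Cfsg.Agent.ZN.ChoiceBase
open Cfsg.Agent.Omega.Frame (Cls)
open Cfsg.Agent.Omega.Node.MultiOf
open Cfsg.Agent.Omega.Node.MulX (MulL KX)
open Cfsg.Agent.Omega.NO3S.WY.Sel (Mx InfP)

universe u

/-- **(TOR') from the maximal weird `Y` of the infinite stage** -/
def TorOf (K : Cls.{u}) : Prop :=
  ∀ (G : Type u) [Group G] [Finite G], K G → ∀ (S : Sylow 2 G) (P B ZJ : Subgroup G) (k : ℕ)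
    (L W Z C A : Fin k → Subgroup G), 2 ≤ k → MulL S P B ZJ L W Z C A 2 →
      NLoc (KX B ZJ (zl (S : Subgroup G) P)) → ∀ (j : Fin k) (Y : Subgroup G), WJ S P B Z j Y →
        Mx S P B ZJ Z Y → TorP S P B ZJ L W Z C A j Y

/-- **THEOREM TOR** -/
def TorEnd (K : Cls.{u}) : Prop :=
  ∀ (G : Type u) [Group G] [Finite G], K G → ∀ (S : Sylow 2 G) (P B ZJ : Subgroup G) (k : ℕ)
    (L W Z C A : Fin k → Subgroup G), 2 ≤ k → ∀ (j : Fin k) (Y : Subgroup G), TorP S P B ZJ L W Z C A j Y → False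

/-- **The infinite stage.** -/
theorem infP_of {K : Cls.{u}} (h1 : TorOf K) (h2 : TorEnd K) : InfP K := by
  intro G _ _ hK S P B ZJ k L W Z C A hk hM hN j Y hw hx
  exact h2 G hK S P B ZJ k L W Z C A hk j Y (h1 G hK S P B ZJ k L W Z C A hk hM hN j Y hw hx)

end Cfsg.Agent.Omega.NO3S.WY.InfOf

end

end
end

-- part: Mrg/Omega/CaseLQ/InstTwo
section
prune_inst 0x80002004002200000000000000001c4282000002004b00008040000004c08c4200000e208020011200200a040030004002000000000000000000000001180481000210028008a000200000000000000000000000000000000000000000000000000000000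
set_option linter.all false
open scoped Cfsg.Agent.FastGrp

-- merged: Cfsg.Agent.Mrg.Omega.CaseLQ.TwoFr
section

section


/-!
# NoW, `q = 2`: the frame `PsiT.FrG` (helper602) from `Bg` and `YB`; the best offenders centralise `V_j`

* `frG_of_yb` : the frame of (ii), version 2 (#25080), over `X = C_U(⟨Fam⟩)`;
* `exists_ybxL` : helper373's `YBX.Nat.exists_ybx`, the lines `c i` lie in `{v ∈ V_Y | e v l 1 = 0}`;
* `hloc_of` : natural blocks: **every best offender `A ≤ B` on `U` centralises `W j`** (the hypothesis `hloc` of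
  `exists_KSh`, `exists_famT`).
-/

set_option autoImplicit false
set_option linter.unusedSectionVars false

namespace Cfsg.Agent.Omega.CaseLQ.TwoFr

open Subgroup Cfsg Cfsg.Agent.ZN Cfsg.Agent.ZN.ChoiceBase
open Cfsg.Agent.ZN.ChoiceSit (Syl)
open Cfsg.Agent.Omega.OM
open Cfsg.Agent.Omega.OM.GLev (GE)
open Cfsg.Agent.Omega.OM.Lev.Low (YB Mv Li mem_Li Co)
open Cfsg.Agent.Omega.NO3S.EThree.Frame (Bg Fg)
open Cfsg.Agent.Omega.NO3S.OneLine (BFam NatC natC_of)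
open Cfsg.Agent.Omega.NO3S.RedC (MaxMin)
open Cfsg.Agent.Omega.NO3S.CaseLW.YBX (Xc mem_Xc Xc_le Concl)
open Cfsg.Agent.Omega.FFThm (OffM ElemM NoOverM StmtM NatKM)
open Cfsg.Agent.Omega.FrameFF (cv)
open Cfsg.Agent.Omega.NO1.BestOff (Best)
open Cfsg.Agent.Omega.CaseLQ Cfsg.Agent.Omega.CaseLQ.Psi Cfsg.Agent.Omega.CaseLQ.PsiYB

universe u w

variable {G : Type u} [Group G] [Finite G]

section bg

variable {S : Sylow 2 G} {P B ZJ : Subgroup G} {ι : Type} {L W Z C : ι → Subgroup G}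
  (h : Bg S P B ZJ L W Z C 2)
include h

/-- `q = 2` : `Z j = {1, z}` -/
theorem eq_z {j : ι} {z : G} (hz : z ∈ Z j) (z1 : z ≠ 1) {x : G} (hx : x ∈ Z j) : x = 1 ∨ x = z := by
  by_contra hcon
  push Not at hcon
  have h2 : Nat.card (Z j) = 2 := h.fr.cardZ j
  have h3 : ({1, z, x} : Set G) ⊆ (Z j : Set G) := by
    rintro y (rfl | rfl | rfl)
    · exact one_mem _
    · exact hz
    · exact hx
  have h4 : ({1, z, x} : Set G).ncard = 3 := by
    rw [Set.ncard_eq_three]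
    exact ⟨1, z, x, z1.symm, fun e => hcon.1 e.symm, fun e => hcon.2 e.symm, rfl⟩
  have h5 := Set.ncard_le_ncard h3 (Set.toFinite _)
  rw [h4] at h5
  have h6 : (Z j : Set G).ncard = Nat.card (Z j) := rfl
  omega

/-- **The frame of (ii), version 2, from `Bg` and `YB`.** -/
theorem frG_of_yb {κ : Type w} {j : ι} {X Lam : Subgroup G} {Ni c : κ → Subgroup G} (yb : YB B X Ni c) (WX : W j ≤ X)
    (CQ : X ⊓ centralizer (o2 P : Set G) ≤ zl (S : Subgroup G) P) {z : G} (hz : z ∈ Z j) (z1 : z ≠ 1)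
    (nz : ∃ i, z ∉ Ni i) (LN : ∀ i, ∀ x ∈ Lam, x ∈ X → x ∈ Ni i) :
    PsiT.FrG X B (o2 P) (W j) z Lam Ni c where
  comm := yb.ab
  BU := yb.norm
  QB := h.fr.QB
  perm := fun t ht i => yb.perm t ht i
  cU := yb.cX
  ne := yb.ne
  inf := yb.triv
  cm := fun i m hm => yb.comm m i hm
  VU := WX
  BV := by
    intro t ht
    rw [mem_normalizer_iff_cj]
    refine Subgroup.eq_of_le_of_card_ge ?_ (card_cj _ _).ge
    rintro _ ⟨w, hw, rfl⟩
    exact (h.fr.blk j).BV ht hw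
  VQ := fun w hw => mem_centralizer_iff.2 fun x hx => h.fr.cQ hx (h.fr.WV j hw)
  cov := fun i w hw => yb.fix i w (WX hw)
  zV := (h.fr.blk j).ZV hz
  mv := fun v hv hv1 => by
    by_cases hvZ : v ∈ Z j
    · exact Or.inl ((eq_z h hz z1 hvZ).resolve_left hv1)
    · obtain ⟨b, hb, -, hbe⟩ := h.root j v hv hvZ z hz
      exact Or.inr ⟨b, hb, hbe⟩
  tr := by
    obtain ⟨v, hv, hvZ⟩ := exists_v h j
    obtain ⟨b, hb, hbC, hbe⟩ := h.root j v hv hvZ z hz
    refine ⟨v, hv, b, hb, hbe, fun u hu huQ => ?_⟩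
    obtain ⟨w, hw, c, hc, rfl⟩ := h.fr.WC j u (CQ ⟨hu, huQ⟩)
    have h1 : c * b = b * c := mem_centralizer_iff.1 hbC c hc
    have e : b * (w * c) * b⁻¹ * (w * c)⁻¹ = b * w * b⁻¹ * w⁻¹ := by
      have e1 : b * (w * c) * b⁻¹ * (w * c)⁻¹ = b * w * (c * b⁻¹ * c⁻¹) * w⁻¹ := by group
      have e2 : c * b⁻¹ * c⁻¹ = b⁻¹ := by
        have e3 : c * b⁻¹ * c⁻¹ = (c * b * c⁻¹)⁻¹ := by group
        rw [e3, h1, mul_inv_cancel_right]
      rw [e1, e2]
    rw [e]
    exact eq_z h hz z1 ((h.fr.blk j).com b hb w hw)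
  nz := nz
  LamN := LN

end bg

/-! ### the lines -/

section nat

variable {F : Type} [Field F] [Finite F] [CharP F 2] {T H X : Subgroup G} {AA : Set (Subgroup G)} {k : ℕ}

open Cfsg.Agent.Omega.NO3S.CaseLW.YBX Cfsg.Agent.Omega.NO3S.CaseLW.YBX.Nat Cfsg.Agent.Omega.OM.Lev.Low
  Cfsg.Agent.Omega.OM.GNat Cfsg.Agent.Omega.OM.GLev Cfsg.Agent.Omega.OM.Lev.Nat in
/-- **`YBX.Nat.exists_ybx` with the position of the lines.** -/
theorem exists_ybxL (h : GE T H X AA) (N : NatKM F T H (zl T H) (cv T H) k) (hk : 0 < k)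
    (hex : ∃ A ∈ AA, ¬ A ≤ o2 H) (hZ : ¬ H ≤ centralizer (zc T : Set G)) :
    ∃ Ni c : Fin k → Subgroup G, YB T (Xc X AA) Ni c ∧ (∃ l, ¬ zc T ≤ Ni l) ∧
      (∀ x ∈ X, (∀ A ∈ AA, ∀ y ∈ H, ∀ a ∈ A, y * a * y⁻¹ * x = x * (y * a * y⁻¹)) → ∀ l, x ∈ Ni l) ∧
      ∀ i, ∀ v ∈ c i, v ∈ zl T H ∧ ∀ l, N.e v l 1 = 0 := by
  classical
  set M := natC_of h.hm hk N.toNatK with hM
  obtain ⟨A, hA, hAQ⟩ := hex
  obtain ⟨j, hroot⟩ := exists_root h N hk hA hAQ
  obtain ⟨L, hL, hsup, hgen⟩ := ld_of_root h N hk hA hroot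
  have main : ∀ c : Fin k → Subgroup G, Co M c → YB T (Xc X AA) (Ni M (Xc X AA) L j) c := fun c hc =>
    hL.yb_aux hc fun i s hs t ht hsm htm => cyc_line h.hm N hk hs hsm ht htm
  have h2 : ∃ i, ¬ zc T ≤ Ni M (Xc X AA) L j i := by
    refine ⟨j, fun hcon => hZ (hsup.trans (sup_le ?_ ?_))⟩
    · exact NO3S.Level.le_centralizer_zc T
    · intro l hl
      rw [mem_centralizer_iff]
      intro z hz
      have h1 := (mem_Ni.1 (hcon hz)).2 1 (one_mem _) (MvI.one j) l hl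
      simp only [inv_one, one_mul, mul_one] at h1
      exact h1.symm
  have h3 : ∀ x ∈ Xc X AA, (∀ y ∈ H, cj y (sSup AA) ≤ centralizer ({x} : Set G)) → ∀ i, x ∈ Ni M (Xc X AA) L j i := by
    intro x hx hxc i
    refine mem_Ni.2 ⟨hx, fun t ht _ l hl => ?_⟩
    have h1 := hgen (centralizer ({t⁻¹ * x * t} : Set G)) fun y hy => ?_
    · exact mem_centralizer_singleton_iff.1 (h1 hl)
    · rintro _ ⟨b, hb, rfl⟩
      rw [mem_centralizer_singleton_iff]
      have h2 := mem_centralizer_singleton_iff.1 (hxc (t * y) (mul_mem (h.TH ht) hy) ⟨b, hb, rfl⟩)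
      have h2' : t * y * b * (t * y)⁻¹ * x = x * (t * y * b * (t * y)⁻¹) := h2
      have h4 := congrArg (fun z => t⁻¹ * z * t) h2'
      show y * b * y⁻¹ * (t⁻¹ * x * t) = t⁻¹ * x * t * (y * b * y⁻¹)
      simpa only [mul_assoc, _root_.mul_inv_rev, _root_.inv_mul_cancel_left, _root_.inv_mul_cancel, _root_.mul_one] using h4
  have hline : ∀ c : Fin k → Subgroup G, Co M c → ∀ i, ∀ v ∈ c i, v ∈ zl T H ∧ ∀ l, N.e v l 1 = 0 := by
    intro c hc i v hv
    obtain ⟨hvV, h0, h1⟩ := mem_Li.1 (hc.le i hv)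
    refine ⟨hvV, fun l => ?_⟩
    by_cases hl : l = i
    · subst hl; exact h1
    · have h4 : N.e v l = 0 := h0 l hl
      rw [h4]; rfl
  by_cases hF : ∀ x : F, x = 0 ∨ x = 1
  · have hc := hL.co_two hF
    exact ⟨_, _, main _ hc, h2, fun x hx hxc => h3 x (Xc_of hx hxc) (le_of hxc), hline _ hc⟩
  · push Not at hF
    obtain ⟨x, hx0, hx1⟩ := hF
    have hc := hL.co_tor hx0 hx1
    exact ⟨_, _, main _ hc, h2, fun x hx hxc => h3 x (Xc_of hx hxc) (le_of hxc), hline _ hc⟩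

end nat

/-! ### `hloc` -/

section hloc

variable {S : Sylow 2 G} {P B ZJ : Subgroup G} {ι : Type} {L W Z C : ι → Subgroup G}
  (h : Bg S P B ZJ L W Z C 2)
include h

/-- **natural blocks: every best offender `A ≤ B` on `U` centralises `W j`.** -/
theorem hloc_of {j : ι} {U H Y Λ : Subgroup G} (s : YS U H B Y) (noV : NoOverM (zl B Y) Y) {F : Type} [Field F]
    [Finite F] [CharP F 2] {k : ℕ} (N : NatKM F B Y (zl B Y) (cv B Y) k) (hk : 0 < k) (WU : W j ≤ U)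
    (CQ : U ⊓ centralizer (o2 P : Set G) ≤ zl (S : Subgroup G) P)
    (cen : ∀ E ≤ B, MaxMin U H E → E ≤ centralizer (W j : Set G))
    (hex : ∃ E, E ≤ B ∧ MaxMin U H E ∧ ¬ E ≤ o2 Y) (YΛ : Y ≤ centralizer (Λ : Set G)) (ΛU : Λ ≤ U)
    (zT : zc B ≤ Λ ⊔ Z j) : ∀ A : Subgroup G, A ≤ B → Best U A → A ≤ centralizer (W j : Set G) := by
  obtain ⟨E, hEB, hE, hEY⟩ := hex
  have hfam := bfam (U := U) (H := H) (T := B) (s.TY.trans s.YH)
  have hEF : E ∈ Fam U H B := ⟨hEB, Or.inl hE⟩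
  have ge : GE B Y U (Fam U H B) :=
    { hm := s.hm
      fam := hfam
      elem := Cfsg.Agent.PLocal.ThompsonJ.isElementaryAbelian_iff.2 ⟨s.U_mul, s.Us⟩
      norm := s.YH.trans s.HU
      VX := s.VU
      QC := s.cap
      noOver := noV }
  obtain ⟨Ni, c, yb, hex', hcen, hline⟩ := exists_ybxL ge N hk ⟨E, hEF, hEY⟩ s.mv
  have WX : W j ≤ Xc U (Fam U H B) := by
    intro w hw
    refine mem_Xc.2 ⟨WU hw, fun A hA a ha => ?_⟩
    rcases hA.2 with h1 | h1
    · exact ((mem_centralizer_iff.1 (cen A hA.1 h1 ha)) w hw).symm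
    · exact ((mem_centralizer_iff.1 (h1 ha)) w (WU hw)).symm
  have hΛ : ∀ l, Λ ≤ Ni l := fun l x hx => hcen x (ΛU hx) (fun A hA y hy a ha => by
    have h1 : y * a * y⁻¹ ∈ Y := mul_mem (mul_mem hy (s.TY (hA.1 ha))) (inv_mem hy)
    exact ((mem_centralizer_iff.1 (YΛ h1)) x hx).symm) l
  obtain ⟨z, hz, z1⟩ : ∃ z ∈ Z j, z ≠ 1 := by
    by_contra hcon
    push Not at hcon
    exact h.Z_ne j (eq_bot_iff.2 fun x hx => mem_bot.2 (hcon x hx))
  have nz : ∃ i, z ∉ Ni i := by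
    obtain ⟨l, hl⟩ := hex'
    refine ⟨l, fun hzl => hl (zT.trans (sup_le (hΛ l) fun x hx => ?_))⟩
    rcases eq_z h hz z1 hx with rfl | rfl
    · exact one_mem _
    · exact hzl
  have fr := frG_of_yb h yb WX ((inf_le_inf_right _ (Xc_le _ _)).trans CQ) hz z1 nz
    (Lam := Λ) fun l x hx _ => hΛ l hx
  intro A hA hB a ha
  rw [mem_centralizer_iff]
  intro v hv
  exact (fr.fix (hA ha) (fun i x hx => cent_natL s.hm N hk s.Uc s.VU hA hB (hline i x hx).1 (hline i x hx).2 ha)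
    v hv).symm

end hloc

end Cfsg.Agent.Omega.CaseLQ.TwoFr

end

section


/-!
# NoW, `q = 2`: `PsiT.FrG` and `hloc`, abstract in the pair `(V_j, z_j)`

* `PJ B Q Vj U z` : the facts on `V_j` (the fields `QB .. tr` of helper602's `PsiT.FrG`); `pj_of_bg`;
* `frG_of_pj` : the frame over any `YB B X Ni c`, `V_j ≤ X ≤ U`;
* `exists_yb` : helper335's / helper373's blocks of `Y` on `C_U(⟨Fam⟩)`, natural type, with the position of the lines;
* `hloc_abs` : natural blocks: **every best offender `A ≤ B` on `U` centralises `V_j`**.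
-/

set_option autoImplicit false
set_option linter.unusedSectionVars false

namespace Cfsg.Agent.Omega.CaseLQ.TwoAbs

open Subgroup Cfsg Cfsg.Agent.ZN Cfsg.Agent.ZN.ChoiceBase
open Cfsg.Agent.ZN.ChoiceSit (Syl)
open Cfsg.Agent.Omega.OM
open Cfsg.Agent.Omega.OM.GLev (GE)
open Cfsg.Agent.Omega.OM.Lev.Low (YB Mv)
open Cfsg.Agent.Omega.NO3S.EThree.Frame (Bg Fg)
open Cfsg.Agent.Omega.NO3S.RedC (MaxMin)
open Cfsg.Agent.Omega.NO3S.CaseLW.YBX (Xc mem_Xc Xc_le)
open Cfsg.Agent.Omega.FFThm (OffM ElemM NoOverM StmtM NatKM)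
open Cfsg.Agent.Omega.FrameFF (cv)
open Cfsg.Agent.Omega.NO1.BestOff (Best)
open Cfsg.Agent.Omega.CaseLQ Cfsg.Agent.Omega.CaseLQ.Psi Cfsg.Agent.Omega.CaseLQ.PsiYB
open Cfsg.Agent.Omega.CaseLQ.TwoFr

universe u w

variable {G : Type u} [Group G]

/-- **The facts on `V_j`**, `q = 2`. -/
structure PJ (B Q Vj U : Subgroup G) (z : G) : Prop where
  QB : Q ≤ B
  VU : Vj ≤ U
  BV : B ≤ normalizer (Vj : Set G)
  VQ : Vj ≤ centralizer (Q : Set G)
  zV : z ∈ Vj
  z1 : z ≠ 1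
  mv : ∀ v ∈ Vj, v ≠ 1 → v = z ∨ ∃ b ∈ B, b * v * b⁻¹ * v⁻¹ = z
  tr : ∃ v ∈ Vj, ∃ b ∈ B, b * v * b⁻¹ * v⁻¹ = z ∧
    ∀ u ∈ U, u ∈ centralizer (Q : Set G) → b * u * b⁻¹ * u⁻¹ = 1 ∨ b * u * b⁻¹ * u⁻¹ = z

variable {B Q Vj U : Subgroup G} {z : G}

/-- **The frame of (ii), version 2.** -/
theorem frG_of_pj {κ : Type w} (p : PJ B Q Vj U z) {X Lam : Subgroup G} {Ni c : κ → Subgroup G} (yb : YB B X Ni c)
    (XU : X ≤ U) (VX : Vj ≤ X) (nz : ∃ i, z ∉ Ni i) (LN : ∀ i, ∀ x ∈ Lam, x ∈ X → x ∈ Ni i) :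
    PsiT.FrG X B Q Vj z Lam Ni c where
  comm := yb.ab
  BU := yb.norm
  QB := p.QB
  perm := fun t ht i => yb.perm t ht i
  cU := yb.cX
  ne := yb.ne
  inf := yb.triv
  cm := fun i m hm => yb.comm m i hm
  VU := VX
  BV := p.BV
  VQ := p.VQ
  cov := fun i w hw => yb.fix i w (VX hw)
  zV := p.zV
  mv := p.mv
  tr := by
    obtain ⟨v, hv, b, hb, h1, h2⟩ := p.tr
    exact ⟨v, hv, b, hb, h1, fun u hu huQ => h2 u (XU hu) huQ⟩
  nz := nz
  LamN := LN

variable [Finite G] {H Y Λ : Subgroup G}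

theorem VX_of (VU : Vj ≤ U)
    (cen : ∀ E ≤ B, MaxMin U H E → E ≤ centralizer (Vj : Set G)) : Vj ≤ Xc U (Fam U H B) := by
  intro w hw
  refine mem_Xc.2 ⟨VU hw, fun A hA a ha => ?_⟩
  rcases hA.2 with h1 | h1
  · exact ((mem_centralizer_iff.1 (cen A hA.1 h1 ha)) w hw).symm
  · exact ((mem_centralizer_iff.1 (h1 ha)) w (VU hw)).symm

/-- **`PJ` from `Bg`.** -/
theorem pj_of_bg {S : Sylow 2 G} {P B ZJ : Subgroup G} {ι : Type} {L W Z C : ι → Subgroup G}
    (h : Bg S P B ZJ L W Z C 2) {j : ι} {U : Subgroup G} (WU : W j ≤ U)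
    (CQ : U ⊓ centralizer (o2 P : Set G) ≤ zl (S : Subgroup G) P) {z : G} (hz : z ∈ Z j) (z1 : z ≠ 1) :
    PJ B (o2 P) (W j) U z where
  QB := h.fr.QB
  VU := WU
  BV := by
    intro t ht
    rw [mem_normalizer_iff_cj]
    refine Subgroup.eq_of_le_of_card_ge ?_ (card_cj _ _).ge
    rintro _ ⟨w, hw, rfl⟩
    exact (h.fr.blk j).BV ht hw
  VQ := fun w hw => mem_centralizer_iff.2 fun x hx => h.fr.cQ hx (h.fr.WV j hw)
  zV := (h.fr.blk j).ZV hz
  z1 := z1
  mv := fun v hv hv1 => by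
    by_cases hvZ : v ∈ Z j
    · exact Or.inl ((eq_z h hz z1 hvZ).resolve_left hv1)
    · obtain ⟨b, hb, -, hbe⟩ := h.root j v hv hvZ z hz
      exact Or.inr ⟨b, hb, hbe⟩
  tr := by
    obtain ⟨v, hv, hvZ⟩ := exists_v h j
    obtain ⟨b, hb, hbC, hbe⟩ := h.root j v hv hvZ z hz
    refine ⟨v, hv, b, hb, hbe, fun u hu huQ => ?_⟩
    obtain ⟨w, hw, c, hc, rfl⟩ := h.fr.WC j u (CQ ⟨hu, huQ⟩)
    have h1 : c * b = b * c := mem_centralizer_iff.1 hbC c hc
    have e : b * (w * c) * b⁻¹ * (w * c)⁻¹ = b * w * b⁻¹ * w⁻¹ := by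
      have e1 : b * (w * c) * b⁻¹ * (w * c)⁻¹ = b * w * (c * b⁻¹ * c⁻¹) * w⁻¹ := by group
      have e2 : c * b⁻¹ * c⁻¹ = b⁻¹ := by
        have e3 : c * b⁻¹ * c⁻¹ = (c * b * c⁻¹)⁻¹ := by group
        rw [e3, h1, mul_inv_cancel_right]
      rw [e1, e2]
    rw [e]
    exact eq_z h hz z1 ((h.fr.blk j).com b hb w hw)

end Cfsg.Agent.Omega.CaseLQ.TwoAbs

end

end

-- merged: Cfsg.Agent.Mrg.Omega.CaseLQ.FamOf
section

section


/-!
# The passive family (#25080 (c))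

* `not_act` : all best offenders `A ≤ T` on `U` centralise `V_j`: no `W_F ≤ S` (`F` for `V = ⟨Z^GX⟩`) is outside `O₂(P)`;
* `exists_famT` : `FamT S P Y V 𝓕`;
* `exists_fam` : `KSh` and `FamT`.
-/

set_option autoImplicit false
set_option linter.unusedSectionVars false

namespace Cfsg.Agent.Omega.CaseLQ

open Subgroup Cfsg Cfsg.Agent.ZN Cfsg.Agent.ZN.ChoiceBase Cfsg.Agent.Omega.MinPar Cfsg.Agent.Omega.Frame
open Cfsg.Agent.Omega.NO3S.Level
open Cfsg.Agent.Omega.NO3S.RedC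
open Cfsg.Agent.Omega.NO3S.WY
open Cfsg.Agent.Omega.NO1.BestOff (Best)
open Cfsg.Agent.Omega.FFThm (OffM ElemM)
open scoped Pointwise

universe u

variable {G : Type u} [Group G] [Finite G] {S : Sylow 2 G} {P T Y R H U Vj : Subgroup G}

/-- all `W_F ≤ S` lie in `O₂(P)` -/
theorem W_le_of_hloc (m : LMd S P T Y R H U)
    (hloc : ∀ A : Subgroup G, A ≤ T → Best U A → A ≤ centralizer (Vj : Set G))
    (hN : ∀ A : Subgroup G, A ≤ (S : Subgroup G) → ¬ A ≤ o2 P →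
      ∃ s ∈ (S : Subgroup G), ¬ cj s A ≤ centralizer (Vj : Set G)) {F : Subgroup G}
    (hF : NOne.Flat.Hyp (ZN.zl (S : Subgroup G) (GX (S : Subgroup G) P Y)) F)
    (hWS : NOne.Flat.WW (ZN.zl (S : Subgroup G) (GX (S : Subgroup G) P Y)) F ≤ (S : Subgroup G)) :
    NOne.Flat.WW (ZN.zl (S : Subgroup G) (GX (S : Subgroup G) P Y)) F ≤ o2 P := by
  have h := m.wq
  have hV : Md S P Y (ZN.zl (S : Subgroup G) (GX (S : Subgroup G) P Y)) := h.md_zl
  by_contra hP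
  obtain ⟨s, hs, hne⟩ := hN _ hWS hP
  have hsV : s ∈ normalizer (ZN.zl (S : Subgroup G) (GX (S : Subgroup G) P Y) : Set G) := hV.norm (h.S_le hs)
  have hWs : NOne.Flat.WW (ZN.zl (S : Subgroup G) (GX (S : Subgroup G) P Y)) (MulAut.conj s • F) ≤
      (S : Subgroup G) := by
    rw [WW_cj hsV]
    have := cj_mono s hWS
    rwa [cj_eq_of_mem_normalizer (le_normalizer hs : s ∈ normalizer ((S : Subgroup G) : Set G))] at this
  have hFs := hyp_cj hF hsV
  rw [← WW_cj hsV] at hne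
  exact hne (hloc _ ((h.W_B hV hFs hWs).trans m.BT) (bestW hFs (m.U_E' hV hFs hWs)))

/-- **the passive family** -/
theorem exists_famT (m : LMd S P T Y R H U)
    (hloc : ∀ A : Subgroup G, A ≤ T → Best U A → A ≤ centralizer (Vj : Set G))
    (hN : ∀ A : Subgroup G, A ≤ (S : Subgroup G) → ¬ A ≤ o2 P →
      ∃ s ∈ (S : Subgroup G), ¬ cj s A ≤ centralizer (Vj : Set G)) :
    ∃ (V : Subgroup G) (𝓕 : Set (Subgroup G)), FamT S P Y V 𝓕 := by
  have h := m.wq
  rcases h.cut with hp | ⟨hn, ⟨F, hw⟩ | ⟨F, hw⟩⟩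
  · exact ⟨_, _, famT_of_pasM h h.md_zl hp⟩
  · exact absurd (W_le_of_hloc m hloc hN hw.hyp hw.WS) hw.mv
  · exact ⟨_, _, famT_of_pasW h h.md_zl hw⟩

/-- **`K♯ ≤ O₂(P)` and the passive family** -/
theorem exists_fam (m : LMd S P T Y R H U)
    (hloc : ∀ A : Subgroup G, A ≤ T → Best U A → A ≤ centralizer (Vj : Set G))
    (hN : ∀ A : Subgroup G, A ≤ (S : Subgroup G) → ¬ A ≤ o2 P →
      ∃ s ∈ (S : Subgroup G), ¬ cj s A ≤ centralizer (Vj : Set G)) :
    (∃ (K : Subgroup G) (𝒜 : Set (Subgroup G)), KSh S P Y U K 𝒜) ∧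
      ∃ (V : Subgroup G) (𝓕 : Set (Subgroup G)), FamT S P Y V 𝓕 :=
  ⟨exists_KSh m hloc hN, exists_famT m hloc hN⟩

end Cfsg.Agent.Omega.CaseLQ

end

section


/-!
# NoW, `q = 2`: the assembly of (ii), version 2 (#25080)

`MulL S P B ZJ L W Z C A 2`, `WJ S P B Z j Y`, `Λ = ⟨Z l : l ≠ j⟩`.

* `zT : Ω₁Z(B) ≤ Λ Z_j`, `YΛ : Y ≤ C(Λ)`, `ys_of : YS U H B Y` from `LMd`;
* `ksh_of` : natural blocks of `Y`: `KSh S P Y U K 𝒜` and `FamT S P Y V 𝓕`.
-/

set_option autoImplicit false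
set_option linter.unusedSectionVars false

namespace Cfsg.Agent.Omega.CaseLQ.TorOf

open Subgroup Cfsg Cfsg.Agent.ZN Cfsg.Agent.ZN.ChoiceBase Cfsg.Agent.Omega.MinPar Cfsg.Agent.Omega.Frame
open Cfsg.Agent.ZN.ChoiceSit (Syl)
open Cfsg.Agent.Omega.NO3S.Level
open Cfsg.Agent.Omega.NO3S.RedC
open Cfsg.Agent.Omega.NO3S.WY Cfsg.Agent.Omega.NO3S.WY.Sel
open Cfsg.Agent.Omega.OM
open Cfsg.Agent.Omega.FFThm (OffM ElemM NoOverM StmtM NatKM)
open Cfsg.Agent.Omega.FrameFF (cv)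
open Cfsg.Agent.Omega.NO1.BestOff (Best)
open Cfsg.Agent.Omega.Node.MulX (MulL)
open Cfsg.Agent.Omega.CaseLQ Cfsg.Agent.Omega.CaseLQ.PsiYB Cfsg.Agent.Omega.CaseLQ.TwoFr Cfsg.Agent.Omega.CaseLQ.TwoN

universe u

variable {G : Type u} [Group G] [Finite G] {S : Sylow 2 G} {P B ZJ : Subgroup G} {k : ℕ}
  {L W Z C A : Fin k → Subgroup G}

/-- `Λ_j = ⟨Z l : l ≠ j⟩` -/
abbrev Lm (Z : Fin k → Subgroup G) (j : Fin k) : Subgroup G := ⨆ l ∈ {l | l ≠ j}, Z l

/-- `Z_J ≤ Λ_j Z_j` -/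
theorem ZJ_le_Lm (h : MulL S P B ZJ L W Z C A 2) (j : Fin k) : ZJ ≤ Lm Z j ⊔ Z j := by
  refine (EK3.ZJ_le h.bg).trans (iSup_le fun l => ?_)
  by_cases hl : l = j
  · subst hl; exact le_sup_right
  · exact (le_iSup₂_of_le (f := fun l (_ : l ∈ {l | l ≠ j}) => Z l) l hl le_rfl).trans le_sup_left

theorem zT (h : MulL S P B ZJ L W Z C A 2) (j : Fin k) : zc B ≤ Lm Z j ⊔ Z j := by
  rw [zc_B h]
  exact ZJ_le_Lm h j

theorem cenLm {j : Fin k} {Y : Subgroup G} (hc : ∀ l, l ≠ j → Y ≤ centralizer (Z l : Set G)) :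
    Y ≤ centralizer (Lm Z j : Set G) := by
  rw [le_centralizer_iff]
  exact iSup₂_le fun l hl => le_centralizer_iff.1 (hc l hl)

/-- **`YS` from `LMd`.** -/
theorem ys_of {Y R H U : Subgroup G} (m : LMd S P B Y R H U) (wy : WY S P B Y) (ZU : zc B ≤ U) : YS U H B Y where
  Uc := m.Uc
  Us := m.toLoc.Us
  HU := m.Un
  UT := m.toLoc.UT
  syl := m.wq.syl
  min := m.wq.min
  c2 := m.wq.c2
  mv := wy.mv
  YH := m.YH
  VU := ZN.zl_le ZU (m.YH.trans m.Un)

/-- **`K♯` and the passive family**, natural blocks of `Y`. -/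
theorem ksh_of (h : MulL S P B ZJ L W Z C A 2) {j : Fin k} {Y H U : Subgroup G} (wj : WJ S P B Z j Y)
    (m : LMd S P B Y (Lm Z j) H U) (WU : W j ≤ U) (ΛU : Lm Z j ≤ U)
    (cen : ∀ E ≤ B, MaxMin U H E → E ≤ centralizer (W j : Set G))
    (hex : ∃ E, E ≤ B ∧ MaxMin U H E ∧ ¬ E ≤ o2 Y) (noV : NoOverM (zl B Y) Y) {F : Type} [Field F] [Finite F]
    [CharP F 2] {n : ℕ} (N : NatKM F B Y (zl B Y) (cv B Y) n) (hn : 0 < n) :
    (∃ (K : Subgroup G) (𝒜 : Set (Subgroup G)), KSh S P Y U K 𝒜) ∧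
      ∃ (V : Subgroup G) (𝓕 : Set (Subgroup G)), FamT S P Y V 𝓕 := by
  have ZU : zc B ≤ U := (zT h j).trans (sup_le ΛU ((h.bg.fr.blk j).ZV.trans WU))
  have s := ys_of m wj.toWY ZU
  have hloc := hloc_of h.bg s noV N hn WU m.toLoc.cUQ cen hex (cenLm wj.cen) ΛU (zT h j)
  exact exists_fam m hloc fun A hA hP => hN_of h.bg j hA hP

end Cfsg.Agent.Omega.CaseLQ.TorOf

end

end

-- merged: Cfsg.Agent.Mrg.Omega.CaseLQ.InstTwo
section

section


/-!
# CaseL, weird `Y`, `q = 2`: the instance of `LMd` and `Sit` over `MulX.MulL .. 2` (#24136 (0), (i))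

`Λ = ⟨Z l : l ≠ j⟩`, `H = ⟨L j, Y⟩`, `U = ⟨Ω₁(Z(B))^H⟩`.

* `Lam`, `Lam_le`, `Lam_ne`, `Y_Lam`, `L_Lam`, `syl_Lam` : `B` is a Sylow 2-subgroup of `C_G(Λ)`;
* `lmd` : `LMd S P B Y Λ H U`;
* `exists_inst` : the literal of helper459 (#26523).
-/

set_option autoImplicit false
set_option linter.unusedSectionVars false

namespace Cfsg.Agent.Omega.CaseLQ.InstTwo

open Subgroup Cfsg Cfsg.Agent.ZN Cfsg.Agent.ZN.ChoiceBase Cfsg.Agent.Omega.MinPar Cfsg.Agent.Omega.Frame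
open Cfsg.Agent.ZN.ChoiceSit (Syl)
open Cfsg.Agent.MinSimple.MinParabolic (IsMinPar)
open Cfsg.Agent.Omega.NO3S.Level
open Cfsg.Agent.Omega.NO3S.RedC
open Cfsg.Agent.Omega.NO3S.WY
open Cfsg.Agent.Omega.NO1.BestOff (Best)
open Cfsg.Agent.Omega.FFThm (OffM ElemM NoOverM)
open Cfsg.Agent.Omega.Node.MulX (MulL)
open Cfsg.Agent.Omega.NO3S.EThree.Frame (Bg Fg)
open Cfsg.Agent.Omega.OM
open Cfsg.Agent.Omega.OM.Uni (FB)

universe u

variable {G : Type u} [Group G] [Finite G] {S : Sylow 2 G} {P B ZJ₀ : Subgroup G} {k : ℕ}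
  {L W Z C A : Fin k → Subgroup G} {j : Fin k} {Y : Subgroup G}

/-- `Λ_j = ⟨Z l : l ≠ j⟩` -/
abbrev Lam (Z : Fin k → Subgroup G) (j : Fin k) : Subgroup G := ⨆ l ∈ {l : Fin k | l ≠ j}, Z l

theorem Lam_le_of {X : Subgroup G} (h : ∀ l, l ≠ j → Z l ≤ X) : Lam Z j ≤ X := iSup₂_le fun l hl => h l hl

theorem Z_le_Lam {l : Fin k} (hl : l ≠ j) : Z l ≤ Lam Z j := le_iSup₂ (f := fun l (_ : l ∈ {l : Fin k | l ≠ j}) => Z l) l hl

theorem cent_Lam {X : Subgroup G} (h : ∀ l, l ≠ j → X ≤ centralizer (Z l : Set G)) : X ≤ centralizer (Lam Z j : Set G) := by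
  rw [le_centralizer_iff]
  exact Lam_le_of fun l hl => le_centralizer_iff.1 (h l hl)

section any

variable {q : ℕ} (h : MulL S P B ZJ₀ L W Z C A q)
include h

theorem Lam_le : Lam Z j ≤ ZJ₀ := Lam_le_of fun l _ => h.fr.Z_le l

theorem Lam_ne : Lam Z j ≠ ⊥ := by
  obtain ⟨l, hl⟩ : ∃ l : Fin k, l ≠ j := h.bg.two j
  exact fun e => h.bg.Z_ne l (le_bot_iff.1 (e ▸ Z_le_Lam hl))

theorem L_Lam : L j ≤ centralizer (Lam Z j : Set G) := cent_Lam fun l hl => fun x hx =>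
  mem_centralizer_iff.2 fun z hz =>
    (h.fr.LC j x hx z (h.fr.Z_le l hz) (h.fr.WjC j l (Ne.symm hl) ((h.fr.blk l).ZV hz))).symm

theorem LQ : L j ≤ normalizer (o2 P : Set G) := fun x hx => mem_normalizer_of_cj_le fun y hy => by
  obtain ⟨z, hz, rfl⟩ := hy
  exact h.fr.LQ j x hx z hz

end any

omit [Finite G] in
/-- the normaliser of a group of order 2 centralises it -/
theorem normalizer_le_of_two {X : Subgroup G} (hX : Nat.card X = 2) : normalizer (X : Set G) ≤ centralizer (X : Set G) := by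
  intro r hr
  rw [mem_centralizer_iff]
  intro z hz
  obtain ⟨y, hy, huniq⟩ := (Nat.card_eq_two_iff' (1 : X)).1 hX
  have h1 : r * z * r⁻¹ ∈ X := (mem_normalizer_iff.1 hr z).1 hz
  by_cases hz1 : z = 1
  · rw [hz1]; group
  have e1 := huniq ⟨z, hz⟩ fun e => hz1 (congrArg Subtype.val e)
  have e2 := huniq ⟨r * z * r⁻¹, h1⟩ fun e => hz1 (by
    have h2 : r * z * r⁻¹ = 1 := congrArg Subtype.val e
    have h3 : z = r⁻¹ * (r * z * r⁻¹) * r := by group
    rw [h3, h2]; group)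
  have e3 : r * z * r⁻¹ = z := congrArg Subtype.val (e2.trans e1.symm)
  exact (mul_inv_eq_iff_eq_mul.1 e3).symm

/-- a 2-group over `B` in `C_G(Z l : l ≠ j)` centralises `Z_J` (`q = 2`) -/
theorem le_cent_ZJ (h : MulL S P B ZJ₀ L W Z C A 2) {R : Subgroup G} (hR : IsPGroup 2 R) (hB : B ≤ R)
    (hc : ∀ l, l ≠ j → R ≤ centralizer (Z l : Set G)) : R ≤ centralizer (ZJ₀ : Set G) := by
  have hRB : R ≤ normalizer (B : Set G) := h.bg.le_norm_B hR hB
  have hR' : ∀ l, R ≤ centralizer (Z l : Set G) := by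
    intro l
    by_cases hlj : l = j
    · subst hlj
      intro r hr
      have hl : ∀ m, m ≠ l → cj r (Z m) = Z m := fun m hm =>
        cj_eq_of_mem_normalizer (centralizer_le_normalizer _ (hc m hm hr))
      obtain ⟨m, hm, -⟩ := (h.bg.nrm r (hRB hr)).2 l
      have hml : m = l := by
        by_contra hml
        have h1 : cj r (Z l) = cj r (Z m) := by rw [hm, hl m hml]
        exact hml (h.bg.Z_inj (Subgroup.map_injective (MulEquiv.injective _) h1)).symm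
      rw [hml] at hm
      exact normalizer_le_of_two (h.fr.cardZ l) (mem_normalizer_iff_cj.2 hm)
    · exact hc l hlj
  rw [le_centralizer_iff]
  exact (EK3.ZJ_le h.bg).trans (iSup_le fun l => le_centralizer_iff.1 (hR' l))

/-- `B` is a Sylow 2-subgroup of `C_G(Λ)` -/
theorem syl_Lam (h : MulL S P B ZJ₀ L W Z C A 2) : Syl B (centralizer (Lam Z j : Set G)) := by
  refine ⟨?_, h.bg.bau_two, fun R hRL hR hBR => ?_⟩
  · exact (h.bg.syl_B.1).trans (centralizer_le (Lam_le h))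
  · refine h.bg.syl_B.2.2 R (le_cent_ZJ (j := j) h hR hBR fun l hl => ?_) hR hBR
    exact hRL.trans (centralizer_le (Z_le_Lam hl))

section weird

variable (h : MulL S P B ZJ₀ L W Z C A 2) (w : WJ S P B Z j Y)
include h w

theorem Y_Lam : Y ≤ centralizer (Lam Z j : Set G) := cent_Lam w.cen

theorem BB_eq : BB (S : Subgroup G) P = B := h.eqB.symm

theorem lmd : LMd S P B Y (Lam Z j) (L j ⊔ Y) (ZN.zl B (L j ⊔ Y)) :=
  LMd.zl w.toWY (BB_eq h w).le ((Lam_le h).trans h.eZ.le) (Lam_ne h) (syl_Lam h)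
    ((h.fr.blk j).BL.trans le_sup_left) le_sup_right
    (sup_le ((h.bg.LP j).trans w.P_le) w.Y_le) (sup_le (L_Lam h) (Y_Lam h w))

/-- **The situation** of `PartI`, with `X = L j`. -/
theorem sit (hFF : Omega.FFThm.StmtM.{u}) :
    Sit (L j ⊔ Y) (ZN.zl B (L j ⊔ Y)) B (o2 P) (W j) (Z j) (Lam Z j) (L j) Y := by
  have m := (lmd h w).toLoc
  have fb := h.fr.blk j
  have cz := h.fr.cardZ j
  have VU : ZN.zl B Y ≤ ZN.zl B (L j ⊔ Y) :=
    ZN.zl_le (ChoiceSit.zc_le_zl _ _) ((le_sup_right : Y ≤ L j ⊔ Y).trans (ZN.le_normalizer_zl _ _))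
  have QW : o2 P ≤ centralizer (W j : Set G) := fun x hx =>
    mem_centralizer_iff.2 fun v hv => (h.bg.fr.cQ hx (h.fr.WV j hv)).symm
  have QZ : o2 P ≤ centralizer (Z j : Set G) := QW.trans (centralizer_le fb.ZV)
  have BZ : B ≤ normalizer (Z j : Set G) := by
    have h1 : B ≤ centralizer (Z j : Set G) := fun b hb => mem_centralizer_iff.2 fun z hz => (fb.cZ b hb z hz).symm
    exact h1.trans (centralizer_le_normalizer _)
  have zU : Z j ≤ ZN.zl B (L j ⊔ Y) := by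
    refine le_trans ?_ (ChoiceSit.zc_le_zl B (L j ⊔ Y))
    rw [InstB.zcB_eq h j]
    exact le_sup_left
  exact
    { Uc := m.Uc
      Us := m.Us
      HU := m.Un
      TH := m.TH
      T2 := h.bg.bau_two
      QT := h.bg.fr.QB
      TZ := BZ
      UT := m.UT
      NU := InstB.W_le fb zU (le_sup_left.trans m.Un)
      QN := QW
      ZN := fb.ZV
      Zne := h.bg.Z_ne j
      card := by
        rw [InstB.card_W fb cz, cz]
        norm_num
      PH := le_sup_left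
      TP := fb.BL
      PN := InstB.L_norm_W fb
      PQ := InstB.L_norm_Q h j
      PC := InstB.norm_C fb
      YH := le_sup_right
      TY := m.syl.1
      oY := ChoiceSit.o2_le_syl m.syl
      mv := InstB.not_norm h w.cen w.mv
      HL := m.HC
      fix := m.cUT.trans (InstB.zcB_eq h j).le
      noN := InstB.noN fb cz
      lineN := InstB.lineN fb cz
      irrN := InstB.irrN fb cz
      oneY := oneY_of hFF m.Uc m.Us m.Un m.syl m.min m.c2 w.mv le_sup_right VU h.bg.fr.QB QZ m.nQ BZ }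

/-- **The instance**, `q = 2`. -/
theorem exists_E (hFF : Omega.FFThm.StmtM.{u}) :
    W j ≤ ZN.zl B (L j ⊔ Y) ∧ Lam Z j ≤ ZN.zl B (L j ⊔ Y) ∧
      (∀ E ≤ B, MaxMin (ZN.zl B (L j ⊔ Y)) (L j ⊔ Y) E → E ≤ centralizer (W j : Set G)) ∧
        ∃ E, E ≤ B ∧ MaxMin (ZN.zl B (L j ⊔ Y)) (L j ⊔ Y) E ∧ ¬ E ≤ o2 Y := by
  have m := lmd h w
  have s := sit h w hFF
  have hT : Syl B (L j ⊔ Y) :=
    ⟨m.TH, h.bg.bau_two, fun R hR hp hBR => (syl_Lam (j := j) h).2.2 R (hR.trans m.HC) hp hBR⟩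
  have hoff : ∃ A ≤ L j ⊔ Y, OffM (ZN.zl B (L j ⊔ Y)) A := by
    obtain ⟨E, hE, hb, hne⟩ := m.exists_best fun A hA hP => by
      obtain ⟨t, ht, hn⟩ := TwoN.hN_of h.bg j hA hP
      exact ⟨t, ht, fun hc => hn (hc.trans (centralizer_le s.NU))⟩
    exact ⟨E, hE.trans m.TH, hb.offM le_rfl hne⟩
  obtain ⟨h1, E, hm, hE, hEY⟩ := (s.toC m.wq.syl).exists_E hT hoff
    fun A hA _ hX hY => InstB.gen hA hX hY
  refine ⟨s.NU, ?_, fun E hE hm => h1 E hm hE, E, hE, hm, hEY⟩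
  refine le_trans ?_ (ChoiceSit.zc_le_zl B (L j ⊔ Y))
  rw [InstB.zcB_eq h j]
  exact le_sup_right

end weird

end Cfsg.Agent.Omega.CaseLQ.InstTwo

end

section


/-!
# NoW, `q = 2`, part (ii), `r = 2` (helper602 #25080 (b)): members which are transvection groups

`Tv U t d` : `t` acts on `U` as a transvection with centre `d`.

* `Tv.comm_of` : two transvections in a 2-group without over-offenders: each commutes with the centre of the other;
* `cos_of` : a maximal offender of least rank which contains a transvection `t` is `⟨t⟩` modulo `C(U)`;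
* `exists_tv` : then all maximal offenders of least rank are transvection groups.
-/

set_option autoImplicit false
set_option linter.unusedSectionVars false

namespace Cfsg.Agent.Omega.CaseLQ.TvTwo

open Subgroup Cfsg Cfsg.Agent.ZN Cfsg.Agent.ZN.ChoiceBase
open Cfsg.Agent.Omega.FFThm (OffM ElemM NoOverM)
open Cfsg.Agent.Omega.NO3S.RedC (MaxMin)
open Cfsg.Agent.Omega.NO3S.Level (MinOff off_of_fM)
open Cfsg.Agent.Omega.NO3b.K0 (conj_mem')
open Cfsg.Agent.Omega.NO3S.Fld (kmod mem_kmod relIndex_mul_card relIndex_le_of_map relIndex_mul_of two_le_relIndex)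
open Cfsg.Agent.Omega.NOThreeL.VF (fM fM_le fM_cj fM_of_le le_fM_iff fM_le_iff fM_mul elemM_mono)

universe u

variable {G : Type u} [Group G] {U : Subgroup G} {s t x y d : G}

/-- `t` acts on `U` as a transvection with centre `d` -/
structure Tv (U : Subgroup G) (t d : G) : Prop where
  nm : t ∈ normalizer (U : Set G)
  mem : d ∈ U
  com : ∀ w ∈ U, t * w * t⁻¹ * w⁻¹ = 1 ∨ t * w * t⁻¹ * w⁻¹ = d
  ne : t ∉ centralizer (U : Set G)

theorem one_iff {t w : G} : t * w * t⁻¹ * w⁻¹ = 1 ↔ t * w = w * t := by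
  rw [mul_inv_eq_one, mul_inv_eq_iff_eq_mul]

theorem eq_iff {t w d : G} : t * w * t⁻¹ * w⁻¹ = d ↔ t * w * t⁻¹ = d * w := by
  rw [mul_inv_eq_iff_eq_mul]

namespace Tv

theorem exists_w (h : Tv U t d) : ∃ w ∈ U, t * w * t⁻¹ * w⁻¹ = d ∧ t * w ≠ w * t := by
  by_contra hcon
  push Not at hcon
  apply h.ne
  rw [mem_centralizer_iff]
  intro w hw
  rcases h.com w hw with h1 | h1
  · exact (one_iff.1 h1).symm
  · exact (hcon w hw h1).symm

theorem d_ne (h : Tv U t d) : d ≠ 1 := by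
  rintro rfl
  obtain ⟨w, hw, h1, h2⟩ := h.exists_w
  exact h2 (one_iff.1 h1)

theorem fix_d (Us : ∀ u ∈ U, u ^ 2 = 1) (h : Tv U t d) : t * d = d * t := by
  rcases h.com d h.mem with h1 | h1
  · exact one_iff.1 h1
  · exfalso
    have h2 := eq_iff.1 h1
    rw [← pow_two, Us d h.mem] at h2
    apply h.d_ne
    have e : d = t⁻¹ * (t * d * t⁻¹) * t := by group
    rw [e, h2]; group

theorem cj (h : Tv U t d) {g : G} (hg : g ∈ normalizer (U : Set G)) : Tv U (g * t * g⁻¹) (g * d * g⁻¹) where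
  nm := mul_mem (mul_mem hg h.nm) (inv_mem hg)
  mem := (mem_normalizer_iff.1 hg d).1 h.mem
  com := fun w hw => by
    have h1 : g⁻¹ * w * g ∈ U := by
      have := (mem_normalizer_iff.1 (inv_mem hg) w).1 hw
      rwa [inv_inv] at this
    have e : g * t * g⁻¹ * w * (g * t * g⁻¹)⁻¹ * w⁻¹ = g * (t * (g⁻¹ * w * g) * t⁻¹ * (g⁻¹ * w * g)⁻¹) * g⁻¹ := by
      group
    rcases h.com _ h1 with h2 | h2
    · left; rw [e, h2]; group
    · right; rw [e, h2]
  ne := fun hc => h.ne (by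
    rw [mem_centralizer_iff] at hc ⊢
    intro w hw
    have h1 := hc (g * w * g⁻¹) ((mem_normalizer_iff.1 hg w).1 hw)
    have e1 : g * w * g⁻¹ * (g * t * g⁻¹) = g * (w * t) * g⁻¹ := by group
    have e2 : g * t * g⁻¹ * (g * w * g⁻¹) = g * (t * w) * g⁻¹ := by group
    rw [e1, e2] at h1
    exact mul_left_cancel (mul_right_cancel h1))

theorem unique {d' : G} (h : Tv U t d) (h' : Tv U t d') : d = d' := by
  obtain ⟨w, hw, h1, h2⟩ := h.exists_w
  rcases h'.com w hw with h3 | h3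
  · exact absurd (one_iff.1 h3) h2
  · exact h1.symm.trans h3

/-- two transvections each moving the centre of the other do not lie in a 2-group -/
theorem not_two {R : Subgroup G} (hR : IsPGroup 2 R) (Uc : ∀ a ∈ U, ∀ b ∈ U, a * b = b * a) (Us : ∀ u ∈ U, u ^ 2 = 1)
    (hs : s ∈ R) (ht : t ∈ R) (h : Tv U s x) (h' : Tv U t y) (h1 : t * x * t⁻¹ = y * x) (h2 : s * y * s⁻¹ = x * y) :
    False := by
  have xx : x * x = 1 := by rw [← pow_two]; exact Us x h.mem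
  have yy : y * y = 1 := by rw [← pow_two]; exact Us y h'.mem
  have xy : x * y = y * x := Uc x h.mem y h'.mem
  have sx : s * x * s⁻¹ = x := by rw [h.fix_d Us]; group
  have ty : t * y * t⁻¹ = y := by rw [h'.fix_d Us]; group
  set g := s * t with hg
  have g1 : g * x * g⁻¹ = y := by
    have e : g * x * g⁻¹ = s * (t * x * t⁻¹) * s⁻¹ := by rw [hg]; group
    have e2 : s * (y * x) * s⁻¹ = (s * y * s⁻¹) * (s * x * s⁻¹) := by group
    rw [e, h1, e2, h2, sx, xy, mul_assoc, xx, mul_one]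
  have g2 : g * y * g⁻¹ = x * y := by
    have e : g * y * g⁻¹ = s * (t * y * t⁻¹) * s⁻¹ := by rw [hg]; group
    rw [e, ty, h2]
  have g3 : g * (x * y) * g⁻¹ = x := by
    have e : g * (x * y) * g⁻¹ = (g * x * g⁻¹) * (g * y * g⁻¹) := by group
    rw [e, g1, g2, xy, ← mul_assoc, yy, one_mul]
  have k3 : g ^ 3 * x * (g ^ 3)⁻¹ = x := by
    have e : g ^ 3 * x * (g ^ 3)⁻¹ = g * (g * (g * x * g⁻¹) * g⁻¹) * g⁻¹ := by
      rw [pow_succ, pow_two]; group
    rw [e, g1, g2, g3]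
  obtain ⟨n, hn⟩ := hR ⟨g, mul_mem hs ht⟩
  have hn' : g ^ 2 ^ n = 1 := by simpa only [_root_.SubmonoidClass.mk_pow, _root_.OneMemClass.coe_one] using congrArg Subtype.val hn
  have hc3 : g ^ 3 ∈ centralizer ({x} : Set G) := by
    rw [mem_centralizer_singleton_iff]; exact mul_inv_eq_iff_eq_mul.1 k3
  have hc : g ∈ centralizer ({x} : Set G) := by
    have hcop : Nat.Coprime 3 (2 ^ n) := Nat.Coprime.pow_right n (by decide)
    have h4 : g ^ (2 ^ n) ∈ centralizer ({x} : Set G) := by rw [hn']; exact one_mem _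
    have h5 : g ^ (Nat.gcd 3 (2 ^ n) : ℤ) ∈ centralizer ({x} : Set G) := by
      rw [Nat.gcd_eq_gcd_ab, zpow_add, zpow_mul, zpow_mul]
      refine mul_mem (zpow_mem ?_ _) (zpow_mem ?_ _)
      · rw [zpow_natCast]; exact hc3
      · rw [zpow_natCast]; exact h4
    rw [hcop] at h5
    simpa using h5
  have h6 := mem_centralizer_singleton_iff.1 hc
  have h7 : x = y := by
    rw [← g1, h6]; group
  rw [← h7, xx] at h1
  apply h.d_ne
  have e : x = t⁻¹ * (t * x * t⁻¹) * t := by group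
  rw [e, h1]; group

variable [Finite G]

/-- index at most two -/
theorem mem_of_two {K A : Subgroup G} (h : K.relIndex A ≤ 2) {a b : G} (ha : a ∈ A) (hb : b ∈ A) (haK : a ∉ K)
    (hbK : b ∉ K) : a * b ∈ K := by
  have h2 := two_le_relIndex ha haK
  have h3 : (K.subgroupOf A).index = 2 := le_antisymm h h2
  have h4 := (mul_mem_iff_of_index_two h3 (a := ⟨a, ha⟩) (b := ⟨b, hb⟩)).2
    ⟨fun h5 => absurd h5 haK, fun h5 => absurd h5 hbK⟩
  exact h4

/-- **Two transvections in a 2-group, no over-offenders**: each commutes with the centre of the other. -/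
theorem comm_of {R : Subgroup G} (hR : IsPGroup 2 R) (Uc : ∀ a ∈ U, ∀ b ∈ U, a * b = b * a) (Us : ∀ u ∈ U, u ^ 2 = 1)
    (no : NoOverM U R) (hs : s ∈ R) (ht : t ∈ R) (h : Tv U s x) (h' : Tv U t y) : t * x = x * t := by
  by_contra hcon
  have h1 : t * x * t⁻¹ = y * x := by
    rcases h'.com x h.mem with h3 | h3
    · exact absurd (one_iff.1 h3) hcon
    · exact eq_iff.1 h3
  rcases h.com y h'.mem with h2 | h2
  swap
  · exact not_two hR Uc Us hs ht h h' h1 (eq_iff.1 h2)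
  have hsy := one_iff.1 h2
  -- the transvection `s' = t s t⁻¹` has the same axis
  set s' := t * s * t⁻¹ with hs'
  have k' : Tv U s' (y * x) := by
    have := h.cj h'.nm
    rwa [h1] at this
  have s'R : s' ∈ R := mul_mem (mul_mem ht hs) (inv_mem ht)
  have ax : ∀ w ∈ U, s * w = w * s → s' * w = w * s' := by
    intro w hw hsw
    -- `t⁻¹ w t` is `w` or `y w`
    have h3 : t⁻¹ * w * t ∈ U := by
      have := (mem_normalizer_iff.1 (inv_mem h'.nm) w).1 hw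
      rwa [inv_inv] at this
    have h4 : s * (t⁻¹ * w * t) = (t⁻¹ * w * t) * s := by
      rcases h'.com _ h3 with h5 | h5
      · have h6 := one_iff.1 h5
        have e : t⁻¹ * w * t = w := by
          have e1 : t * (t⁻¹ * w * t) = w * t := by group
          rw [e1] at h6
          have e2 : w * t = t⁻¹ * w * t * t := h6
          exact (mul_right_cancel h6).symm
        rw [e]; exact hsw
      · have h6 := eq_iff.1 h5
        have e1 : t * (t⁻¹ * w * t) * t⁻¹ = w := by group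
        rw [e1] at h6
        have e : t⁻¹ * w * t = y⁻¹ * w := eq_inv_mul_of_mul_eq h6.symm
        have hy : s * y⁻¹ = y⁻¹ * s := by
          have := (show Commute s y from hsy).inv_right
          exact this
        rw [e, ← mul_assoc, hy, mul_assoc, hsw, mul_assoc]
    have e1 : s' * w = t * (s * (t⁻¹ * w * t)) * t⁻¹ := by rw [hs']; group
    have e2 : w * s' = t * ((t⁻¹ * w * t) * s) * t⁻¹ := by rw [hs']; group
    rw [e1, e2, h4]
  set X := closure ({s, s'} : Set G) with hX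
  have sX : s ∈ X := subset_closure (by simp)
  have s'X : s' ∈ X := subset_closure (by simp)
  have XR : X ≤ R := by
    rw [hX, closure_le]
    rintro g (rfl | rfl)
    · exact hs
    · exact s'R
  have XU : X ≤ normalizer (U : Set G) := by
    rw [hX, closure_le]
    rintro g (rfl | rfl)
    · exact h.nm
    · exact k'.nm
  have cX : ∀ w ∈ U, s * w = w * s → w ∈ U ⊓ centralizer (X : Set G) := by
    intro w hw hsw
    refine ⟨hw, ?_⟩
    have h3 : X ≤ centralizer ({w} : Set G) := by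
      rw [hX, closure_le]
      rintro g (rfl | rfl)
      · exact mem_centralizer_singleton_iff.2 hsw
      · exact mem_centralizer_singleton_iff.2 (ax w hw hsw)
    exact mem_centralizer_iff.2 fun g hg => mem_centralizer_singleton_iff.1 (h3 hg)
  have hsx := h.fix_d Us
  have AN : X ≤ normalizer ((U ⊓ centralizer (X : Set G) : Subgroup G) : Set G) := by
    intro g hg
    rw [mem_normalizer_iff]
    intro w
    constructor
    · rintro ⟨h3, h4⟩
      have h5 := mem_centralizer_iff.1 h4 g hg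
      have e : g * w * g⁻¹ = w := by rw [h5]; group
      rw [e]; exact ⟨h3, h4⟩
    · rintro ⟨h3, h4⟩
      have h5 := mem_centralizer_iff.1 h4 g hg
      have e : g * (g * w * g⁻¹) = g * w := by
        have e1 : g * w * g⁻¹ * g = g * w := by group
        exact h5.trans e1
      have e2 : g * w * g⁻¹ = w := mul_left_cancel e
      rw [e2] at h3 h4; exact ⟨h3, h4⟩
  have hk : X ≤ kmod X U (U ⊓ centralizer (X : Set G)) XU AN := by
    conv_lhs => rw [hX]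
    rw [closure_le]
    rintro g (rfl | rfl)
    · refine mem_kmod.2 ⟨sX, fun w hw => ?_⟩
      rcases h.com w hw with h3 | h3
      · rw [h3]; exact one_mem _
      · rw [h3]; exact cX x h.mem hsx
    · refine mem_kmod.2 ⟨s'X, fun w hw => ?_⟩
      rcases k'.com w hw with h3 | h3
      · rw [h3]; exact one_mem _
      · rw [h3]
        refine cX _ k'.mem ?_
        have c1 : Commute s y := hsy
        have c2 : Commute s x := hsx
        exact c1.mul_right c2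
  have hE : ElemM U X := elemM_of_quad Us Uc fun a ha u hu => (mem_kmod.1 (hk ha)).2 u hu
  have k1 : (centralizer (X : Set G)).relIndex U ≤ 2 := by
    have hc2 : Nat.card ↥(zpowers x) ≤ 2 := by
      rw [Nat.card_zpowers]
      exact Nat.le_of_dvd (by norm_num) (orderOf_dvd_of_pow_eq_one (Us x h.mem))
    refine le_trans ?_ hc2
    rw [← relIndex_bot_left (zpowers x)]
    refine relIndex_le_of_map (fun w => s * w * s⁻¹ * w⁻¹) (fun w hw => ?_) ?_
    · rcases h.com w hw with h3 | h3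
      · simp only [h3]; exact one_mem _
      · simp only [h3]; exact mem_zpowers x
    · intro w hw w' hw' hww
      rw [mem_bot, inv_mul_eq_one] at hww
      refine (cX _ (mul_mem (inv_mem hw) hw') ?_).2
      rw [← one_iff]
      have e1 : s * (w⁻¹ * w') * s⁻¹ * (w⁻¹ * w')⁻¹ = (s * w * s⁻¹)⁻¹ * (s * w' * s⁻¹) * w'⁻¹ * w := by group
      have e2 : s * w * s⁻¹ = (s * w * s⁻¹ * w⁻¹) * w := by group
      have e3 : s * w' * s⁻¹ = (s * w' * s⁻¹ * w'⁻¹) * w' := by group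
      rw [e1, e2, e3, hww]
      generalize s * w' * s⁻¹ * w'⁻¹ = q
      group
  have k2 : (centralizer (U : Set G)).relIndex X ≤ 2 := (FFThm.relIndex_le_iff.1 (no X XR hE)).trans k1
  have k3 : s * s' ∈ centralizer (U : Set G) := mem_of_two k2 sX s'X h.ne k'.ne
  obtain ⟨w, hw, hw1, hw2⟩ := h.exists_w
  have hw' := eq_iff.1 hw1
  have k4 : s' * w * s'⁻¹ = y * x * w := by
    rcases k'.com w hw with h3 | h3
    · exfalso
      -- `s'` commutes with `w`, so does `s`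
      have h4 := mem_centralizer_iff.1 k3 w hw
      have h5 := one_iff.1 h3
      apply hw2
      have e : w * (s * s') = w * s * s' := by group
      have e2 : s * s' * w = s * w * s' := by rw [mul_assoc, h5]; group
      rw [e, e2] at h4
      exact (mul_right_cancel h4).symm
    · exact eq_iff.1 h3
  have k5 := mem_centralizer_iff.1 k3 w hw
  have k6 : s * s' * w * (s * s')⁻¹ = w := by rw [← k5]; group
  have k7 : s * s' * w * (s * s')⁻¹ = s * (s' * w * s'⁻¹) * s⁻¹ := by group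
  rw [k7, k4] at k6
  have k8 : s * (y * x * w) * s⁻¹ = (s * y * s⁻¹) * (s * x * s⁻¹) * (s * w * s⁻¹) := by group
  have sy' : s * y * s⁻¹ = y := by rw [hsy]; group
  have sx' : s * x * s⁻¹ = x := by rw [hsx]; group
  rw [k8, sy', sx', hw'] at k6
  have xx : x * x = 1 := by rw [← pow_two]; exact Us x h.mem
  have k9 : y * x * (x * w) = y * w := by
    have e : y * x * (x * w) = y * (x * x) * w := by group
    rw [e, xx, mul_one]
  rw [k9] at k6
  exact h'.d_ne (by simpa using k6)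

end Tv

variable [Finite G] {H E A : Subgroup G}

/-- **A maximal offender of least rank which contains a transvection `t` is `⟨t⟩` modulo `C(U)`.** -/
theorem cos_of (Us : ∀ u ∈ U, u ^ 2 = 1) (HU : H ≤ normalizer (U : Set G))
    (mo : MinOff U H E) (ht : t ∈ E) (h : Tv U t d) :
    ∀ g ∈ E, g ∈ centralizer (U : Set G) ∨ t⁻¹ * g ∈ centralizer (U : Set G) := by
  have htU := h.com
  have htne := h.ne
  have hdd : d * d = 1 := by rw [← pow_two]; exact Us d h.mem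
  have hUn : E ≤ normalizer (U : Set G) := mo.le.trans HU
  have hCn : ∀ g ∈ E, ∀ z ∈ centralizer (U : Set G), g⁻¹ * z * g ∈ centralizer (U : Set G) := by
    intro g hg z hz
    rw [mem_centralizer_iff]
    intro w hw
    have h1 : g * w * g⁻¹ ∈ U := conj_mem' hUn hg hw
    have h2 := mem_centralizer_iff.1 hz _ h1
    have e1 : w * (g⁻¹ * z * g) = g⁻¹ * (g * w * g⁻¹ * z) * g := by group
    rw [e1, h2]
    group
  let E₁ : Subgroup G :=
    { carrier := {g | g ∈ E ∧ (g ∈ centralizer (U : Set G) ∨ t⁻¹ * g ∈ centralizer (U : Set G))}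
      one_mem' := ⟨one_mem _, Or.inl (one_mem _)⟩
      mul_mem' := by
        rintro a b ⟨ha, ha'⟩ ⟨hb, hb'⟩
        refine ⟨mul_mem ha hb, ?_⟩
        rcases ha' with ha' | ha' <;> rcases hb' with hb' | hb'
        · exact Or.inl (mul_mem ha' hb')
        · right
          have h1 := hCn t ht a ha'
          have e1 : t⁻¹ * (a * b) = (t⁻¹ * a * t) * (t⁻¹ * b) := by group
          rw [e1]
          exact mul_mem h1 hb'
        · right
          have e1 : t⁻¹ * (a * b) = t⁻¹ * a * b := by group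
          rw [e1]
          exact mul_mem ha' hb'
        · left
          have h1 := mo.off.sq t ht
          have h2 := hCn t ht _ ha'
          have e1 : a * b = t ^ 2 * (t⁻¹ * (t⁻¹ * a) * t) * (t⁻¹ * b) := by rw [pow_two]; group
          rw [e1]
          exact mul_mem (mul_mem h1 h2) hb'
      inv_mem' := by
        rintro a ⟨ha, ha'⟩
        refine ⟨inv_mem ha, ?_⟩
        rcases ha' with ha' | ha'
        · exact Or.inl (inv_mem ha')
        · right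
          have h1 := mo.off.sq t ht
          have h2 := hCn t⁻¹ (inv_mem ht) _ (inv_mem ha')
          have e1 : t⁻¹ * a⁻¹ = (t ^ 2)⁻¹ * (t * (t⁻¹ * a)⁻¹ * t⁻¹) := by rw [pow_two]; group
          rw [e1]
          refine mul_mem (inv_mem h1) ?_
          have e2 : t * (t⁻¹ * a)⁻¹ * t⁻¹ = t⁻¹⁻¹ * (t⁻¹ * a)⁻¹ * t⁻¹ := by group
          rw [e2]
          exact h2 }
  have hE₁E : E₁ ≤ E := fun g hg => hg.1
  have htE₁ : t ∈ E₁ := ⟨ht, Or.inr (by rw [inv_mul_cancel]; exact one_mem _)⟩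
  have hcz : ∀ w ∈ U, t * w * t⁻¹ * w⁻¹ = 1 → w ∈ centralizer (E₁ : Set G) := by
    intro w hw h1
    refine mem_centralizer_iff.2 fun g hg => ?_
    have htw : t * w = w * t := one_iff.1 h1
    rcases hg.2 with h2 | h2
    · exact (mem_centralizer_iff.1 h2 w hw).symm
    · have h3 := mem_centralizer_iff.1 h2 w hw
      have e1 : g * w = t * (t⁻¹ * g * w) := by group
      have e2 : t * (w * (t⁻¹ * g)) = t * w * (t⁻¹ * g) := by group
      rw [e1, ← h3, e2, htw]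
      group
  have k1 : (centralizer (E₁ : Set G)).relIndex U ≤ 2 := by
    have hc2 : Nat.card ↥(zpowers d) ≤ 2 := by
      rw [Nat.card_zpowers]
      exact Nat.le_of_dvd (by norm_num) (orderOf_dvd_of_pow_eq_one (by rw [pow_two]; exact hdd))
    refine le_trans ?_ hc2
    rw [← relIndex_bot_left (zpowers d)]
    refine relIndex_le_of_map (fun w => t * w * t⁻¹ * w⁻¹) (fun w hw => ?_) ?_
    · rcases htU w hw with h1 | h1
      · simp only [h1]; exact one_mem _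
      · simp only [h1]; exact mem_zpowers d
    · intro w hw w' hw' hww
      rw [mem_bot, inv_mul_eq_one] at hww
      refine hcz _ (mul_mem (inv_mem hw) hw') ?_
      have e1 : t * (w⁻¹ * w') * t⁻¹ * (w⁻¹ * w')⁻¹ = (t * w * t⁻¹)⁻¹ * (t * w' * t⁻¹) * w'⁻¹ * w := by group
      have e2 : t * w * t⁻¹ = (t * w * t⁻¹ * w⁻¹) * w := by group
      have e3 : t * w' * t⁻¹ = (t * w' * t⁻¹ * w'⁻¹) * w' := by group
      rw [e1, e2, e3, hww]
      generalize t * w' * t⁻¹ * w'⁻¹ = q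
      group
  have k2 : 2 ≤ (centralizer (U : Set G)).relIndex E₁ := two_le_relIndex htE₁ htne
  have hoff₁ : OffM U E₁ :=
    ⟨⟨fun a ha => mo.off.sq a (hE₁E ha), fun a ha b hb => mo.off.comm a (hE₁E ha) b (hE₁E hb)⟩,
      fun h0 => htne (h0 htE₁), FFThm.relIndex_le_iff.2 (k1.trans k2)⟩
  have k3 := mo.min E₁ (hE₁E.trans mo.le) (mo.pg.to_le hE₁E) hoff₁
  have hEE : E ≤ E₁ := by
    have hle : E ⊓ centralizer (U : Set G) ≤ E₁ := fun g hg => ⟨hg.1, Or.inl hg.2⟩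
    have k4 := relIndex_mul_of (H := centralizer (U : Set G)) hle hE₁E
    have p0 : 0 < (centralizer (U : Set G)).relIndex E₁ := by omega
    have k5 : E₁.relIndex E ≤ 1 := by
      refine Nat.le_of_mul_le_mul_left (c := (centralizer (U : Set G)).relIndex E₁) ?_ p0
      rw [k4, mul_one]
      exact k3
    have p1 : 0 < E₁.relIndex E := Nat.pos_of_ne_zero index_ne_zero_of_finite
    exact relIndex_eq_one.1 (by omega)
  exact fun g hg => (hEE hg).2

/-- without over-offenders the members are minimal offenders -/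
theorem minOff_of (Uc : U ≤ centralizer (U : Set G)) (no : NoOverM U H) (m : MaxMin U H E) : MinOff U H E where
  le := m.le
  pg := m.pg
  off := ⟨m.elem, m.ne, FFThm.relIndex_le_iff.2 (m.off Uc le_rfl)⟩
  min := fun D hD hD2 hDo => m.min D hD hD2 hDo.toElemM hDo.ne ((fM_le_iff.2 (no E m.le m.elem)).trans (le_fM_iff.2 hDo.le))

/-- **All members are transvection groups.** -/
theorem exists_tv (Uc : U ≤ centralizer (U : Set G)) (Us : ∀ u ∈ U, u ^ 2 = 1) (HU : H ≤ normalizer (U : Set G))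
    (no : NoOverM U H) (m : MaxMin U H E) (ht : t ∈ E) (h : Tv U t d) (mA : MaxMin U H A) :
    ∃ s ∈ A, ∃ x, Tv U s x ∧ ∀ g ∈ A, g ∈ centralizer (U : Set G) ∨ s⁻¹ * g ∈ centralizer (U : Set G) := by
  have mo := minOff_of Uc no m
  have moA := minOff_of Uc no mA
  have hcos := cos_of Us HU mo ht h
  have k0 : (centralizer (U : Set G)).relIndex E ≤ 2 := by
    have h1 : Nat.card ↥(zpowers (1 : G)) = 1 := by simp
    -- `a ↦ [a, w]`
    obtain ⟨w, hw, hw1, hw2⟩ := h.exists_w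
    have hc2 : Nat.card ↥(zpowers d) ≤ 2 := by
      rw [Nat.card_zpowers]
      exact Nat.le_of_dvd (by norm_num) (orderOf_dvd_of_pow_eq_one (Us d h.mem))
    refine le_trans ?_ hc2
    rw [← relIndex_bot_left (zpowers d)]
    classical
    refine relIndex_le_of_map (fun g => if g ∈ centralizer (U : Set G) then 1 else d) (fun g _ => ?_) ?_
    · by_cases h3 : g ∈ centralizer (U : Set G)
      · simp only [if_pos h3]; exact one_mem _
      · simp only [if_neg h3]; exact mem_zpowers d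
    · intro a ha b hb hab
      rw [mem_bot, inv_mul_eq_one] at hab
      by_cases h3 : a ∈ centralizer (U : Set G) <;> by_cases h4 : b ∈ centralizer (U : Set G)
      · exact mul_mem (inv_mem h3) h4
      · simp only [if_pos h3, if_neg h4] at hab
        exact absurd hab.symm h.d_ne
      · simp only [if_neg h3, if_pos h4] at hab
        exact absurd hab h.d_ne
      · have h5 := (hcos a ha).resolve_left h3
        have h6 := (hcos b hb).resolve_left h4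
        have e : a⁻¹ * b = (t⁻¹ * a)⁻¹ * (t⁻¹ * b) := by group
        rw [e]
        exact mul_mem (inv_mem h5) h6
  have k1 : (centralizer (U : Set G)).relIndex A ≤ 2 := (moA.min E m.le m.pg mo.off).trans k0
  have k2 : (centralizer (A : Set G)).relIndex U ≤ 2 := (FFThm.relIndex_le_iff.1 moA.off.le).trans k1
  obtain ⟨s, hs, hsne⟩ := SetLike.not_le_iff_exists.1 mA.ne
  have hsw : ∃ w ∈ U, s * w ≠ w * s := by
    by_contra hcon
    push Not at hcon
    exact hsne (mem_centralizer_iff.2 fun w hw => (hcon w hw).symm)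
  obtain ⟨w, hw, hsw⟩ := hsw
  have hwA : w ∉ centralizer (A : Set G) := fun h1 => hsw (mem_centralizer_iff.1 h1 s hs)
  have sN : s ∈ normalizer (U : Set G) := HU (mA.le hs)
  refine ⟨s, hs, s * w * s⁻¹ * w⁻¹, ⟨sN, mul_mem ((mem_normalizer_iff.1 sN w).1 hw) (inv_mem hw), fun v hv => ?_, hsne⟩,
    fun g hg => ?_⟩
  · by_cases h1 : v ∈ centralizer (A : Set G)
    · left
      exact one_iff.2 (mem_centralizer_iff.1 h1 s hs)
    · right
      have h2 := Tv.mem_of_two k2 (inv_mem hw) hv (fun h3 => hwA (by simpa using inv_mem h3)) h1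
      have h3 := mem_centralizer_iff.1 h2 s hs
      have e1 : v = w * (w⁻¹ * v) := by group
      have e2 : s * (w * (w⁻¹ * v)) * s⁻¹ = s * w * (s⁻¹ * (s * (w⁻¹ * v))) * s⁻¹ := by group
      have e3 : s * v * s⁻¹ = (s * w * s⁻¹) * (w⁻¹ * v) := by
        have e4 : s * v * s⁻¹ = (s * w * s⁻¹) * (s * (w⁻¹ * v) * s⁻¹) := by group
        rw [e4, h3]; group
      rw [e3]
      group
  · by_cases h1 : g ∈ centralizer (U : Set G)
    · exact Or.inl h1
    · right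
      exact Tv.mem_of_two k1 (inv_mem hs) hg (fun h3 => hsne (by simpa using inv_mem h3)) h1

end Cfsg.Agent.Omega.CaseLQ.TvTwo

end

section


/-!
# `YB` on `C_X(⟨AA⟩)` when the lines have order `2` (helper602 #25080 (b))

natural modules over `F₂` and the symmetric type.

* `Conc2 T H X AA N c e` : `Concl T H X AA N c` (helper373's `YBX`), `c i = {1, e i}`, every member `A ≰ O₂(H)` has a
  commutator `[a, v] = e i`, `v ∈ ⟨Ω₁Z(T)^H⟩`;
* `nat_two`, `sym_two` : `Conc2` exists;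
* `nat_tv`, `sym_tv` : every member `A ≰ O₂(H)` with `X = V C_X(A)` contains a transvection.
-/

set_option autoImplicit false
set_option linter.unusedSectionVars false

namespace Cfsg.Agent.Omega.CaseLQ.TvTwo

open Subgroup Cfsg Cfsg.Agent.ZN Cfsg.Agent.ZN.ChoiceBase Cfsg.Agent.ZN.ChoiceSit
open Cfsg.Agent.Omega.NatPair (ap ap_zero' ap_one' ap_one ap_mul ext2 ap_inv_ap ap_inj)
open Cfsg.Agent.Lib.SL2Mat
open Cfsg.Agent.Omega.SQ1.FFOne (MinH)
open Cfsg.Agent.Omega.SQ1.FFSym (Gd u E)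
open Cfsg.Agent.Omega.NO3S.OneLine (NatC natC_of zc_elem)
open Cfsg.Agent.Omega.NO3S.OneLine.NatC (acts_mul acts_inv acts_one acts_unique)
open Cfsg.Agent.Omega.OM.Lev.Nat (Wn mem_Wn Xn mem_Xn ap_z exists_up)
open Cfsg.Agent.Omega.OM.GNat (sl2_all exists_root cent_N)
open Cfsg.Agent.Omega.OM.GLev
open Cfsg.Agent.Omega.OM.Lev.Low
open Cfsg.Agent.Omega.FFThm (NatK NatKM SymKM ActsSL ActsSym OffM)
open Cfsg.Agent.Omega.SQ1.Bau (elem_comm elem_sq)
open Cfsg.Agent.Omega.FrameFF (cv)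
open Cfsg.Agent.Omega.NO3S.CaseLW.YBX

universe u

variable {G : Type u} [Group G] [Finite G] {T H X : Subgroup G} {AA : Set (Subgroup G)}

/-- `Concl`, all lines of order two -/
structure Conc2 (T H X : Subgroup G) (AA : Set (Subgroup G)) {Λ : Type} (N c : Λ → Subgroup G) (e : Λ → G) : Prop
    extends Concl T H X AA N c where
  mem : ∀ i, e i ∈ c i
  all : ∀ i, ∀ x ∈ c i, x = 1 ∨ x = e i
  act : ∀ A ∈ AA, ¬ A ≤ o2 H → ∃ a ∈ A, ∃ v ∈ zl T H, ∃ i, a * v * a⁻¹ * v⁻¹ = e i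

/-! ### Natural type -/

section nat

variable {F : Type} [Field F] [Finite F] [CharP F 2] {k : ℕ}

/-- `[a, w] = e j ≠ 1` for the root element of the `j`-th summand -/
theorem root_comm (h : GE T H X AA) (N : NatKM F T H (zl T H) (cv T H) k) (hk : 0 < k) {j : Fin k} {a w : G}
    (ha : a ∈ T) (hac : ActsSL N.e (zl T H) (cv T H) a (Pi.mulSingle j (up 1))) (hw : w ∈ zl T H)
    (hew : N.e w j 1 = 1) : N.e (a * w * a⁻¹ * w⁻¹) j 0 = 1 := by
  classical
  set M := natC_of h.hm hk N.toNatK with hM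
  have haw := M.Vn a (h.TH ha) w hw
  have h4 : N.e (a * w * a⁻¹ * w⁻¹) = N.e (a * w * a⁻¹) - N.e w := M.map_div haw hw
  rw [h4, Pi.sub_apply, hac.1 w hw j, Pi.mulSingle_eq_same, Pi.sub_apply, ap_zero', up_00, up_01, hew]
  ring

/-- the root element centralises the vectors without `(j, 1)`-coordinate -/
theorem root_cent (h : GE T H X AA) (N : NatKM F T H (zl T H) (cv T H) k) (hk : 0 < k) {A : Subgroup G} (hA : A ∈ AA)
    {j : Fin k} {a v : G} (ha : a ∈ A) (hac : ActsSL N.e (zl T H) (cv T H) a (Pi.mulSingle j (up 1)))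
    (hv : v ∈ zl T H) (hev : N.e v j 1 = 0) : a * v = v * a := by
  classical
  set M := natC_of h.hm hk N.toNatK with hM
  have haT := h.fam.le A hA ha
  have hc : v ∈ centralizer ({a} : Set G) := by
    refine Nat.mem_of_comp M (fun d hd => mem_centralizer_singleton_iff.2 (hac.2 d hd).symm) hv fun i u hu eu => ?_
    rw [mem_centralizer_singleton_iff]
    by_cases hi : i = j
    · subst hi
      refine (Xc_comm (Nat.line_le h N hk hu.1 fun m => ?_) ((le_sSup hA : A ≤ sSup AA) ha)).symm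
      by_cases hm : m = i
      · subst hm
        have h3 : N.e u m = N.e v m := eu
        rw [h3]
        exact hev
      · have h3 : N.e u m = 0 := hu.2 m hm
        rw [h3]; rfl
    · exact (cent_N M h.hm (h.TH haT) hac.1 hac.2 (Pi.mulSingle_eq_of_ne hi _) hu.1 hu.2).symm
  exact (mem_centralizer_singleton_iff.1 hc).symm

theorem nat_tv (h : GE T H X AA) (N : NatKM F T H (zl T H) (cv T H) k) (hk : 0 < k) (hF : ∀ x : F, x = 0 ∨ x = 1)
    {A : Subgroup G} (hA : A ∈ AA) (hAQ : ¬ A ≤ o2 H)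
    (hs : ∀ u ∈ X, ∃ v ∈ zl T H, ∃ c ∈ X, (∀ a ∈ A, a * c = c * a) ∧ u = v * c) : ∃ t ∈ A, ∃ d, Tv X t d := by
  classical
  set M := natC_of h.hm hk N.toNatK with hM
  obtain ⟨j, hroot⟩ := exists_root h N hk hA hAQ
  obtain ⟨a, ha, hac⟩ := hroot 1
  have haT := h.fam.le A hA ha
  have haN : a ∈ normalizer (X : Set G) := h.norm (h.TH haT)
  obtain ⟨w0, hw0, e0⟩ := exists_vec M j ![0, 1]
  have e0' : N.e w0 j 1 = 1 := by
    have h3 : N.e w0 j = ![0, 1] := e0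
    rw [h3]; simp
  have h1 := root_comm h N hk haT hac hw0.1 e0'
  have hne : a * w0 * a⁻¹ * w0⁻¹ ≠ 1 := by
    intro h2
    rw [h2] at h1
    have h8 : N.e (1 : G) = 0 := M.map_one
    rw [h8] at h1
    simp at h1
  refine ⟨a, ha, a * w0 * a⁻¹ * w0⁻¹, haN, mul_mem ((mem_normalizer_iff.1 haN w0).1 (h.VX hw0.1))
    (inv_mem (h.VX hw0.1)), fun u hu => ?_, fun hc => hne (one_iff.2 (mem_centralizer_iff.1 hc w0 (h.VX hw0.1)).symm)⟩
  obtain ⟨v, hv, c, hc, hac', rfl⟩ := hs u hu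
  have e3 : a * (v * c) * a⁻¹ * (v * c)⁻¹ = a * v * a⁻¹ * v⁻¹ := by
    have e4 : a * (v * c) * a⁻¹ * (v * c)⁻¹ = a * v * (c * a⁻¹ * c⁻¹) * v⁻¹ := by group
    have e5 : c * a⁻¹ * c⁻¹ = a⁻¹ := by
      have h2 := hac' a⁻¹ (inv_mem ha)
      rw [← h2]; group
    rw [e4, e5]
  rw [e3]
  rcases hF (N.e v j 1) with h2 | h2
  · left
    exact one_iff.2 (root_cent h N hk hA ha hac hv h2)
  · right
    -- `w0⁻¹ v` is centralised
    have h3 : N.e (w0⁻¹ * v) j 1 = 0 := by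
      have h4 : N.e (w0⁻¹ * v) = N.e w0⁻¹ + N.e v := M.nat.mul _ (inv_mem hw0.1) _ hv
      have h5 : N.e w0⁻¹ = - N.e w0 := M.map_inv hw0.1
      rw [h4, h5, Pi.add_apply, Pi.add_apply, Pi.neg_apply, Pi.neg_apply, e0', h2, neg_add_cancel]
    have h6 := root_cent h N hk hA ha hac (mul_mem (inv_mem hw0.1) hv) h3
    have e6 : a * v * a⁻¹ * v⁻¹ = a * w0 * (a⁻¹ * (a * (w0⁻¹ * v))) * a⁻¹ * v⁻¹ := by group
    rw [e6, h6]
    group

/-- **`YB` on `C_X(⟨AA⟩)`, natural type over `F₂`.** -/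
theorem nat_two (h : GE T H X AA) (N : NatKM F T H (zl T H) (cv T H) k) (hk : 0 < k) (hF : ∀ x : F, x = 0 ∨ x = 1)
    (hex : ∃ A ∈ AA, ¬ A ≤ o2 H) (hZ : ¬ H ≤ centralizer (zc T : Set G)) :
    ∃ (Ni c : Fin k → Subgroup G) (e : Fin k → G), Conc2 T H X AA Ni c e := by
  classical
  set M := natC_of h.hm hk N.toNatK with hM
  obtain ⟨A, hA, hAQ⟩ := hex
  obtain ⟨j, hroot⟩ := exists_root h N hk hA hAQ
  obtain ⟨L, hL, hsup, hgen⟩ := Nat.ld_of_root h N hk hA hroot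
  have hc := hL.co_two hF
  have yb := hL.yb_aux hc fun i s hs t ht hsm htm => cyc_line h.hm N hk hs hsm ht htm
  -- the elements `e i`
  have hex : ∀ i, ∃ e, e ∈ closure {x | ∃ b ∈ sSup AA, ∃ w ∈ Wn M i, x = b * w * b⁻¹ * w⁻¹} ∧
      ∀ x ∈ closure {x | ∃ b ∈ sSup AA, ∃ w ∈ Wn M i, x = b * w * b⁻¹ * w⁻¹}, x = 1 ∨ x = e := by
    intro i
    obtain ⟨e, he, he1⟩ : ∃ e ∈ closure {x | ∃ b ∈ sSup AA, ∃ w ∈ Wn M i, x = b * w * b⁻¹ * w⁻¹}, e ≠ 1 := by
      by_contra hcon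
      push Not at hcon
      apply yb.ne i
      rw [eq_bot_iff]
      intro x hx
      exact mem_bot.2 (hcon x hx)
    have hcoo : ∀ x ∈ closure {x | ∃ b ∈ sSup AA, ∃ w ∈ Wn M i, x = b * w * b⁻¹ * w⁻¹}, x ≠ 1 → M.nat.e x i 0 = 1 := by
      intro x hx hx1
      rcases hF (M.nat.e x i 0) with h1 | h1
      · exact absurd (hc.dis i x hx (Li_D (hc.le i hx) h1)) hx1
      · exact h1
    refine ⟨e, he, fun x hx => ?_⟩
    by_cases hx1 : x = 1
    · exact Or.inl hx1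
    · right
      have h1 : x⁻¹ * e ∈ closure {x | ∃ b ∈ sSup AA, ∃ w ∈ Wn M i, x = b * w * b⁻¹ * w⁻¹} := mul_mem (inv_mem hx) he
      have h2 : x⁻¹ * e = 1 := by
        by_contra h3
        have h4 := hcoo _ h1 h3
        rw [M.nat.mul _ (inv_mem (hc.le i hx).1) _ (hc.le i he).1, M.map_inv (hc.le i hx).1, Pi.add_apply, Pi.add_apply,
          Pi.neg_apply, Pi.neg_apply, hcoo x hx hx1, hcoo e he he1, neg_add_cancel] at h4
        exact zero_ne_one h4
      exact (inv_mul_eq_one.1 h2)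
  choose e he hall using hex
  have h2 : ∃ i, ¬ zc T ≤ Ni M (Xc X AA) L j i := by
    refine ⟨j, fun hcon => hZ (hsup.trans (sup_le ?_ ?_))⟩
    · exact NO3S.Level.le_centralizer_zc T
    · intro l hl
      rw [mem_centralizer_iff]
      intro z hz
      have h1 := (mem_Ni.1 (hcon hz)).2 1 (one_mem _) (MvI.one j) l hl
      simp only [inv_one, one_mul, mul_one] at h1
      exact h1.symm
  have h3 : ∀ x ∈ Xc X AA, (∀ y ∈ H, cj y (sSup AA) ≤ centralizer ({x} : Set G)) → ∀ i, x ∈ Ni M (Xc X AA) L j i := by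
    intro x hx hxc i
    refine mem_Ni.2 ⟨hx, fun t ht _ l hl => ?_⟩
    have h1 := hgen (centralizer ({t⁻¹ * x * t} : Set G)) fun y hy => ?_
    · exact mem_centralizer_singleton_iff.1 (h1 hl)
    · rintro _ ⟨b, hb, rfl⟩
      rw [mem_centralizer_singleton_iff]
      have h2 := mem_centralizer_singleton_iff.1 (hxc (t * y) (mul_mem (h.TH ht) hy) ⟨b, hb, rfl⟩)
      have h2' : t * y * b * (t * y)⁻¹ * x = x * (t * y * b * (t * y)⁻¹) := h2
      have h4 := congrArg (fun z => t⁻¹ * z * t) h2'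
      show y * b * y⁻¹ * (t⁻¹ * x * t) = t⁻¹ * x * t * (y * b * y⁻¹)
      simpa only [mul_assoc, _root_.mul_inv_rev, _root_.inv_mul_cancel_left, _root_.inv_mul_cancel, _root_.mul_one] using h4
  refine ⟨_, _, e, ⟨yb, h2, fun x hx hxc => h3 x (Xc_of hx hxc) (le_of hxc), fun A hA v hv z _ a haA => ?_⟩, he, hall,
    fun A hA hAQ => ?_⟩
  · have ha : a ∈ sSup AA := (le_sSup hA : A ≤ sSup AA) haA
    have hJV : ∀ a ∈ sSup AA, ∀ v ∈ zl T H, a * v * a⁻¹ ∈ zl T H := fun a ha v hv => M.Vn a (hL.TH (hL.BT ha)) v hv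
    have hD : cv T H ≤ Nat.comS (zl T H) (sSup AA) (YB.Cp (fun i => closure {x | ∃ b ∈ sSup AA, ∃ w ∈ Wn M i,
        x = b * w * b⁻¹ * w⁻¹}) Set.univ) (fun x hx y hy => M.Vcomm hx hy) hJV := fun d hd =>
      ⟨M.DV hd, fun a ha => by rw [Xc_comm (hL.DZ hd) ha, mul_inv_cancel_right, mul_inv_cancel]; exact one_mem _⟩
    exact (Nat.mem_of_comp M hD hv fun i u hu _ => ⟨hu.1, fun a ha =>
      YB.le_Cp (Set.mem_univ i) (subset_closure ⟨a, ha, u, hu, rfl⟩)⟩).2 a ha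
  · obtain ⟨i, hroot'⟩ := exists_root h N hk hA hAQ
    obtain ⟨a, ha, hac⟩ := hroot' 1
    have haT := h.fam.le A hA ha
    obtain ⟨w0, hw0, e0⟩ := exists_vec M i ![0, 1]
    have e0' : N.e w0 i 1 = 1 := by
      have h3 : N.e w0 i = ![0, 1] := e0
      rw [h3]; simp
    have h1 := root_comm h N hk haT hac hw0.1 e0'
    refine ⟨a, ha, w0, hw0.1, i, ?_⟩
    refine (hall i _ (subset_closure ⟨a, (le_sSup hA : A ≤ sSup AA) ha, w0, hw0, rfl⟩)).resolve_left fun h2 => ?_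
    rw [h2] at h1
    have h8 : N.e (1 : G) = 0 := M.map_one
    rw [h8] at h1
    simp at h1

end nat

/-! ### Symmetric type -/

section sym

open Cfsg.Agent.Omega.OM.Lev.SIn
open Cfsg.Agent.Omega.SQ1.BauS (Sim)
open Cfsg.Agent.Omega.OM.Lev.SymIn (SyL)

variable {k m : ℕ}

/-- the module data -/
theorem syl_of (h : GE T H X AA) (N : SymKM T H (zl T H) (cv T H) k m) (hk : 0 < k) (hm : 1 ≤ m)
    (hex : ∃ A ∈ AA, ¬ A ≤ o2 H) :
    SyL T H (o2 H) (zl T H) (sSup AA) (cv T H) AA (0 : Fin (2 ^ m + 1)) N.e :=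
  OM.Lev.Sym.syL_gen (Jg := sSup AA) h.hm hk hm N SQ1.FFOf.cv_le SQ1.FFOf.cv_norm h.fam.le
    (fun A hA hAQ => h.offM hA hAQ) hex (sSup_le h.fam.le) (OM.GSym.T_norm_AA h) (fun A hA => le_sSup hA) le_sup_left

/-- a transposition in a member `A ≰ O₂(H)` -/
theorem exists_swap (h : GE T H X AA) (N : SymKM T H (zl T H) (cv T H) k m) (hk : 0 < k) (hm : 1 ≤ m)
    {A : Subgroup G} (hA : A ∈ AA) (hAQ : ¬ A ≤ o2 H) :
    ∃ (j : Fin k) (x y : Fin (2 ^ m + 1)), x ≠ y ∧ ∃ b ∈ A, Gd H (zl T H) (cv T H) N.e (Pi.mulSingle j (Equiv.swap x y)) b ∧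
      ∃ v ∈ zl T H, b * v * b⁻¹ * v⁻¹ = u H (zl T H) (cv T H) N.e j x y := by
  classical
  have hs := syl_of h N hk hm ⟨A, hA, hAQ⟩
  obtain ⟨j, x, y, hxy, b, hb, hbg⟩ : ∃ (j : Fin k) (x y : Fin (2 ^ m + 1)), x ≠ y ∧ ∃ b ∈ A,
      Gd H (zl T H) (cv T H) N.e (Pi.mulSingle j (Equiv.swap x y)) b := by
    by_contra hcon
    push Not at hcon
    apply hAQ
    intro a ha
    obtain ⟨τ, hτ, hτ'⟩ := hs.offD A hA a ha
    have h1 : τ = 1 := by
      funext i
      ext x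
      by_contra hx
      have hx' : τ i x ≠ x := fun e => hx (by rw [e]; rfl)
      obtain ⟨-, b, hb, hb'⟩ := hτ' i x hx'
      exact hcon i x (τ i x) hx'.symm b hb hb'
    subst h1
    refine hs.cT a (h.fam.le A hA ha) fun v hv => ?_
    have h2 := hs.gd_sim hτ hs.gd_one v hv
    calc a * v = (a * v * a⁻¹) * a := by group
      _ = v * a := by rw [h2]; group
  refine ⟨j, x, y, hxy, b, hb, hbg, ?_⟩
  have hx0 : x ≠ 0 := by
    rintro rfl
    have h4 := N.fix0 b (h.fam.le A hA hb) _ _ hbg.act j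
    rw [Pi.mulSingle_eq_same, Equiv.swap_apply_left] at h4
    exact hxy h4.symm
  have hy0 : y ≠ 0 := by
    rintro rfl
    have h4 := N.fix0 b (h.fam.le A hA hb) _ _ hbg.act j
    rw [Pi.mulSingle_eq_same, Equiv.swap_apply_right] at h4
    exact hxy h4
  obtain ⟨v, hv, hev⟩ := hs.exists_pair j x 0
  refine ⟨v, hv, ?_⟩
  rcases hs.swap_comm hbg v hv with h2 | h2
  · exfalso
    have h1 := hbg.act v hv j y
    rw [h2, Pi.mulSingle_eq_same, Equiv.swap_apply_right, Equiv.Perm.one_apply, hev] at h1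
    simp only [Pi.add_apply] at h1
    rw [SQ1.FFSym.E_self,
      SQ1.FFSym.E_ne (fun h5 => hx0 h5.2), SQ1.FFSym.E_ne (fun h5 => hxy h5.2.symm),
      SQ1.FFSym.E_ne (fun h5 => hy0 h5.2)] at h1
    simp only [_root_.add_zero, _root_.one_ne_zero] at h1
  · rw [h2, mul_inv_cancel_right]

theorem sym_tv (h : GE T H X AA) (N : SymKM T H (zl T H) (cv T H) k m) (hk : 0 < k) (hm : 1 ≤ m)
    {A : Subgroup G} (hA : A ∈ AA) (hAQ : ¬ A ≤ o2 H)
    (hs : ∀ u ∈ X, ∃ v ∈ zl T H, ∃ c ∈ X, (∀ a ∈ A, a * c = c * a) ∧ u = v * c) : ∃ t ∈ A, ∃ d, Tv X t d := by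
  classical
  have hS := syl_of h N hk hm ⟨A, hA, hAQ⟩
  obtain ⟨j, x, y, hxy, b, hb, hbg, v0, hv0, hbv⟩ := exists_swap h N hk hm hA hAQ
  have hbT := h.fam.le A hA hb
  refine ⟨b, hb, u H (zl T H) (cv T H) N.e j x y, h.norm (h.TH hbT), h.VX (hS.u_mem j x y), fun w hw => ?_, fun hc => ?_⟩
  · obtain ⟨v, hv, c, hc, hac', rfl⟩ := hs w hw
    have e3 : b * (v * c) * b⁻¹ * (v * c)⁻¹ = b * v * b⁻¹ * v⁻¹ := by
      have e4 : b * (v * c) * b⁻¹ * (v * c)⁻¹ = b * v * (c * b⁻¹ * c⁻¹) * v⁻¹ := by group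
      have e5 : c * b⁻¹ * c⁻¹ = b⁻¹ := by
        have h2 := hac' b⁻¹ (inv_mem hb)
        rw [← h2]; group
      rw [e4, e5]
    rw [e3]
    rcases hS.swap_comm hbg v hv with h2 | h2
    · left; rw [h2, mul_inv_cancel]
    · right; rw [h2, mul_inv_cancel_right]
  · apply hS.u_ne (j := j) hxy
    rw [← hbv]
    exact one_iff.2 (mem_centralizer_iff.1 hc v0 (h.VX hv0)).symm

/-- **`YB` on `C_X(⟨AA⟩)`, symmetric type.** -/
theorem sym_two (h : GE T H X AA) (hXT : X ≤ T) (N : SymKM T H (zl T H) (cv T H) k m) (hk : 0 < k) (hm : 1 ≤ m)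
    (hex : ∃ A ∈ AA, ¬ A ≤ o2 H) (hZ : ¬ H ≤ centralizer (zc T : Set G)) :
    ∃ (ι : Type) (_ : Finite ι) (Ni c : ι → Subgroup G) (e : ι → G), Conc2 T H X AA Ni c e := by
  have h0 := syl_of h N hk hm hex
  obtain ⟨ι, J, Ux, Y, t, r, c⟩ := h0.exists_ch
  obtain ⟨j, x, y, hTr⟩ := h0.exists_tr
  obtain ⟨i, -⟩ := c.ex j x y hTr
  have hin := Sym.in_of h hXT i (c.main h0 Cfsg.Agent.Omega.SQ1.SymCyc.exists_pow)
  have hp := c.permR h0
  obtain ⟨K, hK, hKc⟩ := hin.exists_blks hp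
  refine ⟨ι, hin.finite_index, _, _, fun i => u H (zl T H) (cv T H) N.e (J i) (Ux i) (Y i),
    ⟨YSym.yb hin hK hKc, ⟨i, fun hle => hZ ?_⟩, fun x hx hxc l => ?_,
    fun A hA v hv z _ a ha => Sym.comm_J hin ((le_sSup hA : A ≤ sSup AA) ha) hv⟩, fun i => mem_zpowers _,
    fun i x hx => OM.Lev.SIn.Blk.mem_zp hin hx, fun A hA hAQ => ?_⟩
  · exact ((hK i).sup_T hin le_sup_left le_sup_right : H ≤ T ⊔ K i).trans
      (sup_le (NO3S.Level.le_centralizer_zc T) (le_centralizer_iff.1 hle))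
  · have hxX := Xc_of hx hxc
    have hxj := le_of hxc
    obtain ⟨y, hy, hym⟩ := (hK l).mv
    have h1 : K l ≤ centralizer ({x} : Set G) := by
      refine (hK l).gen_left hin hy hym (hin.t_bau l) (hin.t_not_QQ l) (fun b hb => ?_) ?_
      · exact mem_centralizer_singleton_iff.2 ((mem_BB.1 hb).2 x hxX).symm
      · exact hxj y ((hK l).LH hin hy) ⟨_, hin.tJ l, rfl⟩
    exact mem_centralizer_iff.2 fun z hz => mem_centralizer_singleton_iff.1 (h1 hz)
  · obtain ⟨j, x, y, hxy, b, hb, hbg, v0, hv0, hbv⟩ := exists_swap h N hk hm hA hAQ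
    obtain ⟨l, hl⟩ := c.ex j x y ⟨hxy, b, (le_sSup hA : A ≤ sSup AA) hb, hbg⟩
    exact ⟨b, hb, v0, hv0, l, hbv.trans hl.symm⟩

end sym

end Cfsg.Agent.Omega.CaseLQ.TvTwo

end

section


/-!
# NoW, `q = 2`, part (ii), the case `r = 2` and the symmetric blocks (helper602 #25080 (b))

* `FrG.trans` : `B` is transitive on the lines;
* `Ctr U A x` : `A` acts on `U` as a group of transvections with centre `x`;
* `dead` : over `YS U H T Y`, the frame `FrG` for every `Concl`, and `P` (`T ≤ P ≤ H`, `P ≤ N(C_T(V))`, `Λ ≤ C(P)`,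
  `P` moves `z`): the lines do not have order `2`;
* `nat_four` : **the natural alternative of the FF theorem holds for `Y`, with `|F| > 2`**.
-/

set_option autoImplicit false
set_option linter.unusedSectionVars false
set_option linter.style.haveILetI false

namespace Cfsg.Agent.Omega.CaseLQ.PsiT

open Subgroup

section add

variable {U : Type*} [AddCommGroup U] {T : Type*} [Group T] [DistribMulAction T U] {ι : Type*} [MulAction T ι]

/-- all lines of order `2`: `T` is transitive on the lines -/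
theorem Fr.trans {c C : ι → AddSubgroup U} {Q : Subgroup T} {N : AddSubgroup U} {z : U} (h : Fr c C Q N z) [Fintype ι]
    [Nonempty ι] {e : ι → U} (he : ∀ i, e i ∈ c i) (he0 : ∀ i, e i ≠ 0)
    (hce : ∀ i, ∀ x ∈ c i, x = 0 ∨ x = e i)
    (hfix : ∀ u : U, (∀ t : T, t • u = u) → (∀ i, u ∈ C i) ∨ ∀ i, u - z ∈ C i) (i m : ι) : ∃ t : T, t • i = m := by
  classical
  by_contra hcon
  have hsum := h.eq_sum he he0 hce hfix
  have hte : ∀ (t : T) (i : ι), t • e i = e (t • i) := by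
    intro t i
    rcases hce (t • i) _ (h.ct t i _ (he i)) with h1 | h1
    · exact absurd h1 ((smul_ne_zero_iff_ne t).2 (he0 i))
    · exact h1
  let O : Set ι := {m | ∃ t : T, t • i = m}
  have hOt : ∀ (t : T) (l : ι), t • l ∈ O ↔ l ∈ O := by
    intro t l
    constructor
    · rintro ⟨s, hs⟩
      exact ⟨t⁻¹ * s, by rw [mul_smul, hs, inv_smul_smul]⟩
    · rintro ⟨s, rfl⟩
      exact ⟨t * s, by rw [mul_smul]⟩
  let g : ι → U := fun l => if l ∈ O then e l else 0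
  have hgt : ∀ (t : T) (l : ι), t • g l = g (t • l) := by
    intro t l
    by_cases hl : l ∈ O
    · have hl' := (hOt t l).2 hl
      simp only [g, if_pos hl, if_pos hl']
      exact hte t l
    · have hl' := fun h' => hl ((hOt t l).1 h')
      simp only [g, if_neg hl, if_neg hl', smul_zero]
  have hg : ∀ l, g l ∈ c l := by
    intro l
    by_cases hl : l ∈ O
    · simp only [g, if_pos hl]; exact he l
    · simp only [g, if_neg hl]; exact (c l).zero_mem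
  have hT : ∀ t : T, t • (∑ l, g l) = ∑ l, g l := by
    intro t
    rw [Finset.smul_sum]
    exact Fintype.sum_equiv (MulAction.toPerm t) _ _ fun l => hgt t l
  rcases hfix _ hT with h1 | h1
  · have h2 := h.sum_zero hg h1 i
    have hi : i ∈ O := ⟨1, one_smul _ _⟩
    simp only [g, if_pos hi] at h2
    exact he0 i h2
  · have h2 : (∑ l, g l) - z = ∑ l, (g l - e l) := by
      rw [hsum, Finset.sum_sub_distrib]
    have h3 := h.sum_zero (fun l => (c l).sub_mem (hg l) (he l)) (fun l => by rw [← h2]; exact h1 l) m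
    have hm : m ∉ O := hcon
    simp only [g, if_neg hm, zero_sub, neg_eq_zero] at h3
    exact he0 m h3

end add

local notation "cj" g:max H:max => Subgroup.map (MulEquiv.toMonoidHom (MulAut.conj g)) H

variable {G : Type*} [Group G] {ι : Type*}

/-- all lines of order `2`: `B` is transitive on the lines -/
theorem FrG.trans {U B Q V : Subgroup G} {z : G} {Lam : Subgroup G} {N c : ι → Subgroup G}
    (h : FrG U B Q V z Lam N c) [Finite ι] {e : ι → G}
    (he : ∀ i, e i ∈ c i) (hce : ∀ i, ∀ x ∈ c i, x = 1 ∨ x = e i)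
    (hCB : ∀ u ∈ U, u ∈ centralizer (B : Set G) → u ∈ Lam ∨ u * z⁻¹ ∈ Lam) (i m : ι) :
    ∃ b ∈ B, b * e i * b⁻¹ = e m := by
  classical
  have := Fintype.ofFinite ι
  obtain ⟨i0, hi0⟩ := h.nz
  have : Nonempty ι := ⟨i0⟩
  have he1 : ∀ i, e i ≠ 1 := by
    intro i h1
    apply h.ne i
    rw [eq_bot_iff]
    intro x hx
    rcases hce i x hx with h2 | h2
    · exact mem_bot.2 h2
    · exact mem_bot.2 (h2.trans h1)
  have heU : ∀ i, e i ∈ U := fun i => h.cU i (he i)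
  obtain ⟨act, hact⟩ := h.exists_act
  letI := instU h.comm
  letI := actU h.comm h.BU
  let e' : ι → Additive ↥U := fun i => Additive.ofMul (⟨e i, heU i⟩ : ↥U)
  obtain ⟨t, ht⟩ := (h.toFr act hact).trans (e := e') (fun i => he i) (fun i h0 => he1 i
      (congrArg (fun u : Additive ↥U => ((Additive.toMul u : ↥U) : G)) h0)) (fun i x hx => by
    rcases hce i _ hx with h1 | h1
    · left; exact Additive.toMul.injective (Subtype.ext h1)
    · right; exact Additive.toMul.injective (Subtype.ext h1)) (fun u hu => by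
    have h1 : ((Additive.toMul u : ↥U) : G) ∈ centralizer (B : Set G) := by
      intro g hg
      have h2 := congrArg (fun u : Additive ↥U => ((Additive.toMul u : ↥U) : G)) (hu ⟨g, hg⟩)
      change g * (Additive.toMul u : ↥U) * g⁻¹ = (Additive.toMul u : ↥U) at h2
      exact mul_inv_eq_iff_eq_mul.1 h2
    rcases hCB _ (Additive.toMul u : ↥U).2 h1 with h2 | h2
    · left
      intro i
      exact h.LamN i _ h2 (Additive.toMul u : ↥U).2
    · right
      intro i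
      rw [mem_AA, toMul_sub, div_eq_mul_inv]
      exact h.LamN i _ h2 (mul_mem (Additive.toMul u : ↥U).2 (inv_mem (h.VU h.zV)))) i m
  have h1 := (hact t i).2
  have ht' : act.smul t i = m := ht
  rw [ht'] at h1
  refine ⟨t, t.2, ?_⟩
  have h2 : (t : G) * e i * (t : G)⁻¹ ∈ c m := by
    rw [h1]
    exact ⟨_, he i, rfl⟩
  refine (hce m _ h2).resolve_left fun h3 => he1 i ?_
  have e1 : e i = (t : G)⁻¹ * ((t : G) * e i * (t : G)⁻¹) * t := by group
  rw [e1, h3]; group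

end Cfsg.Agent.Omega.CaseLQ.PsiT

namespace Cfsg.Agent.Omega.CaseLQ.TvTwo

open Subgroup Cfsg Cfsg.Agent.ZN Cfsg.Agent.ZN.ChoiceBase Cfsg.Agent.ZN.ChoiceSit
open Cfsg.Agent.Omega.FFThm (OffM ElemM NoOverM NatKM SymKM StmtM)
open Cfsg.Agent.Omega.NO3S.RedC (MaxMin)
open Cfsg.Agent.Omega.OM.GLev (GE)
open Cfsg.Agent.Omega.FrameFF (cv)
open Cfsg.Agent.Omega.NO3S.CaseLW.YBX (Xc mem_Xc Xc_le Concl)
open Cfsg.Agent.Omega.CaseLQ.PsiT
open Cfsg.Agent.Omega.CaseLQ.PsiYB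

universe u

variable {G : Type u} [Group G]

/-- `A` acts on `U` as a group of transvections with centre `x` -/
structure Ctr (U A : Subgroup G) (x : G) : Prop where
  tv : ∀ a ∈ A, a ∉ centralizer (U : Set G) → Tv U a x
  ne : ¬ A ≤ centralizer (U : Set G)

namespace Ctr

variable {U A : Subgroup G} {x : G}

theorem exists_tv (h : Ctr U A x) : ∃ a ∈ A, Tv U a x := by
  obtain ⟨a, ha, hac⟩ := SetLike.not_le_iff_exists.1 h.ne
  exact ⟨a, ha, h.tv a ha hac⟩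

theorem eq_of (h : Ctr U A x) {a w : G} (ha : a ∈ A) (hw : w ∈ U) (hne : a * w * a⁻¹ * w⁻¹ ≠ 1) :
    a * w * a⁻¹ * w⁻¹ = x :=
  ((h.tv a ha fun hc => hne (one_iff.2 (mem_centralizer_iff.1 hc w hw).symm)).com w hw).resolve_left hne

theorem cj (h : Ctr U A x) {g : G} (hg : g ∈ normalizer (U : Set G)) : Ctr U (ChoiceBase.cj g A) (g * x * g⁻¹) := by
  have key : ∀ a, a ∉ centralizer (U : Set G) ↔ g * a * g⁻¹ ∉ centralizer (U : Set G) := by
    intro a
    have h1 : ChoiceBase.cj g (centralizer (U : Set G)) = centralizer (U : Set G) := by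
      rw [cj_centralizer, cj_eq_of_mem_normalizer hg]
    conv_rhs => rw [← h1]
    rw [mem_cj]
    have e : g⁻¹ * (g * a * g⁻¹) * g = a := by group
    rw [e]
  refine ⟨?_, fun hc => ?_⟩
  · rintro _ ⟨a, ha, rfl⟩ hac
    exact (h.tv a ha ((key a).2 hac)).cj hg
  · obtain ⟨a, ha, hac⟩ := SetLike.not_le_iff_exists.1 h.ne
    exact (key a).1 hac (hc ⟨a, ha, rfl⟩)

end Ctr

variable [Finite G] {P T U H Y Q V Lam E A : Subgroup G} {z t d : G}

/-- all members are transvection groups -/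
theorem exists_ctr (Uc : U ≤ centralizer (U : Set G)) (Us : ∀ u ∈ U, u ^ 2 = 1) (HU : H ≤ normalizer (U : Set G))
    (no : NoOverM U H) (m : MaxMin U H E) (ht : t ∈ E) (h : Tv U t d) (mA : MaxMin U H A) : ∃ x, Ctr U A x := by
  obtain ⟨s, hs, x, hx, hc⟩ := exists_tv Uc Us HU no m ht h mA
  refine ⟨x, fun a ha hac => ?_, mA.ne⟩
  have h1 := (hc a ha).resolve_left hac
  refine ⟨HU (mA.le ha), hx.mem, fun w hw => ?_, hac⟩
  have h2 := mem_centralizer_iff.1 h1 w hw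
  have e1 : a * w * a⁻¹ * w⁻¹ = s * (s⁻¹ * a * w) * (s⁻¹ * a)⁻¹ * s⁻¹ * w⁻¹ := by group
  have e2 : s * (w * (s⁻¹ * a)) * (s⁻¹ * a)⁻¹ * s⁻¹ * w⁻¹ = s * w * s⁻¹ * w⁻¹ := by group
  rw [e1, ← h2, e2]
  exact hx.com w hw

/-- **The lines do not have order `2`.** -/
theorem dead {κ : Type} [Finite κ] {Ni c : κ → Subgroup G} {e : κ → G} (s : YS U H T Y)
    (no : NoOverM U H) (hc : Conc2 T Y U (Fam U H T) Ni c e)
    (fr : FrG (Xc U (Fam U H T)) T Q V z Lam Ni c)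
    (cen : ∀ E ≤ T, MaxMin U H E → E ≤ centralizer (V : Set G)) (VU : V ≤ U) (PH : P ≤ H) (TP : T ≤ P)
    (PC : P ≤ normalizer ((T ⊓ centralizer (V : Set G) : Subgroup G) : Set G))
    (hCB : ∀ u ∈ U, u ∈ centralizer (T : Set G) → u ∈ Lam ∨ u * z⁻¹ ∈ Lam)
    (hPL : Lam ≤ centralizer (P : Set G)) (hmv : ∃ p ∈ P, p * z * p⁻¹ ≠ z)
    (hET : E ≤ T) (m : MaxMin U H E) (hEY : ¬ E ≤ o2 Y) (ht : t ∈ E) (h : Tv U t d) : False := by
  classical
  have TH : T ≤ H := s.TY.trans s.YH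
  have Uc' := s.U_mul
  have hCt : ∀ {A : Subgroup G}, MaxMin U H A → ∃ x, Ctr U A x := fun mA =>
    exists_ctr s.Uc s.Us s.HU no m ht h mA
  have hfam := bfam (U := U) (H := H) (T := T) TH
  -- `P` permutes the family
  have hFP : ∀ p ∈ P, ∀ A ∈ Fam U H T, cj p A ∈ Fam U H T := by
    intro p hp A hA
    refine hfam.conj A hA p (s.HU (PH hp)) ?_
    have h1 : A ≤ T ⊓ centralizer (V : Set G) := by
      rcases hA.2 with h2 | h2
      · exact le_inf hA.1 (cen A hA.1 h2)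
      · exact le_inf hA.1 (h2.trans (centralizer_le VU))
    have h2 := cj_mono p h1
    rw [cj_eq_of_mem_normalizer (PC hp)] at h2
    exact h2.trans inf_le_left
  -- the centre of `E`
  obtain ⟨x0, hx0⟩ := hCt m
  obtain ⟨a0, ha0, v0, hv0, i0, he0⟩ := hc.act E ⟨hET, Or.inl m⟩ hEY
  have hene : ∀ i, e i ≠ 1 := by
    intro i h1
    apply fr.ne i
    rw [eq_bot_iff]
    intro x hx
    rcases hc.all i x hx with h2 | h2
    · exact mem_bot.2 h2
    · exact mem_bot.2 (h2.trans h1)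
  have hxe : x0 = e i0 := by
    rw [← he0]
    exact (hx0.eq_of ha0 (s.VU hv0) (by rw [he0]; exact hene i0)).symm
  subst hxe
  let OO : Set G := {x | ∃ p ∈ P, x = p * e i0 * p⁻¹}
  -- a member with centre `x`
  have hmem : ∀ x ∈ OO, ∃ D, D ∈ Fam U H T ∧ MaxMin U H D ∧ Ctr U D x := by
    rintro _ ⟨p, hp, rfl⟩
    exact ⟨cj p E, hFP p hp E ⟨hET, Or.inl m⟩, m.cj (PH hp) s.HU, hx0.cj (s.HU (PH hp))⟩
  refine fr.two_false (P := P) (e := e) OO hc.mem hc.all (fun u hu hub => hCB u (Xc_le _ _ hu) hub) TP ?_ hPL ?_ ?_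
    (Set.toFinite _) ?_ ?_ ?_ hmv
  · -- `P` normalises `X'`
    intro p hp
    have key : ∀ p ∈ P, ∀ x ∈ Xc U (Fam U H T), p * x * p⁻¹ ∈ Xc U (Fam U H T) := by
      intro p hp x hx
      have hpU := s.HU (PH hp)
      refine mem_Xc.2 ⟨(mem_normalizer_iff.1 hpU x).1 (Xc_le _ _ hx), fun A hA a ha => ?_⟩
      have h1 := hFP p⁻¹ (inv_mem hp) A hA
      have h2 := (mem_Xc.1 hx).2 _ h1 (p⁻¹ * a * p) ⟨a, ha, by simp only [_root_.map_inv, _root_.MulEquiv.toMonoidHom_eq_coe, _root_.MonoidHom.coe_coe, _root_.MulAut.inv_apply, _root_.MulAut.conj_symm_apply]⟩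
      have h3 := congrArg (fun w => p * w * p⁻¹) h2
      simpa only [mul_assoc, _root_.mul_inv_cancel_left, _root_.mul_inv_cancel, _root_.mul_one] using h3
    rw [mem_normalizer_iff]
    intro x
    refine ⟨fun hx => key p hp x hx, fun hx => ?_⟩
    have h1 := key p⁻¹ (inv_mem hp) _ hx
    have e1 : p⁻¹ * (p * x * p⁻¹) * p⁻¹⁻¹ = x := by group
    rwa [e1] at h1
  · -- `hKL`
    intro u hu hub huN
    rcases hCB u (Xc_le _ _ hu) hub with h1 | h1
    · exact h1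
    · exfalso
      obtain ⟨i, hi⟩ := fr.nz
      apply hi
      have h2 := fr.LamN i _ h1 (mul_mem hu (inv_mem (fr.VU fr.zV)))
      have h3 := mul_mem (inv_mem h2) (huN i)
      have e1 : (u * z⁻¹)⁻¹ * u = z := by group
      rwa [e1] at h3
  · intro i
    obtain ⟨b, hb, hbe⟩ := fr.trans hc.mem hc.all (fun u hu hub => hCB u (Xc_le _ _ hu) hub) i0 i
    exact ⟨b, TP hb, hbe.symm⟩
  · rintro p hp _ ⟨p', hp', rfl⟩
    exact ⟨p * p', mul_mem hp hp', by group⟩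
  · rintro _ ⟨p, hp, rfl⟩ _ ⟨p', hp', rfl⟩
    exact ⟨p' * p⁻¹, mul_mem hp' (inv_mem hp), by group⟩
  · intro x hx
    obtain ⟨D, hDF, mD, cD⟩ := hmem x hx
    by_cases hDY : D ≤ o2 Y
    · right
      obtain ⟨sD, hsD, tD⟩ := cD.exists_tv
      refine hc.cen x tD.mem fun A hA y hy a ha => ?_
      have hyU := s.HU (s.YH hy)
      by_cases hac : a ∈ centralizer (U : Set G)
      · have h1 : y * a * y⁻¹ ∈ centralizer (U : Set G) := by
          rw [mem_centralizer_iff]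
          intro w hw
          have h2 : y⁻¹ * w * y ∈ U := by
            have := (mem_normalizer_iff.1 (inv_mem hyU) w).1 hw
            rwa [inv_inv] at this
          have h3 := mem_centralizer_iff.1 hac _ h2
          have e1 : w * (y * a * y⁻¹) = y * (y⁻¹ * w * y * a) * y⁻¹ := by group
          have e2 : y * a * y⁻¹ * w = y * (a * (y⁻¹ * w * y)) * y⁻¹ := by group
          rw [e1, e2, h3]
        exact (mem_centralizer_iff.1 h1 x tD.mem).symm
      · have mA : MaxMin U H A := by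
          rcases hA.2 with h1 | h1
          · exact h1
          · exact absurd (h1 ha) hac
        obtain ⟨xA, cA⟩ := hCt mA
        have tA := (cA.tv a ha hac).cj hyU
        -- the 2-group `T^y`
        have hR : IsPGroup 2 ↥(cj y T) := ChoiceBase.isPGroup_cj y s.syl.2.1
        have hRH : cj y T ≤ H := by
          have h1 := cj_mono y s.TY
          rw [cj_eq_of_mem_normalizer (le_normalizer hy)] at h1
          exact h1.trans s.YH
        have hoR : o2 Y ≤ cj y T := by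
          have h1 := cj_mono y (o2_le_syl s.syl)
          rwa [cj_eq_of_mem_normalizer (ChoiceSit.le_normalizer_o2 Y hy)] at h1
        exact Tv.comm_of hR Uc' s.Us (fun X hX => no X (hX.trans hRH)) (hoR (hDY hsD)) ⟨a, hA.1 ha, rfl⟩ tD tA
    · left
      obtain ⟨a, ha, v, hv, i, hai⟩ := hc.act D hDF hDY
      exact ⟨i, by rw [← hai]; exact (cD.eq_of ha (s.VU hv) (by rw [hai]; exact hene i)).symm⟩

/-- **`Y` has natural blocks over a field of order at least `4`.** -/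
theorem nat_four (s : YS U H T Y) (hFF : StmtM.{u})
    (frg : ∀ {κ : Type} [Finite κ] {Ni c : κ → Subgroup G}, Concl T Y U (Fam U H T) Ni c →
      FrG (Xc U (Fam U H T)) T Q V z Lam Ni c)
    (cen : ∀ E ≤ T, MaxMin U H E → E ≤ centralizer (V : Set G))
    (hex : ∃ E, E ≤ T ∧ MaxMin U H E ∧ ¬ E ≤ o2 Y) (VU : V ≤ U) (PH : P ≤ H) (TP : T ≤ P)
    (PC : P ≤ normalizer ((T ⊓ centralizer (V : Set G) : Subgroup G) : Set G))
    (hCB : ∀ u ∈ U, u ∈ centralizer (T : Set G) → u ∈ Lam ∨ u * z⁻¹ ∈ Lam)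
    (hPL : Lam ≤ centralizer (P : Set G)) (hmv : ∃ p ∈ P, p * z * p⁻¹ ≠ z) :
    ∃ (F : Type) (_ : Field F) (_ : Finite F) (_ : CharP F 2) (k : ℕ), 0 < k ∧ (∃ x : F, x ≠ 0 ∧ x ≠ 1) ∧
      Nonempty (NatKM F T Y (zl T Y) (cv T Y) k) := by
  classical
  obtain ⟨E, hET, m, hEY⟩ := hex
  have TH : T ≤ H := s.TY.trans s.YH
  have hfam := bfam (U := U) (H := H) (T := T) TH
  have hEF : E ∈ Fam U H T := ⟨hET, Or.inl m⟩
  have hne : ¬ E ≤ centralizer (zl T Y : Set G) := fun h => hEY ((le_inf hET h).trans s.cap)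
  have hoff := NO3S.OneLine.BFam.offM hfam s.U_mul s.VU hEF hne
  obtain ⟨noV, con⟩ := hFF G T Y s.syl s.min s.c2 ⟨E, hET.trans s.TY, hoff⟩
  have ge : GE T Y U (Fam U H T) :=
    { hm := s.hm
      fam := hfam
      elem := Cfsg.Agent.PLocal.ThompsonJ.isElementaryAbelian_iff.2 ⟨s.U_mul, s.Us⟩
      norm := s.YH.trans s.HU
      VX := s.VU
      QC := s.cap
      noOver := noV }
  have hno := noV E (hET.trans s.TY) hoff.toElemM
  obtain ⟨no, mo⟩ := m.minOff s.HU s.VU hno hne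
  have hcut := mo.cut s.VU hno hne
  have hsp : ∀ u ∈ U, ∃ v ∈ zl T Y, ∃ c ∈ U, (∀ a ∈ E, a * c = c * a) ∧ u = v * c := by
    intro u hu
    have h1 := (ge.cut hEF).2
    have h2 : u ∈ U ⊓ centralizer ((E ⊓ o2 Y : Subgroup G) : Set G) := by
      refine ⟨hu, mem_centralizer_iff.2 fun a ha => ?_⟩
      have h3 : a ∈ E ⊓ centralizer (zl T Y : Set G) := by rw [ge.inf_cent hET]; exact ha
      exact (mem_centralizer_iff.1 (hcut h3) u hu).symm
    rw [← h1] at h2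
    obtain ⟨v, hv, c, hc, rfl⟩ := SQ1.Bau.mem_sup_comm (A := zl T Y) (B := U ⊓ centralizer (E : Set G))
      (fun v hv x hx => s.U_mul v (s.VU hv) x hx.1) h2
    exact ⟨v, hv, c, hc.1, fun a ha => mem_centralizer_iff.1 hc.2 a ha, rfl⟩
  rcases con with ⟨F, _, _, _, k, hk, ⟨N⟩⟩ | ⟨k, r, hk, hr, ⟨N⟩⟩
  · by_cases hF : ∀ x : F, x = 0 ∨ x = 1
    · exfalso
      obtain ⟨Ni, c, e, hc⟩ := nat_two ge N hk hF ⟨E, hEF, hEY⟩ s.mv
      obtain ⟨t, ht, d, htv⟩ := nat_tv ge N hk hF hEF hEY hsp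
      exact dead s no hc (frg hc.toConcl) cen VU PH TP PC hCB hPL hmv hET m hEY ht htv
    · push Not at hF
      exact ⟨F, inferInstance, inferInstance, inferInstance, k, hk, hF, ⟨N⟩⟩
  · exfalso
    obtain ⟨ι, _, Ni, c, e, hc⟩ := sym_two ge s.UT N hk (by omega) ⟨E, hEF, hEY⟩ s.mv
    obtain ⟨t, ht, d, htv⟩ := sym_tv ge N hk (by omega) hEF hEY hsp
    exact dead s no hc (frg hc.toConcl) cen VU PH TP PC hCB hPL hmv hET m hEY ht htv

end Cfsg.Agent.Omega.CaseLQ.TvTwo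

end

section


/-!
# The weird parabolics of the case (L), `q = 2`: the torus (#25080 (d)), the end over `Bg`

Over `TS M (o2 P) K z` (`Torus.lean`), `Bg S P B ZJ L W Z C 2`, `V ∩ C(O₂(P)) ≤ V_P`, `Z l ≤ D` for `l ≠ j`, `|F| ≥ 4`:

* `TS.one_of` : `k = 1`, `|F| = 4`, `X0 = W j D`;
* `TS.up_of` : `O₂(P)` acts on `V` inside the product of the root groups.
-/

set_option autoImplicit false
set_option linter.unusedSectionVars false

namespace Cfsg.Agent.Omega.CaseLQ.Torus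

open Subgroup Cfsg Cfsg.Agent.ZN Cfsg.Agent.ZN.ChoiceBase
open Cfsg.Agent.ZN.ChoiceSit (Syl syl_conj)
open Cfsg.Agent.MinSimple.MinParabolic (IsMinPar)
open Cfsg.Agent.MinSimple.VModule (oddGen oddGen_le mem_oddGen)
open Cfsg.Agent.Omega.FFThm (NatK NatKM ActsSL)
open Cfsg.Agent.Omega.NO3b.K0 (conj_mem' cj_of_le cj_self min_or)
open Cfsg.Agent.Omega.NO3S.NotFF (le_normalizer_of_forall)
open Cfsg.Agent.Omega.SQ1.Bau (mem_sup_comm card_sup_comm mem_sup_norm)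
open Cfsg.Agent.Omega.SQ1.FFOne (MinH syl_inf mem_norm_of)
open Cfsg.Agent.Omega.NatPair (ap ap_zero' ap_one' ap_one ap_mul ap_add ext2 ap_inv_ap ap_inj)
open Cfsg.Agent.Omega.NO3S.OneLine (NatC card_of_hom)
open Cfsg.Agent.Omega.NO3S.EThree.Frame (Bg Fg)
open Cfsg.Agent.Lib.SL2Mat

universe u

variable {G : Type u} [Group G] [Finite G]

/-! ### Over `Bg` -/

section bg

variable {S : Sylow 2 G} {P B ZJ : Subgroup G} {ι : Type} {L W Z C : ι → Subgroup G}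
  (h : Bg S P B ZJ L W Z C 2)
include h

/-- `Z_J ∩ C j ≤ ⟨Z l : l ≠ j⟩` -/
theorem ZC_le [Finite ι] (i : ι) : ZJ ⊓ C i ≤ ⨆ j : {j : ι // j ≠ i}, Z j := by
  classical
  have := Fintype.ofFinite ι
  rintro v ⟨hvJ, hv⟩
  have hle : (⨆ j : {j : ι // j ≠ i}, Z j) ≤ C i := iSup_le fun j => (h.fr.blk j).ZV.trans (h.fr.WjC i j j.2.symm)
  have hleJ : (⨆ j : {j : ι // j ≠ i}, Z j) ≤ ZJ := iSup_le fun j => h.fr.Z_le j
  have key : ∀ s : Finset ι, i ∉ s → ∃ u ∈ ⨆ j : {j : ι // j ≠ i}, Z j, ∀ j ∈ s, u⁻¹ * v ∈ C j := by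
    intro s
    induction s using Finset.induction_on with
    | empty => exact fun _ => ⟨1, one_mem _, by simp⟩
    | insert j s hj ih =>
      intro hi
      have hji : j ≠ i := fun e => hi (e ▸ Finset.mem_insert_self _ _)
      obtain ⟨u, hu, h1⟩ := ih fun e => hi (Finset.mem_insert_of_mem e)
      obtain ⟨w, hw, c, hc, -, e⟩ := h.fr.split_ZJ j (mul_mem (inv_mem (hleJ hu)) hvJ)
      refine ⟨u * w, mul_mem hu (mem_iSup_of_mem (⟨j, hji⟩ : {j : ι // j ≠ i}) hw), fun l hl => ?_⟩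
      have e1 : (u * w)⁻¹ * v = w⁻¹ * (u⁻¹ * v) := by group
      rw [e1]
      rcases Finset.mem_insert.1 hl with rfl | hl
      · rw [e]
        have : w⁻¹ * (w * c) = c := by group
        rwa [this]
      · have hlj : l ≠ j := fun e => hj (e ▸ hl)
        exact mul_mem (inv_mem (h.fr.WjC l j hlj ((h.fr.blk j).ZV hw))) (h1 l hl)
  obtain ⟨u, hu, h1⟩ := key (Finset.univ.erase i) (Finset.notMem_erase _ _)
  have h2 : u⁻¹ * v = 1 := by
    refine h.fr.C0 _ (h.fr.ZJV (mul_mem (inv_mem (hleJ hu)) hvJ)) fun j => ?_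
    by_cases hj : j = i
    · subst hj
      exact mul_mem (inv_mem (hle hu)) hv
    · exact h1 j (Finset.mem_erase.2 ⟨hj, Finset.mem_univ _⟩)
  rw [← inv_mul_eq_one.1 h2]
  exact hu

/-- A `B`-invariant subgroup of `V_P` which meets the `Z l`, `l ≠ j`, trivially lies in `W j (Z_J ∩ C j)`. -/
theorem E_le {j : ι} {E : Subgroup G} (hE : E ≤ zl (S : Subgroup G) P) (hB : B ≤ normalizer (E : Set G))
    (hZ : ∀ l, l ≠ j → E ⊓ Z l = ⊥) : E ≤ W j ⊔ (ZJ ⊓ C j) := by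
  intro x hx
  obtain ⟨w, hw, c, hc, e⟩ := h.fr.WC j x (hE hx)
  refine e ▸ mul_mem (mem_sup_left hw) (mem_sup_right (mem_inf.2 ⟨?_, hc⟩))
  refine (h.fr.mem_ZJ c).2 ⟨h.fr.CV j hc, fun b hb => ?_⟩
  have hu : b * c * b⁻¹ * c⁻¹ = 1 := by
    refine h.fr.C0 _ ?_ fun i => ?_
    · have h1 := h.fr.CV j (h.fr.BC j b hb c hc)
      exact mul_mem h1 (inv_mem (h.fr.CV j hc))
    · by_cases hij : i = j
      · subst hij
        exact mul_mem (h.fr.BC i b hb c hc) (inv_mem hc)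
      · -- the component of `x`
        obtain ⟨w', hw', c', hc', e'⟩ := h.fr.WC i x (hE hx)
        have hwZ : w' ∈ Z i := by
          by_contra hnot
          obtain ⟨z, hz, hz1⟩ : ∃ z ∈ Z i, z ≠ 1 := by
            by_contra hcon
            push Not at hcon
            exact h.Z_ne i ((eq_bot_iff_forall _).2 hcon)
          obtain ⟨b', hb', hbC, hbe⟩ := h.root i w' hw' hnot z hz
          have h1 : c' * b' = b' * c' := mem_centralizer_iff.1 hbC c' hc'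
          have h2 : b' * x * b'⁻¹ * x⁻¹ = z := by
            have e2 : b' * (w' * c') * b'⁻¹ * (w' * c')⁻¹ = b' * w' * (c' * b'⁻¹ * c'⁻¹) * w'⁻¹ := by group
            have e3 : c' * b'⁻¹ * c'⁻¹ = b'⁻¹ := by
              have e4 : c' * b'⁻¹ * c'⁻¹ = (c' * b' * c'⁻¹)⁻¹ := by group
              rw [e4, h1, mul_inv_cancel_right]
            rw [e', e2, e3]
            exact hbe
          have h3 : z ∈ E ⊓ Z i := by
            refine mem_inf.2 ⟨?_, hz⟩
            rw [← h2]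
            exact mul_mem ((mem_normalizer_iff.1 (hB hb') x).1 hx) (inv_mem hx)
          rw [hZ i hij, mem_bot] at h3
          exact hz1 h3
        have hwi : w⁻¹ * c' ∈ C i := mul_mem (inv_mem (h.fr.WjC i j hij hw)) hc'
        have hc2 : c = w' * (w⁻¹ * c') := by
          have h5 : c = w⁻¹ * x := by rw [e]; group
          have h6 : w⁻¹ * w' = w' * w⁻¹ :=
            h.fr.Vc (inv_mem (h.fr.WV j hw)) (h.fr.WV i hw')
          rw [h5, e', ← mul_assoc, h6, mul_assoc]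
        have h7 : b * w' = w' * b := (h.fr.blk i).cZ b hb w' hwZ
        have h8 := h.fr.BC i b hb _ hwi
        have h9 : b * c * b⁻¹ * c⁻¹ = w' * ((b * (w⁻¹ * c') * b⁻¹) * (w⁻¹ * c')⁻¹) * w'⁻¹ := by
          rw [hc2]
          calc b * (w' * (w⁻¹ * c')) * b⁻¹ * (w' * (w⁻¹ * c'))⁻¹
              = (b * w') * (w⁻¹ * c') * b⁻¹ * (w⁻¹ * c')⁻¹ * w'⁻¹ := by group
            _ = (w' * b) * (w⁻¹ * c') * b⁻¹ * (w⁻¹ * c')⁻¹ * w'⁻¹ := by rw [h7]
            _ = _ := by group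
        have h10 : (b * (w⁻¹ * c') * b⁻¹) * (w⁻¹ * c')⁻¹ ∈ C i := mul_mem h8 (inv_mem hwi)
        rw [h9, h.fr.Vc (h.fr.WV i hw') (h.fr.CV i h10), mul_inv_cancel_right]
        exact h10
  exact mul_inv_eq_iff_eq_mul.1 (mul_inv_eq_one.1 hu)

/-- the order of `E` -/
theorem E_card {j : ι} {E : Subgroup G} (hE : E ≤ W j ⊔ (ZJ ⊓ C j)) (h0 : E ⊓ (ZJ ⊓ C j) = ⊥) :
    Nat.card E ≤ 4 ∧ (Nat.card E = 4 → W j ≤ E ⊔ (ZJ ⊓ C j)) := by
  have hWV : W j ⊔ (ZJ ⊓ C j) ≤ zl (S : Subgroup G) P := sup_le (h.fr.WV j) (inf_le_left.trans h.fr.ZJV)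
  have hEV := hE.trans hWV
  have hJV : ZJ ⊓ C j ≤ zl (S : Subgroup G) P := inf_le_left.trans h.fr.ZJV
  have c1 := card_sup_comm (A := E) (B := ZJ ⊓ C j) fun a ha b hb => h.fr.Vc (hEV ha) (hJV hb)
  have c2 := card_sup_comm (A := W j) (B := ZJ ⊓ C j) fun a ha b hb => h.fr.Vc (h.fr.WV j ha) (hJV hb)
  have h1 : W j ⊓ (ZJ ⊓ C j) = ⊥ := by
    rw [eq_bot_iff, ← h.fr.dir j]
    exact inf_le_inf_left _ inf_le_right
  rw [h0, card_bot, mul_one] at c1
  rw [h1, card_bot, mul_one, (h.fr.blk j).card, h.fr.cardZ j] at c2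
  have hp : 0 < Nat.card ↥(ZJ ⊓ C j) := Nat.card_pos
  have hle : E ⊔ (ZJ ⊓ C j) ≤ W j ⊔ (ZJ ⊓ C j) := sup_le hE le_sup_right
  have c3 := Subgroup.card_le_of_le hle
  rw [c1, c2] at c3
  refine ⟨Nat.le_of_mul_le_mul_right c3 hp, fun h4 => ?_⟩
  have h5 : E ⊔ (ZJ ⊓ C j) = W j ⊔ (ZJ ⊓ C j) := by
    refine Subgroup.eq_of_le_of_card_ge hle ?_
    rw [c1, c2, h4]
  rw [h5]
  exact le_sup_left

end bg

namespace TS

variable {F : Type} [Field F] {B Y V D : Subgroup G} {k : ℕ} {M : NatC F B Y V D k} {Q K : Subgroup G} {z : G}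

omit [Finite G] in
/-- `|E1| = |F|^k` -/
theorem card_E {E : Subgroup G} (hE : E ≤ X0 M) (h0 : E ⊓ D = ⊥)
    (hc : ∀ v ∈ X0 M, ∃ c ∈ E, M.nat.e c = M.nat.e v) : Nat.card E = Nat.card F ^ k := by
  have h1 := card_of_hom (K := E) (L := ⊥) bot_le (fun v (i : Fin k) => M.nat.e v i 0) ?_ ?_ ?_
  · rw [h1, card_bot, one_mul, Nat.card_fun, Nat.card_fin]
  · intro x hx y hy
    funext i
    rw [M.nat.mul x (hE hx).1 y (hE hy).1]
    rfl
  · intro x
    obtain ⟨w, hw, ew⟩ := M.nat.surj fun i => ![x i, 0]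
    obtain ⟨c, hcE, ec⟩ := hc w ⟨hw, fun i => by rw [ew]; rfl⟩
    refine ⟨c, hcE, ?_⟩
    funext i
    rw [ec, ew]
    rfl
  · intro v hv
    constructor
    · intro h2
      rw [← h0]
      refine mem_inf.2 ⟨hv, ?_⟩
      rw [← M.nat.ker v (hE hv).1]
      funext i
      exact ext2 (congrFun h2 i) ((hE hv).2 i)
    · intro h2
      rw [mem_bot] at h2
      rw [h2, M.map_one]
      rfl

theorem exists_ne_two [Finite F] (h4 : 4 ≤ Nat.card F) (a b : F) : ∃ c : F, c ≠ a ∧ c ≠ b := by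
  classical
  have := Fintype.ofFinite F
  by_contra hcon
  push Not at hcon
  have h1 : (Finset.univ : Finset F) ⊆ {a, b} := fun c _ => by
    by_cases hc : c = a
    · simp [hc]
    · simp [hcon c hc]
  have h2 := Finset.card_le_card h1
  have h3 : ({a, b} : Finset F).card ≤ 2 := Finset.card_le_two
  rw [Finset.card_univ, ← Nat.card_eq_fintype_card] at h2
  omega

variable {S : Sylow 2 G} {P ZJ : Subgroup G} {ι : Type} {L W Z C : ι → Subgroup G} [CharP F 2]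

/-- **(d)** : one block, `|F| = 4`, `X0 = W j D`. -/
theorem one_of [Finite ι] [Finite F] (h : Bg S P B ZJ L W Z C 2) {j : ι} (t : TS M (o2 P) K z) (h4 : 4 ≤ Nat.card F)
    (hVQ : V ⊓ centralizer (o2 P : Set G) ≤ zl (S : Subgroup G) P) (hZD : ∀ l, l ≠ j → Z l ≤ D) :
    (∃ E1 : Subgroup G, E1 ≤ X0 M ∧ o2 P ≤ centralizer (E1 : Set G) ∧ E1 ⊓ D = ⊥ ∧ B ≤ normalizer (E1 : Set G) ∧
      ∀ v ∈ X0 M, ∃ c ∈ E1, M.nat.e c = M.nat.e v) ∧ k = 1 ∧ Nat.card F = 4 ∧ X0 M = W j ⊔ D := by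
  have hF : ∀ a : F, ∃ c : F, c ≠ 0 ∧ c ≠ a := fun a => exists_ne_two h4 0 a
  obtain ⟨E1, hE, hEQ, hED, hEB, hEc⟩ := t.main hF (hF 1)
  have hEV : E1 ≤ zl (S : Subgroup G) P := fun x hx => hVQ ⟨(hE hx).1, (le_centralizer_iff.1 hEQ) hx⟩
  have hZ : ∀ l, l ≠ j → E1 ⊓ Z l = ⊥ := fun l hl => by
    rw [eq_bot_iff, ← hED]
    exact inf_le_inf_left _ (hZD l hl)
  have hJD : ZJ ⊓ C j ≤ D := (ZC_le h j).trans (iSup_le fun l => hZD l l.2)
  have h1 := E_le h hEV hEB hZ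
  have h2 : E1 ⊓ (ZJ ⊓ C j) = ⊥ := by
    rw [eq_bot_iff, ← hED]
    exact inf_le_inf_left _ hJD
  obtain ⟨h3, h5⟩ := E_card h h1 h2
  have hk : 0 < k := M.pos
  have hcard := card_E (M := M) hE hED hEc
  have hk1 : k = 1 := by
    by_contra hne
    have hk2 : 2 ≤ k := by omega
    have h6 : 4 ^ 2 ≤ Nat.card F ^ k :=
      (Nat.pow_le_pow_left h4 2).trans (Nat.pow_le_pow_right (by omega) hk2)
    omega
  have hc4 : Nat.card F = 4 := by
    rw [hk1, pow_one] at hcard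
    omega
  have hE4 : Nat.card E1 = 4 := by rw [hcard, hk1, pow_one, hc4]
  have h6 := h5 hE4
  refine ⟨⟨E1, hE, hEQ, hED, hEB, hEc⟩, hk1, hc4, le_antisymm ?_ (sup_le ?_ (D_le_X0 M))⟩
  · intro v hv
    obtain ⟨c, hc, ec⟩ := hEc v hv
    have h7 := div_mem M hv.1 (hE hc).1 ec.symm
    have h8 : v = v * c⁻¹ * c := by group
    rw [h8]
    refine mul_mem (mem_sup_right h7) ?_
    exact (h1.trans (sup_le le_sup_left (hJD.trans le_sup_right))) hc
  · exact h6.trans (sup_le hE (hJD.trans (D_le_X0 M)))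

end TS

end Cfsg.Agent.Omega.CaseLQ.Torus

end

section


/-!
# The weird parabolics of the case (L), `q = 2`: the torus (#25080 (d)), the instance

* `ts_of` : the situation `TS` of `Torus.lean` from `WY S P B Y`, `KSh S P Y U K 𝒜`, `NatKM .. k` and the maximality of
  `|DX S P Y|` (no `Bg`: it serves natural blocks and `S₅`);
* `TS.up_of` : `O₂(P)` acts inside the root groups;
* `nat_of` : **(d)** over `MulL .. 2`: the field `nat` of `TorP` (`WY/Tor/Lit.lean`).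
-/

set_option autoImplicit false
set_option linter.unusedSectionVars false

namespace Cfsg.Agent.Omega.CaseLQ.Torus

open Subgroup Cfsg Cfsg.Agent.ZN Cfsg.Agent.ZN.ChoiceBase
open Cfsg.Agent.ZN.ChoiceSit (Syl syl_conj)
open Cfsg.Agent.MinSimple.MinParabolic (IsMinPar)
open Cfsg.Agent.MinSimple.VModule (oddGen oddGen_le mem_oddGen)
open Cfsg.Agent.Omega.FFThm (NatK NatKM ActsSL OffM)
open Cfsg.Agent.Omega.FrameFF (cv)
open Cfsg.Agent.Omega.NO1.BestOff (Best)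
open Cfsg.Agent.Omega.NO3b.Wc (WC)
open Cfsg.Agent.Omega.NO3b.K0 (conj_mem' cj_of_le cj_self min_or)
open Cfsg.Agent.Omega.NO3S.NotFF (le_normalizer_of_forall)
open Cfsg.Agent.Omega.NO3S.Fld (kmod mem_kmod norm_kmod kmod_le)
open Cfsg.Agent.Omega.SQ1.FFOne (MinH syl_inf mem_norm_of)
open Cfsg.Agent.Omega.NatPair (ap ap_zero' ap_one' ap_one ap_mul ap_add ext2 ap_inv_ap ap_inj)
open Cfsg.Agent.Omega.NO3S.OneLine (NatC natC_of)
open Cfsg.Agent.Omega.NO3S.EThree.Frame (Bg Fg)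
open Cfsg.Agent.Omega.NO3S.Level
open Cfsg.Agent.Omega.NO3S.RedC
open Cfsg.Agent.Omega.NO3S.WY
open Cfsg.Agent.Omega.Node.MulX (MulL)
open Cfsg.Agent.Lib.SL2Mat

universe u

variable {G : Type u} [Group G] [Finite G]

/-! ### `C_B(V / D) = O₂(Y)` -/

theorem odd_not {B Y : Subgroup G} (hs : Syl B Y) (mv : ¬ Y ≤ centralizer (zc B : Set G)) :
    ¬ oddGen Y ≤ centralizer (zl B Y : Set G) := by
  intro h0
  apply mv
  rw [← NO3b.EZero.oddGen_sup_syl hs]
  exact sup_le (h0.trans (centralizer_le SQ1.VOf.zc_le_zl)) (NO3S.Level.le_centralizer_zc _)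

/-- `C_B(V / C_V(O²(Y))) ≤ O₂(Y)` (749's `OY.cap'`) -/
theorem capD {B Y : Subgroup G} (hm : MinH Y B) (hmin : IsMinPar B Y) (mv : ¬ Y ≤ centralizer (zc B : Set G)) {x : G}
    (hx : x ∈ B) (h : ∀ v ∈ zl B Y, x * v * x⁻¹ * v⁻¹ ∈ cv B Y) : x ∈ o2 Y := by
  have hs := hm.syl
  have YV : Y ≤ normalizer (zl B Y : Set G) := MinSimple.VModule.le_normalizer_zl B Y
  have hD : Y ≤ normalizer (cv B Y : Set G) := le_normalizer_of_forall fun g hg d hd => SQ1.FFOf.cv_norm g hg d hd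
  rcases min_or hs hmin (K := kmod Y (zl B Y) (cv B Y) YV hD) kmod_le (norm_kmod _ _) with h2 | h2
  · refine absurd ?_ (odd_not hs mv)
    have hcl : oddGen Y = closure {x : G | x ∈ Y ∧ Odd (orderOf x)} := rfl
    rw [hcl, closure_le]
    rintro g ⟨hg, ho⟩
    have hgo : g ∈ oddGen Y := mem_oddGen hg ho
    refine mem_centralizer_iff.2 fun v hv => ?_
    have h3 := (mem_kmod.1 (h2 hgo)).2 v hv
    set d := g * v * g⁻¹ * v⁻¹ with hd
    have hgd : g * d = d * g := mem_centralizer_iff.1 h3.2 g hgo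
    have h4 : ∀ n : ℕ, g ^ n * v * (g ^ n)⁻¹ = d ^ n * v := by
      intro n
      induction n with
      | zero => simp
      | succ n ih =>
        have e1 : g ^ (n + 1) * v * (g ^ (n + 1))⁻¹ = g * (g ^ n * v * (g ^ n)⁻¹) * g⁻¹ := by
          rw [pow_succ']; group
        have e2 : g * (d ^ n * v) * g⁻¹ = (g * d ^ n * g⁻¹) * (g * v * g⁻¹) := by group
        have e3 : g * d ^ n * g⁻¹ = d ^ n := by
          have : Commute g (d ^ n) := (show Commute g d from hgd).pow_right n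
          rw [this.eq, mul_inv_cancel_right]
        have e4 : g * v * g⁻¹ = d * v := by rw [hd]; group
        rw [e1, ih, e2, e3, e4, pow_succ, ← mul_assoc]
    have h5 := h4 (orderOf g)
    rw [pow_orderOf_eq_one, one_mul, inv_one, mul_one] at h5
    have h6 : d ^ orderOf g = 1 := (mul_eq_right.1 h5.symm)
    have h7 : d ^ 2 = 1 := SQ1.VOf.MinH.sq hm d h3.1
    obtain ⟨r, hr⟩ := ho
    rw [hr, pow_succ, pow_mul, h7, one_pow, one_mul] at h6
    have e5 : g * v = d * v * g := by rw [hd]; group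
    rw [e5, h6, one_mul]
  · exact h2 ⟨hx, mem_kmod.2 ⟨hs.1 hx, h⟩⟩

/-! ### The instance of `TS` -/

section ts

variable {S : Sylow 2 G} {P B Y U K : Subgroup G} {𝒜 : Set (Subgroup G)} {F : Type} [Field F] [Finite F] [CharP F 2]
  {k : ℕ}

/-- `K` consists of upper unitriangular elements. -/
theorem K_up (wy : WY S P B Y) (ks : KSh S P Y U K 𝒜) (Uc : U ≤ centralizer (U : Set G)) (VU : zl B Y ≤ U)
    (N : NatKM F B Y (zl B Y) (cv B Y) k) (hk : 0 < k) {M : NatC F B Y (zl B Y) (cv B Y) k}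
    (hM : M.nat = N.toNatK) : K ≤ TS.UX M := by
  rw [ks.eq]
  have hAB : ∀ A ∈ 𝒜, A ≤ B := fun A hA => (ks.leP A hA).trans wy.QT
  have hm : MinH Y B := SQ1.FFOne.minH_of wy.syl wy.min wy.c2
  refine sup_le ?_ (sSup_le fun A hA => ?_)
  · refine (DX_le_X _ _ _).trans fun x hx => ?_
    have hxY : x ∈ Y := wy.T_Y (wy.o2Y_T hx)
    exact TS.CY_le_UX M (mem_inf.2 ⟨hxY, mem_centralizer_iff.2 fun v hv => (M.VcQ x hx v hv).symm⟩)
  · intro a ha
    have haY : a ∈ Y := wy.T_Y (hAB A hA ha)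
    rcases best_or Uc VU (ks.best A hA) with h1 | h1
    · exact TS.CY_le_UX M (mem_inf.2 ⟨haY, h1 ha⟩)
    · obtain ⟨I, h2, -⟩ := N.offM A (hAB A hA) h1
      obtain ⟨b, -, hb⟩ := h2 a ha
      exact ⟨haY, b, by rw [hM]; exact hb⟩

/-- `K` induces all upper unitriangular elements. -/
theorem K_full (wy : WY S P B Y) (ks : KSh S P Y U K 𝒜) (Uc : U ≤ centralizer (U : Set G)) (VU : zl B Y ≤ U)
    (N : NatKM F B Y (zl B Y) (cv B Y) k) (hk : 0 < k) {M : NatC F B Y (zl B Y) (cv B Y) k}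
    (hM : M.nat = N.toNatK) (b : Fin k → F) : ∃ t ∈ K, ActsSL M.nat.e (zl B Y) (cv B Y) t fun i => up (b i) := by
  classical
  have hm : MinH Y B := SQ1.FFOne.minH_of wy.syl wy.min wy.c2
  have hAB : ∀ A ∈ 𝒜, A ≤ B := fun A hA => (ks.leP A hA).trans wy.QT
  have hKup := K_up wy ks Uc VU N hk hM
  have hBS : B ≤ (S : Subgroup G) := wy.TS
  have hBY : B ≤ Y := wy.T_Y
  have hcap : B ⊓ centralizer (zl B Y : Set G) ≤ o2 Y := fun x hx => by
    refine capD hm wy.min wy.mv hx.1 fun v hv => ?_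
    rw [mem_centralizer_iff.1 hx.2 v hv |>.symm, mul_inv_cancel_right, mul_inv_cancel]
    exact one_mem _
  -- a member which moves `V`
  obtain ⟨A, hA, hAY⟩ := ks.exists_act
  have hAc : ¬ A ≤ centralizer (zl B Y : Set G) := fun hc => hAY ((le_inf (hAB A hA) hc).trans hcap)
  have hAoff : OffM (zl B Y) A := (best_or Uc VU (ks.best A hA)).resolve_left hAc
  obtain ⟨I, h1, h2⟩ := N.offM A (hAB A hA) hAoff
  rw [← hM] at h1 h2
  -- `I` is not empty
  obtain ⟨i₀, hi₀⟩ : I.Nonempty := by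
    by_contra hcon
    rw [Set.not_nonempty_iff_eq_empty] at hcon
    apply hAc
    intro a ha
    obtain ⟨b, hb0, hb⟩ := h1 a ha
    have hb1 : b = 0 := by
      funext l
      exact hb0 l (by rw [hcon]; simp)
    subst hb1
    have hs : a ∈ M.stab := by
      refine ⟨hBY (hAB A hA ha), fun w hw l => ?_, hb.2⟩
      have h5 : M.nat.e (a * w * a⁻¹) l = ap (up ((0 : Fin k → F) l)) (M.nat.e w l) := hb.1 w hw l
      rw [Pi.zero_apply, up_zero] at h5
      exact h5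
    exact mem_centralizer_iff.2 fun w hw => (M.cent_of_stab hm hs hw).symm
  -- the additive subgroup of the induced elements
  let R : AddSubgroup (Fin k → F) :=
    { carrier := {b | ∃ t ∈ K, ActsSL M.nat.e (zl B Y) (cv B Y) t fun i => up (b i)}
      add_mem' := by
        rintro b c ⟨t, ht, htb⟩ ⟨s, hs, hsc⟩
        refine ⟨t * s, mul_mem ht hs, ?_, fun d hd => ?_⟩
        · have h3 := NatC.acts_mul (M := M) (hBY (wy.QT (ks.le hs))) htb.1 hsc.1
          have e : ((fun i => up (b i)) * fun i => up (c i)) = fun i => up ((b + c) i) := by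
            funext i
            rw [Pi.mul_apply, up_mul, Pi.add_apply]
          rwa [e] at h3
        · have e1 : Commute t d := htb.2 d hd
          have e2 : Commute s d := hsc.2 d hd
          exact (e1.mul_left e2).eq
      zero_mem' := ⟨1, one_mem _, by
        have h3 := NatC.acts_one (M := M)
        have e : (1 : Fin k → Matrix.SpecialLinearGroup (Fin 2) F) = fun i => up ((0 : Fin k → F) i) := by
          funext i
          rw [Pi.zero_apply, up_zero, Pi.one_apply]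
        rwa [e] at h3, fun d _ => by simp⟩
      neg_mem' := by
        rintro b ⟨t, ht, htb⟩
        refine ⟨t⁻¹, inv_mem ht, ?_, fun d hd => ?_⟩
        · have h3 := NatC.acts_inv (M := M) (hBY (wy.QT (ks.le ht))) htb.1
          have e : (fun i => up (b i))⁻¹ = fun i => up ((-b) i) := by
            funext i
            rw [Pi.inv_apply, up_inv, Pi.neg_apply]
          rwa [e] at h3
        · have e1 : Commute t d := htb.2 d hd
          exact e1.inv_left.eq }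
  -- the single elements
  have hsing : ∀ i (x : F), Pi.single i x ∈ R := by
    intro i x
    obtain ⟨s, hs, hst⟩ := M.nat.trans i₀ i
    have hA' : cj s A ∈ 𝒜 := ks.conj A hA s (hBS hs)
    have hsY := hBY hs
    -- an element of `A` which acts on the block `i₀` only
    obtain ⟨a, ha, haa⟩ := h2 (Pi.single i₀ 1) fun l hl => by
      rw [Pi.single_eq_of_ne]
      rintro rfl
      exact hl hi₀
    have haY := hBY (hAB A hA ha)
    obtain ⟨v, hv, hev⟩ := M.nat.surj fun _ => ![0, 1]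
    have hav := M.Vn a haY v hv
    set w := a * v * a⁻¹ * v⁻¹ with hw
    have hwV : w ∈ zl B Y := mul_mem hav (inv_mem hv)
    have hw0 : M.nat.e w i₀ ≠ 0 := by
      have h3 : M.nat.e (a * v * a⁻¹) i₀ = ap (up ((Pi.single i₀ 1 : Fin k → F) i₀)) (M.nat.e v i₀) := haa.1 v hv i₀
      rw [hw, M.map_div hav hv, Pi.sub_apply, h3, Pi.single_eq_same, hev]
      intro h4
      have h5 := congrFun h4 0
      rw [Pi.sub_apply, ap_zero', up_00, up_01] at h5
      simp at h5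
    have hsw0 : M.nat.e (s * w * s⁻¹) i ≠ 0 := fun h3 => hw0 ((hst w hwV).1 h3)
    -- the conjugate offender acts on the block `i`
    have hA'c : ¬ cj s A ≤ centralizer (zl B Y : Set G) := by
      intro hc
      apply hsw0
      have h3 : s * a * s⁻¹ ∈ cj s A := ⟨a, ha, rfl⟩
      have h4 := mem_centralizer_iff.1 (hc h3) _ (M.Vn s hsY v hv)
      have h5 : s * w * s⁻¹ = 1 := by
        calc s * w * s⁻¹ = (s * a * s⁻¹) * (s * v * s⁻¹) * (s * a * s⁻¹)⁻¹ * (s * v * s⁻¹)⁻¹ := by rw [hw]; group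
          _ = 1 := by rw [← h4]; group
      rw [h5, M.map_one]
      rfl
    obtain ⟨I', h1', h2'⟩ := N.offM (cj s A) (hAB _ hA') ((best_or Uc VU (ks.best _ hA')).resolve_left hA'c)
    rw [← hM] at h1' h2'
    have hi : i ∈ I' := by
      by_contra hi
      apply hsw0
      have h3 : s * a * s⁻¹ ∈ cj s A := ⟨a, ha, rfl⟩
      obtain ⟨c, hc0, hc⟩ := h1' _ h3
      have hsv := M.Vn s hsY v hv
      have h4 : M.nat.e ((s * a * s⁻¹) * (s * v * s⁻¹) * (s * a * s⁻¹)⁻¹) i =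
        ap (up (c i)) (M.nat.e (s * v * s⁻¹) i) := hc.1 _ hsv i
      have h5 := M.Vn _ (hBY (hAB _ hA' h3)) _ hsv
      have h6 : s * w * s⁻¹ = (s * a * s⁻¹) * (s * v * s⁻¹) * (s * a * s⁻¹)⁻¹ * (s * v * s⁻¹)⁻¹ := by rw [hw]; group
      rw [h6, M.map_div h5 hsv, Pi.sub_apply, h4, hc0 i hi, up_zero, ap_one, sub_self]
    obtain ⟨t, ht, hta⟩ := h2' (Pi.single i x) fun l hl => by
      rw [Pi.single_eq_of_ne]
      rintro rfl
      exact hl hi
    exact ⟨t, ks.mem_le hA' ht, hta⟩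
  have h3 : b ∈ R := by
    have h4 : b = ∑ i, Pi.single i (b i) := (Finset.univ_sum_single b).symm
    rw [h4]
    exact sum_mem fun i _ => hsing i (b i)
  exact h3

/-- **The situation `TS`.** -/
theorem ts_of (wy : WY S P B Y) (ks : KSh S P Y U K 𝒜) (Uc : U ≤ centralizer (U : Set G)) (VU : zl B Y ≤ U)
    (N : NatKM F B Y (zl B Y) (cv B Y) k) (hk : 0 < k) {M : NatC F B Y (zl B Y) (cv B Y) k}
    (hM : M.nat = N.toNatK) {z : G} (hz : z ∈ zc B) (hzD : z ∉ cv B Y)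
    (mx : ∀ Y' : Subgroup G, WY S P B Y' → Y' ≤ Y → (∃ y ∈ Y', y * z ≠ z * y) →
      Nat.card (DX (S : Subgroup G) P Y') ≤ Nat.card (DX (S : Subgroup G) P Y)) : TS M (o2 P) K z := by
  have hm : MinH Y B := SQ1.FFOne.minH_of wy.syl wy.min wy.c2
  have hBS : B ≤ (S : Subgroup G) := wy.TS
  have hBY : B ≤ Y := wy.T_Y
  have hup := K_up wy ks Uc VU N hk hM
  have hPS : (S : Subgroup G) ≤ P := wy.parP.le
  exact
    { hm := hm
      min := wy.min
      QB := wy.QT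
      BQ := (hBS.trans hPS).trans (ZN.le_normalizer_o2 _)
      KQ := ks.le
      KR := hup.trans (TS.UX_le M)
      KM := K_full wy ks Uc VU N hk hM
      Kc := by
        have hc : K ≤ centralizer (X0 M : Set G) := by
          rw [ks.eq]
          refine sup_le ?_ (sSup_le fun A hA => ?_)
          · exact fun x hx => mem_centralizer_iff.2 fun v hv =>
              (M.VcQ x (DX_le_X _ _ _ hx) v (X0_le M hv)).symm
          · intro a ha
            refine mem_centralizer_iff.2 fun v hv => ?_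
            refine (cent_natL hm N hk Uc VU ((ks.leP A hA).trans wy.QT) (ks.best A hA) hv.1 (fun i => ?_) ha).symm
            have := hv.2 i
            rwa [hM] at this
        exact hc
      zV := SQ1.VOf.zc_le_zl hz
      zB := fun b hb => (ChoiceBase.mem_zc.1 hz).2.2 b hb
      zD := hzD
      NB := inf_le_right.trans (WC.norm_le wy.cl.wc wy.QT hBS)
      Kw := fun R h1 h2 => WC.norm_le ks.wc h1 (h2.trans hBS)
      mp := by
        intro Y' hY' hYY hYK hmv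
        have hBY' : B ≤ Y' := hY'.le
        have hsyl : Syl B Y' := ⟨hBY', hm.syl.2.1, fun R hR hR2 hBR => hm.syl.2.2 R (hR.trans hYY) hR2 hBR⟩
        by_cases hQ : o2 P ≤ o2 Y'
        · exact (ZN.le_normalizer_o2 _).trans
            (WC.norm_le wy.cl.wc hQ ((ChoiceSit.o2_le_syl hsyl).trans hBS))
        · exfalso
          have hKB : K ≤ B := ks.le.trans wy.QT
          have hK2 : IsPGroup 2 K := hm.syl.2.1.to_le hKB
          have hKo : K ≤ o2 Y' := MinSimple.VModule.le_o2 (hKB.trans hBY') hK2 hYK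
          have hoo : o2 Y ≤ o2 Y' := MinSimple.VModule.le_o2 (wy.o2Y_T.trans hBY')
            (hm.syl.2.1.to_le wy.o2Y_T) (hYY.trans (ZN.le_normalizer_o2 _))
          have hwy : WY S P B Y' := WY.of_mv wy.cl hBS wy.QT hsyl hY'
            (le_trans (inf_le_inf hYY (centralizer_le hoo)) (wy.c2.trans hoo))
            (fun hc => by
              obtain ⟨y, hy, hne⟩ := hmv
              exact hne ((mem_centralizer_iff.1 (hc hy) z hz).symm))
            hQ ((wy.jD.trans ks.DX_le).trans hKo)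
          have h1 := mx Y' hwy hYY hmv
          have h2 := ks.card_lt_of_le hKo
          omega }

end ts

end Cfsg.Agent.Omega.CaseLQ.Torus

end

section


/-!
# The weird parabolics of the case (L), `q = 2`: the torus (#25080 (d)), the field `nat` of `TorP`

* `TS.up_of` : `O₂(P)` acts on `V` inside the product of the root groups;
* `nat_of` : **(d)** over `MulL .. 2`: one block, `|F| = 4`, the line is `V_j`.
-/

set_option autoImplicit false
set_option linter.unusedSectionVars false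

namespace Cfsg.Agent.Omega.CaseLQ.Torus

open Subgroup Cfsg Cfsg.Agent.ZN Cfsg.Agent.ZN.ChoiceBase
open Cfsg.Agent.ZN.ChoiceSit (Syl syl_conj)
open Cfsg.Agent.MinSimple.MinParabolic (IsMinPar)
open Cfsg.Agent.MinSimple.VModule (oddGen oddGen_le mem_oddGen)
open Cfsg.Agent.Omega.FFThm (NatK NatKM ActsSL OffM)
open Cfsg.Agent.Omega.FrameFF (cv)
open Cfsg.Agent.Omega.NO1.BestOff (Best)
open Cfsg.Agent.Omega.NO3b.Wc (WC)
open Cfsg.Agent.Omega.SQ1.FFOne (MinH syl_inf mem_norm_of)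
open Cfsg.Agent.Omega.NatPair (ap ap_zero' ap_one' ap_one ap_mul ap_add ext2 ap_inv_ap ap_inj)
open Cfsg.Agent.Omega.NO3S.OneLine (NatC natC_of)
open Cfsg.Agent.Omega.NO3S.EThree.Frame (Bg Fg)
open Cfsg.Agent.Omega.NO3S.Level
open Cfsg.Agent.Omega.NO3S.RedC
open Cfsg.Agent.Omega.NO3S.WY
open Cfsg.Agent.Omega.Node.MulX (MulL)
open Cfsg.Agent.Lib.SL2Mat

universe u

variable {G : Type u} [Group G] [Finite G]

section up

variable {F : Type} [Field F] [CharP F 2] {B Y V D : Subgroup G} {k : ℕ} {M : NatC F B Y V D k} {Q K : Subgroup G}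
  {z : G}

/-- **`Q` acts inside the root groups.** -/
theorem TS.up_of (t : TS M Q K z) (cap : ∀ x ∈ B, (∀ v ∈ V, x * v * x⁻¹ * v⁻¹ ∈ D) → x ∈ o2 Y) {E1 : Subgroup G}
    (hE : E1 ≤ X0 M) (hEQ : Q ≤ centralizer (E1 : Set G)) (hEc : ∀ v ∈ X0 M, ∃ c ∈ E1, M.nat.e c = M.nat.e v)
    {c : G} (hc : c ∈ Q) : ∃ b : Fin k → F, ActsSL M.nat.e V D c fun i => up (b i) := by
  classical
  have hcT := t.QB hc
  have hcH := t.BY hcT
  have hV : ∀ g ∈ Y, ∀ v ∈ V, g * v * g⁻¹ ∈ V := M.Vn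
  -- the elements on the lines
  have hz : ∀ i (x : F), ∃ z ∈ E1, M.nat.e z i = ![x, 0] ∧ ∀ j, j ≠ i → M.nat.e z j = 0 := by
    intro i x
    obtain ⟨w, hw, ew⟩ := M.nat.surj (Pi.single i ![x, 0])
    obtain ⟨c, hc, ec⟩ := hEc w ⟨hw, fun j => by
      rw [ew]
      by_cases hj : j = i
      · subst hj; rw [Pi.single_eq_same]; rfl
      · rw [Pi.single_eq_of_ne hj]; rfl⟩
    refine ⟨c, hc, by rw [ec, ew, Pi.single_eq_same], fun j hj => by rw [ec, ew, Pi.single_eq_of_ne hj]⟩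
  obtain ⟨σ, hσ⟩ := M.nat.perm c hcH
  have hcz : ∀ z ∈ E1, c * z * c⁻¹ = z := fun z hz => by
    have h3 := mem_centralizer_iff.1 (hEQ hc) z hz
    rw [← h3, mul_inv_cancel_right]
  have hσi : ∀ i, σ i = i := by
    intro i
    obtain ⟨z, hzZ, hz1, hz2⟩ := hz i 1
    by_contra hne
    have h3 := (hσ z (hE hzZ).1 i).1 (by rw [hcz z hzZ]; exact hz2 _ hne)
    rw [hz1] at h3
    have h5 := congrFun h3 0
    simp at h5
  have hcV : ∀ v ∈ V, c * v * c⁻¹ ∈ V := hV c hcH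
  have hs : ∀ i (x : Fin 2 → F), ∃ v ∈ V, M.nat.e v i = x := fun i x => by
    obtain ⟨v, hv, hev⟩ := M.nat.surj fun _ => x
    exact ⟨v, hv, by rw [hev]⟩
  choose r hr hrx using hs
  have hdiv : ∀ v ∈ V, ∀ w ∈ V, M.nat.e (v * w⁻¹) = M.nat.e v - M.nat.e w := fun v hv w hw => M.map_div hv hw
  have hφ : ∀ i, ∀ v ∈ V, M.nat.e (c * v * c⁻¹) i = M.nat.e (c * r i (M.nat.e v i) * c⁻¹) i := by
    intro i v hv
    have hw := hr i (M.nat.e v i)
    have h3 : M.nat.e (v * (r i (M.nat.e v i))⁻¹) i = 0 := by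
      rw [hdiv v hv _ hw, Pi.sub_apply, hrx, sub_self]
    have h4 := (hσ _ (mul_mem hv (inv_mem hw)) i).2 h3
    rw [hσi] at h4
    have e1 : c * (v * (r i (M.nat.e v i))⁻¹) * c⁻¹ = (c * v * c⁻¹) * (c * r i (M.nat.e v i) * c⁻¹)⁻¹ := by group
    rw [e1, hdiv _ (hcV v hv) _ (hcV _ hw), Pi.sub_apply] at h4
    exact sub_eq_zero.1 h4
  have hb : ∀ i, ∃ b : F, ∀ x, M.nat.e (c * r i x * c⁻¹) i = ap (up b) x := by
    intro i
    refine exists_up_of_fix (fun x => M.nat.e (c * r i x * c⁻¹) i) ?_ ?_ ?_ ?_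
    · intro x y
      have h3 := hφ i _ (mul_mem (hr i x) (hr i y))
      rw [M.nat.mul _ (hr i x) _ (hr i y), Pi.add_apply, hrx, hrx] at h3
      show M.nat.e (c * r i (x + y) * c⁻¹) i = _
      rw [← h3]
      have e1 : c * (r i x * r i y) * c⁻¹ = (c * r i x * c⁻¹) * (c * r i y * c⁻¹) := by group
      rw [e1, M.nat.mul _ (hcV _ (hr i x)) _ (hcV _ (hr i y))]
      rfl
    · intro x
      obtain ⟨z, hzZ, hz1, -⟩ := hz i x
      have h3 := hφ i z (hE hzZ).1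
      rw [hz1, hcz z hzZ, hz1] at h3
      exact h3.symm
    · intro A
      obtain ⟨g, hg, hgA⟩ := M.nat.lift fun _ => A
      obtain ⟨B, hB⟩ := M.nat.norm c hcH g hg (fun _ => A) hgA.1
      refine ⟨B i, fun x => ?_⟩
      have h3 := hgA.1 (r i x) (hr i x) i
      rw [hrx] at h3
      have hgr := hV g hg _ (hr i x)
      have h4 := hφ i _ hgr
      rw [h3] at h4
      show M.nat.e (c * r i (ap A x) * c⁻¹) i = ap (B i) (M.nat.e (c * r i x * c⁻¹) i)
      have e1 : c * (g * r i x * g⁻¹) * c⁻¹ = c * g * c⁻¹ * (c * r i x * c⁻¹) * (c * g * c⁻¹)⁻¹ := by group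
      rw [← h4, ← hB _ (hcV _ (hr i x)) i, e1]
    · obtain ⟨n, hn⟩ := t.hm.syl.2.1 ⟨c, hcT⟩
      have hn' : c ^ 2 ^ n = 1 := congrArg Subtype.val hn
      have hit : ∀ l : ℕ, ∀ v ∈ V, (fun x => M.nat.e (c * r i x * c⁻¹) i)^[l] (M.nat.e v i) =
          M.nat.e (c ^ l * v * (c ^ l)⁻¹) i := by
        intro l
        induction l with
        | zero => intro v _; simp
        | succ l ih =>
          intro v hv
          have h5 := hV _ (pow_mem hcH l) v hv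
          have e1 : c * (c ^ l * v * (c ^ l)⁻¹) * c⁻¹ = c ^ (l + 1) * v * (c ^ (l + 1))⁻¹ := by
            rw [pow_succ']
            group
          rw [Function.iterate_succ_apply', ih v hv]
          show M.nat.e (c * r i (M.nat.e (c ^ l * v * (c ^ l)⁻¹) i) * c⁻¹) i = _
          rw [← hφ i _ h5, e1]
      refine ⟨n, fun x => ?_⟩
      have h3 := hit (2 ^ n) (r i x) (hr i x)
      rw [hn', one_mul, inv_one, mul_one, hrx] at h3
      exact h3
  choose b hb using hb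
  obtain ⟨e0, he0, hact⟩ := t.KM b
  have heY := t.BY (t.KB he0)
  have hxo : e0⁻¹ * c ∈ o2 Y := by
    refine cap _ (mul_mem (inv_mem (t.KB he0)) hcT) fun v hv => ?_
    have hxY : e0⁻¹ * c ∈ Y := mul_mem (inv_mem heY) hcH
    have hw := hV _ hxY v hv
    rw [← M.nat.ker _ (mul_mem hw (inv_mem hv)), hdiv _ hw _ hv, sub_eq_zero]
    funext i
    have h3 := hact.1 _ hw i
    have e1 : e0 * (e0⁻¹ * c * v * (e0⁻¹ * c)⁻¹) * e0⁻¹ = c * v * c⁻¹ := by group
    rw [e1, hφ i v hv, hb] at h3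
    have h4 := congrArg (ap (up (b i))⁻¹) h3
    rw [ap_inv_ap, ap_inv_ap] at h4
    exact h4.symm
  refine ⟨b, fun v hv i => ?_, fun d hd => ?_⟩
  · rw [hφ i v hv, hb]
  · have e1 : Commute (e0⁻¹ * c) d := M.VcQ _ hxo d (M.DV hd)
    have e2 : Commute e0 d := hact.2 d hd
    have e3 := e2.mul_left e1
    have e4 : e0 * (e0⁻¹ * c) = c := by group
    rw [e4] at e3
    exact e3.eq

end up

/-! ### Over `MulL` -/

section mul

variable {S : Sylow 2 G} {P B ZJ Y U K : Subgroup G} {m : ℕ} {L W Z C A : Fin m → Subgroup G} {j : Fin m}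
  {𝒜 : Set (Subgroup G)}

/-- `Y` moves `Z j`. -/
theorem exists_z (h : MulL S P B ZJ L W Z C A 2) (wj : WJ S P B Z j Y) :
    ∃ z ∈ Z j, z ∈ zc B ∧ z ∉ cv B Y := by
  have hzc : zc B = ZJ := h.fr.zcB
  by_contra hcon
  push Not at hcon
  apply wj.mv
  have hZ : ∀ z ∈ Z j, z ∈ centralizer (Y : Set G) := by
    intro z hz
    have hzB : z ∈ zc B := by rw [hzc]; exact h.fr.Z_le j hz
    have h1 := hcon z hz hzB
    have h2 : z ∈ centralizer ((oddGen Y ⊔ B : Subgroup G) : Set G) := by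
      have h3 : oddGen Y ⊔ B ≤ centralizer ((zpowers z : Subgroup G) : Set G) := by
        refine sup_le ?_ ?_
        · rw [le_centralizer_iff]
          exact (zpowers_le (H := centralizer (oddGen Y : Set G))).2 h1.2
        · rw [le_centralizer_iff]
          refine (zpowers_le (H := centralizer (B : Set G))).2 (mem_centralizer_iff.2 fun b hb => ?_)
          exact (ChoiceBase.mem_zc.1 hzB).2.2 b hb
      exact (le_centralizer_iff.1 h3) (mem_zpowers z)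
    rwa [NO3b.EZero.oddGen_sup_syl wj.syl] at h2
  rw [hzc]
  rw [le_centralizer_iff]
  intro x hx
  obtain ⟨w, hw, c, hc, hcJ, rfl⟩ := h.fr.split_ZJ j hx
  refine mul_mem (hZ w hw) ?_
  have h4 := ZC_le h.bg j (mem_inf.2 ⟨hcJ, hc⟩)
  refine (iSup_le fun l => ?_ : (⨆ l : {l : Fin m // l ≠ j}, Z l) ≤ centralizer (Y : Set G)) h4
  rw [le_centralizer_iff]
  exact wj.cen l l.2

/-- **(d) of #25080**: one natural block over `F₄`, the line is `V_j`, `O₂(P)` acts inside the root group. -/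
theorem nat_of (h : MulL S P B ZJ L W Z C A 2) (wj : WJ S P B Z j Y) (ks : KSh S P Y U K 𝒜)
    (Uc : U ≤ centralizer (U : Set G)) (VU : zl B Y ≤ U) {F : Type} [Field F] [Finite F] [CharP F 2] {k : ℕ}
    (N : NatKM F B Y (zl B Y) (cv B Y) k) (hk : 0 < k) (h4 : 4 ≤ Nat.card F)
    (mx : ∀ Y' : Subgroup G, WJ S P B Z j Y' →
      Nat.card (DX (S : Subgroup G) P Y') ≤ Nat.card (DX (S : Subgroup G) P Y)) :
    ∃ (F : Type) (_ : Field F) (_ : Finite F) (_ : CharP F 2) (N : NatKM F B Y (zl B Y) (cv B Y) 1),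
      Nat.card F = 4 ∧ (∀ v ∈ zl B Y, N.e v 0 1 = 0 ↔ v ∈ W j ⊔ cv B Y) ∧
        ∀ q ∈ o2 P, ∃ b : F, ActsSL N.e (zl B Y) (cv B Y) q fun _ => up b := by
  have wy : WY S P B Y := wj.toWY
  have hm : MinH Y B := SQ1.FFOne.minH_of wy.syl wy.min wy.c2
  obtain ⟨z, hzj, hz, hzD⟩ := exists_z h wj
  have t : TS (natC_of hm hk N.toNatK) (o2 P) K z := by
    refine ts_of wy ks Uc VU N hk rfl hz hzD fun Y' hY' hYY hmv => mx Y' ?_
    exact { hY' with cen := fun l hl => hYY.trans (wj.cen l hl) }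
  have hVQ : zl B Y ⊓ centralizer (o2 P : Set G) ≤ zl (S : Subgroup G) P := by
    have h1 : zl B Y ≤ zc (DX (S : Subgroup G) P Y) := ZN.zl_le wy.zcT_le_V (wy.Y_le.trans (GX_norm _ _ _))
    rw [← wy.cvQ]
    exact inf_le_inf_right _ h1
  have hZD : ∀ l, l ≠ j → Z l ≤ cv B Y := by
    intro l hl
    have h1 : Z l ≤ zl B Y := by
      refine le_trans ?_ SQ1.VOf.zc_le_zl
      rw [h.fr.zcB]
      exact h.fr.Z_le l
    refine le_inf h1 ?_
    rw [le_centralizer_iff]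
    exact (oddGen_le Y).trans (wj.cen l hl)
  obtain ⟨⟨E1, hE, hEQ, -, -, hEc⟩, rfl, hc4, hX⟩ := TS.one_of h.bg t h4 hVQ hZD
  refine ⟨F, inferInstance, inferInstance, inferInstance, N, hc4, fun v hv => ?_, fun q hq => ?_⟩
  · rw [← hX]
    constructor
    · intro h0
      refine ⟨hv, fun i => ?_⟩
      rw [Subsingleton.elim i 0]
      exact h0
    · intro h0
      exact h0.2 0
  · obtain ⟨b, hb⟩ := t.up_of (fun x hx hxD => capD hm wy.min wy.mv hx hxD) hE hEQ hEc hq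
    refine ⟨b 0, fun v hv i => ?_, hb.2⟩
    have := hb.1 v hv i
    rw [Subsingleton.elim i 0] at this ⊢
    exact this

end mul

end Cfsg.Agent.Omega.CaseLQ.Torus

end

section


/-!
# NoW, `q = 2`, (ii) version 2 (#25080): `MulL`, `WJ`, `Mx` give (TOR')

* `torP_of` : `MulL S P B ZJ L W Z C A 2`, `WJ S P B Z j Y`, `Mx S P B ZJ Z Y` : `TorP S P B ZJ L W Z C A j Y`;
* **`torOf : InfOf.TorOf K`**.
-/

set_option autoImplicit false
set_option linter.unusedSectionVars false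

namespace Cfsg.Agent.Omega.CaseLQ.TorFin

open Subgroup Cfsg Cfsg.Agent.ZN Cfsg.Agent.ZN.ChoiceBase Cfsg.Agent.Omega.MinPar Cfsg.Agent.Omega.Frame
open Cfsg.Agent.ZN.ChoiceSit (Syl)
open Cfsg.Agent.Omega.NO3S.Level
open Cfsg.Agent.Omega.NO3S.RedC
open Cfsg.Agent.Omega.NO3S.WY Cfsg.Agent.Omega.NO3S.WY.Sel
open Cfsg.Agent.Omega.NO3S.CaseLW.YBX (Xc mem_Xc Xc_le Concl)
open Cfsg.Agent.Omega.OM
open Cfsg.Agent.Omega.FFThm (OffM ElemM NoOverM StmtM NatKM)
open Cfsg.Agent.Omega.FrameFF (cv)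
open Cfsg.Agent.Omega.NO1.BestOff (Best)
open Cfsg.Agent.Omega.Node.MulX (MulL KX)
open Cfsg.Agent.Omega.CaseLQ Cfsg.Agent.Omega.CaseLQ.PsiYB Cfsg.Agent.Omega.CaseLQ.TwoFr
open Cfsg.Agent.Omega.CaseLQ.TwoAbs Cfsg.Agent.Omega.CaseLQ.TorOf

universe u

/-- a finite field of characteristic 2 with an element `≠ 0, 1` has at least 4 elements -/
theorem four_le {F : Type} [Field F] [Finite F] [CharP F 2] (h : ∃ x : F, x ≠ 0 ∧ x ≠ 1) : 4 ≤ Nat.card F := by
  classical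
  obtain ⟨x, h0, h1⟩ := h
  have : Fintype F := Fintype.ofFinite F
  obtain ⟨n, -, hn⟩ := FiniteField.card F 2
  rw [Nat.card_eq_fintype_card, hn]
  have h3 : 2 < Fintype.card F := by
    have h4 : ({0, 1, x} : Finset F).card = 3 := by
      rw [Finset.card_eq_three]
      exact ⟨0, 1, x, zero_ne_one, h0.symm, h1.symm, rfl⟩
    have h5 := Finset.card_le_univ ({0, 1, x} : Finset F)
    omega
  rw [hn] at h3
  have h6 : 2 ≤ (n : ℕ) := by
    by_contra hcon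
    have h7 : (n : ℕ) ≤ 1 := by omega
    have h8 : 2 ^ (n : ℕ) ≤ 2 ^ 1 := Nat.pow_le_pow_right (by norm_num) h7
    omega
  calc 4 = 2 ^ 2 := by norm_num
    _ ≤ 2 ^ (n : ℕ) := Nat.pow_le_pow_right (by norm_num) h6

section

variable {G : Type u} [Group G] [Finite G] {S : Sylow 2 G} {P B ZJ : Subgroup G} {k : ℕ}
  {L W Z C A : Fin k → Subgroup G}

/-- **(TOR')** -/
theorem torP_of (h : MulL S P B ZJ L W Z C A 2) {j : Fin k} {Y : Subgroup G} (wj : WJ S P B Z j Y)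
    (mx : Mx S P B ZJ Z Y) : TorP S P B ZJ L W Z C A j Y := by
  have hFF : StmtM.{u} := NOThreeL.StarEnd.stmtM
  have m := InstTwo.lmd h wj
  obtain ⟨WU, ΛU, cen, hex⟩ := InstTwo.exists_E h wj hFF
  set H : Subgroup G := L j ⊔ Y with hH
  set U : Subgroup G := ZN.zl B H with hU
  have fb := h.fr.blk j
  have ZU : zc B ≤ U := (zT h j).trans (sup_le ΛU (fb.ZV.trans WU))
  have s : YS U H B Y := ys_of m wj.toWY ZU
  obtain ⟨z, hz, z1⟩ : ∃ z ∈ Z j, z ≠ 1 := by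
    by_contra hcon
    push Not at hcon
    exact h.bg.Z_ne j (eq_bot_iff.2 fun x hx => mem_bot.2 (hcon x hx))
  have CQ : U ⊓ centralizer (o2 P : Set G) ≤ zl (S : Subgroup G) P := m.toLoc.cUQ
  have pj : PJ B (o2 P) (W j) U z := pj_of_bg h.bg WU CQ hz z1
  have YΛ : Y ≤ centralizer (Lm Z j : Set G) := cenLm wj.cen
  have frg : ∀ {κ : Type} [Finite κ] {Ni c : κ → Subgroup G}, Concl B Y U (Fam U H B) Ni c →
      PsiT.FrG (Xc U (Fam U H B)) B (o2 P) (W j) z (Lm Z j) Ni c := by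
    intro κ _ Ni c hc
    have hΛ : ∀ l, Lm Z j ≤ Ni l := fun l x hx => hc.cen x (ΛU hx) (fun A hA y hy a ha => by
      have h1 : y * a * y⁻¹ ∈ Y := mul_mem (mul_mem hy (s.TY (hA.1 ha))) (inv_mem hy)
      exact ((mem_centralizer_iff.1 (YΛ h1)) x hx).symm) l
    have nz : ∃ i, z ∉ Ni i := by
      obtain ⟨l, hl⟩ := hc.ex
      refine ⟨l, fun hzl => hl ((zT h j).trans (sup_le (hΛ l) fun x hx => ?_))⟩
      rcases eq_z h.bg hz z1 hx with rfl | rfl
      · exact one_mem _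
      · exact hzl
    exact frG_of_pj pj hc.yb (Xc_le _ _) (VX_of WU cen) nz fun l x hx _ => hΛ l hx
  have hCB : ∀ u ∈ U, u ∈ centralizer (B : Set G) → u ∈ Lm Z j ∨ u * z⁻¹ ∈ Lm Z j := by
    intro u hu huB
    have h1 : u ∈ Lm Z j ⊔ Z j := zT h j (m.toLoc.cUT ⟨hu, huB⟩)
    have hcom : ∀ a ∈ Lm Z j, ∀ b ∈ Z j, a * b = b * a := fun a ha b hb =>
      s.U_mul a (ΛU ha) b (WU (fb.ZV hb))
    obtain ⟨a, ha, b, hb, rfl⟩ := SQ1.Bau.mem_sup_comm hcom h1
    rcases eq_z h.bg hz z1 hb with rfl | rfl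
    · left; rwa [mul_one]
    · right; rwa [mul_inv_cancel_right]
  have hPL : Lm Z j ≤ centralizer (L j : Set G) := le_centralizer_iff.1 (InstTwo.L_Lam h)
  have hmv : ∃ p ∈ L j, p * z * p⁻¹ ≠ z := by
    by_contra hcon
    push Not at hcon
    have h1 : L j ≤ normalizer (Z j : Set G) := by
      refine le_trans (fun p hp => ?_) (centralizer_le_normalizer _)
      rw [mem_centralizer_iff]
      intro x hx
      rcases eq_z h.bg hz z1 hx with rfl | rfl
      · group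
      · exact (mul_inv_eq_iff_eq_mul.1 (hcon p hp)).symm
    obtain ⟨v, hv, hvZ⟩ := Psi.exists_v h.bg j
    exact hvZ (InstB.W_le fb le_rfl h1 hv)
  obtain ⟨F, _, _, _, n, hn, hF, ⟨N⟩⟩ := TvTwo.nat_four s hFF frg cen hex WU (le_sup_left : L j ≤ H) fb.BL
    (InstB.norm_C fb) hCB hPL hmv
  have noV : NoOverM (zl B Y) Y := by
    obtain ⟨E, hEB, hE, hEY⟩ := hex
    have hEF : E ∈ Fam U H B := ⟨hEB, Or.inl hE⟩
    have hne : ¬ E ≤ centralizer (zl B Y : Set G) := fun h => hEY ((le_inf hEB h).trans s.cap)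
    exact (hFF G B Y s.syl s.min s.c2 ⟨E, hEB.trans s.TY,
      NO3S.OneLine.BFam.offM (bfam (U := U) (H := H) (T := B) (s.TY.trans s.YH)) s.U_mul s.VU hEF hne⟩).1
  obtain ⟨⟨K, 𝒜, ks⟩, fam⟩ := ksh_of h wj m WU ΛU cen hex noV N hn
  exact
    { mul := h
      wj := wj
      fam := fam
      nat := Torus.nat_of h wj ks m.Uc s.VU N hn (four_le hF) fun Y' hY' => mx.wj h j Y' hY' }

end

/-- **(ii) of #25080.** -/
theorem torOf {K : Cls.{u}} : InfOf.TorOf K := by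
  intro G _ _ _ S P B ZJ k L W Z C A _ hM _ j Y hw hx
  exact torP_of hM hw hx

end Cfsg.Agent.Omega.CaseLQ.TorFin

end

end
end

-- part: Mrg/Omega/Lie/End/RSNode_mg
section

end

-- part: Mrg/Omega/IId/SymWrD/SylN/OfFr
section
prune_inst 0x80102004402200000000000080003c42d2000102006b0001f140000405ce9d4300048f21f0a00b1201202a24003c0060034c00490020000000008200411c0481042210028008a00021000040f802000000000000000000000000000000041000000000000
set_option linter.all false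
open scoped Cfsg.Agent.FastGrp

section


/-!
# II.d, `SwCv`, T-T, `D` arbitrary: LEMMA 1_D, LEMMA 2_D for the frame `SymWrD.Ht.Fr`
-/

set_option autoImplicit false

namespace Cfsg.Agent.Omega.IId.SymWrD

open Subgroup Cfsg Cfsg.Agent.Omega.FFThm

universe u

variable {G : Type u} [Group G] {P V D : Subgroup G} {k m : ℕ}

/-- `SD` from 916's frame -/
theorem SD.of_fr [Finite G] {S : Sylow 2 G} {M : SymK (S : Subgroup G) P V ⊥ k m} (h : Ht.Fr S P V D M) :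
    SD S P V M where
  toSit := h.toSit
  c2 := h.char2
  QP _ _ hpq hne := h.Qle hpq hne
  Qpp _ _ hpq hne _ hx := h.Qpp hpq hne hx
  VQ _ _ hpq hne := h.V_le hpq hne
  par _ _ hpq hne := by
    obtain ⟨w, hw, -, hwp⟩ := h.exists_w hpq hne
    exact ⟨w, hw, hwp⟩

end Cfsg.Agent.Omega.IId.SymWrD

end

section


/-!
# II.d, `SwCv`, T-T: tools for `O₂(C_G(σ_i d)) ≤ S0`, `m = 2` (bb OMEGA #22419)

* `swap_zz` : the action on `Ω₁Z(O₂(P))` of an element inducing a transposition;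
* `coreDuad` : `w` normalising `S0` and acting trivially on it outside `J` centralises the duads `{c, μ c}`, `c ∉ J`;
* `SD.c2` : `y ∈ Q ∩ O₂(C_G(r))`, `[y, Q] = ⟨a⟩`, `r ∈ Ω₁Z(Q_p)` ⟹ `K_p` centralises `a`;
* `SD.DD_zc` : `DD M ≤ Ω₁Z(Q_p)`.
-/

set_option autoImplicit false
set_option linter.unusedSectionVars false

namespace Cfsg.Agent.Omega.IId.SymWrD.AlphaA

open Subgroup Pointwise Cfsg Cfsg.Agent.Omega.MinPar Cfsg.Agent.Omega.FFThm
open Cfsg.Agent.ZN (o2 zc)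
open Cfsg.Agent.Omega.IId.SwB (S0 mem_S0 S0_le S0_fst S0_comm Q_le_S0 syl_S0 exists_in)
open Cfsg.Agent.Omega.IId.SymWrD.Ht (DD mem_DD)
open Cfsg.Agent.Omega.Half.SymA (Pt E Mv pm Amb0)
open Cfsg.Agent.MinSimple.VModule (mem_zc zc_le le_normalizer_o2 o2_isPGroup o2_le)
open Triangle (KK KK_conj KK_le_o2 mem_cent mem_KK mem_zpowers_iff_of_sq cent_conj o2_cent_conj)
open Big (cz qz conj_mem norm_of conj_of_comm comm_of_conj le_o2_of)

universe u

variable {G : Type u} [Group G] {P V : Subgroup G} {k m : ℕ} {S : Sylow 2 G} {M : SymK (S : Subgroup G) P V ⊥ k m}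

section sit

variable (h : Sit S P V M)
include h

seal _root_.Cfsg.Agent.Omega.IId.SymWrD.pp in
/-- an element of `S0` acting as `(c μ(c))` -/
theorem exists_tau [Finite G] {μ ν : Equiv.Perm (Pt k m)} (F : Fours M μ ν) (c : Pt k m) :
    ∃ s ∈ S0 h, pp M s = Equiv.swap c (μ c) := by
  have hmem : Equiv.swap c (μ c) ∈ F.FA := by
    intro y
    by_cases h1 : y = c
    · rw [h1, Equiv.swap_apply_left]; exact Or.inr rfl
    by_cases h2 : y = μ c
    · rw [h2, Equiv.swap_apply_right, F.msq]; exact Or.inr rfl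
    · rw [Equiv.swap_apply_of_ne_of_ne h1 h2]; exact Or.inl rfl
  obtain ⟨s, hs, e⟩ := Fours.exists_A h F hmem
  refine ⟨s, (mem_S0 h).2 ⟨hs.1, fun r => ?_⟩, e⟩
  rw [e]
  by_cases h1 : r = c
  · rw [h1, Equiv.swap_apply_left, F.mfst]
  by_cases h2 : r = μ c
  · rw [h2, Equiv.swap_apply_right, F.mfst]
  · rw [Equiv.swap_apply_of_ne_of_ne h1 h2]

theorem mem_zc_of {z : G} (hz : z * z = 1) (hQ : ∀ y ∈ o2 P, y * z = z * y) : z ∈ zc (o2 P) :=
  mem_zc.2 ⟨h.cQ (mem_centralizer_iff.2 hQ), hQ, by rw [pow_two]; exact hz⟩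

seal _root_.Cfsg.Agent.Omega.IId.SymWrD.pp in
/-- the action of an element inducing `(p q)` on `V` -/
theorem conj_swap {g : G} (hgP : g ∈ P) {p q : Pt k m} (hpq : p.1 = q.1) (hg : pp M g = Equiv.swap p q) {v : G}
    (hv : v ∈ V) (hE : E M v p ≠ E M v q) : g * v * g⁻¹ = v * pr M p q := by
  refine Half.SymA.inj M (h.amb.conj_mem hgP hv) (mul_mem hv (pr_mem M _ _)) fun r => ?_
  have hne : p ≠ q := fun e => hE (by rw [e])
  rw [E_conj' hgP hv, Half.SymA.E_mul M hv (pr_mem M _ _), E_pr M hpq, hg, Equiv.swap_inv]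
  have key : ∀ x y : ZMod 2, x ≠ y → y = x + 1 := by decide
  by_cases e1 : r = p
  · rw [e1, Equiv.swap_apply_left, if_pos rfl, if_neg hne, add_zero]
    exact key _ _ hE
  by_cases e2 : r = q
  · rw [e2, Equiv.swap_apply_right, if_pos rfl, if_neg hne.symm, zero_add]
    exact key _ _ hE.symm
  · rw [Equiv.swap_apply_of_ne_of_ne e1 e2, if_neg e1, if_neg e2, add_zero, add_zero]

seal _root_.Cfsg.Agent.Omega.IId.SymWrD.pp in
theorem comm_swap {g : G} (hgP : g ∈ P) {p q : Pt k m} (hg : pp M g = Equiv.swap p q) {v : G}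
    (hv : v ∈ V) (hE : E M v p = E M v q) : g * v = v * g := by
  rw [h.comm_iff hgP hv]
  intro r
  rw [hg]
  by_cases e1 : r = p
  · rw [e1, Equiv.swap_apply_left, hE]
  by_cases e2 : r = q
  · rw [e2, Equiv.swap_apply_right, hE]
  · rw [Equiv.swap_apply_of_ne_of_ne e1 e2]

theorem swap_fst' {p q : Pt k m} (hpq : p.1 = q.1) (r : Pt k m) : (Equiv.swap p q r).1 = r.1 := by
  by_cases h1 : r = p
  · rw [h1, Equiv.swap_apply_left, hpq]
  by_cases h2 : r = q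
  · rw [h2, Equiv.swap_apply_right, hpq]
  · rw [Equiv.swap_apply_of_ne_of_ne h1 h2]

seal _root_.Cfsg.Agent.Omega.IId.SymWrD.pp in
/-- the action on `ZZ` of an element inducing `(p q)` -/
theorem swap_zz (zv : zc (o2 P) ≤ V ⊔ DD M) {g : G} (hgP : g ∈ P) {p q : Pt k m} (hpq : p.1 = q.1)
    (hg : pp M g = Equiv.swap p q) {z : G} (hz : z ∈ zc (o2 P)) : g * z * g⁻¹ = z ∨ g * z * g⁻¹ = z * pr M p q := by
  obtain ⟨v, hv, d, hd, rfl⟩ := Ht.RD.zz_dec' h (zv hz)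
  have hgd : g * d * g⁻¹ = d := by
    rw [(mem_DD.1 hd).2 g hgP fun r => ?_, mul_inv_cancel_right]
    rw [hg]; exact swap_fst' h hpq r
  have e : g * (v * d) * g⁻¹ = g * v * g⁻¹ * d := by
    calc g * (v * d) * g⁻¹ = g * v * g⁻¹ * (g * d * g⁻¹) := by group
      _ = g * v * g⁻¹ * d := by rw [hgd]
  rw [e]
  by_cases hE : E M v p = E M v q
  · left
    rw [comm_swap h hgP hg hv hE, mul_inv_cancel_right]
  · right
    rw [conj_swap h hgP hpq hg hv hE, mul_assoc, mul_assoc,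
      Sit.zz_comm (h.VZ (pr_mem M p q)) (mem_DD.1 hd).1]

seal _root_.Cfsg.Agent.Omega.IId.SymWrD.pp in
/-- the centraliser of the duads -/
theorem coreDuad [Finite G] (zv : zc (o2 P) ≤ V ⊔ DD M) {μ ν : Equiv.Perm (Pt k m)} (F : Fours M μ ν)
    {J : Set (Fin k)} {w : G}
    (hw2 : ∀ s ∈ S0 h, w⁻¹ * s * w ∈ S0 h ∧ ∀ p : Pt k m, p.1 ∉ J → pp M (w⁻¹ * s * w) p = pp M s p) {c : Pt k m}
    (hc : c.2 ≠ 0) (hcJ : c.1 ∉ J) : w * pr M c (μ c) = pr M c (μ c) * w := by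
  have hμ := F.mfst c
  have hμne := F.mne c hc
  have hμ0 : (μ c).2 ≠ 0 := fun e => hc (F.mnz.1 e)
  obtain ⟨τ, hτ, hτp⟩ := exists_tau h F c
  have hτP := h.SP (S0_le h hτ)
  obtain ⟨v, hv⟩ : ∃ v, v = pr M (c.1, 0) c := ⟨_, rfl⟩
  have hvV : v ∈ V := by rw [hv]; exact pr_mem M _ _
  have hc0 : ((c.1, 0) : Pt k m) ≠ c := fun e => hc (by rw [← e])
  have hc0' : ((c.1, 0) : Pt k m) ≠ μ c := fun e => hμ0 (by rw [← e])
  have hpc : ((c.1, 0) : Pt k m).1 = c.1 := rfl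
  have hE : E M v c ≠ E M v (μ c) := by
    rw [hv, E_pr_right M hpc hc0, E_pr_of_ne M hpc hc0'.symm hμne]
    exact one_ne_zero
  have hvJ : ∀ p : Pt k m, p.1 ∈ J → E M v p = 0 := by
    intro p hp
    rw [hv]
    refine E_pr_of_ne M hpc (fun e => hcJ ?_) fun e => hcJ ?_
    · rw [e] at hp; exact hp
    · rw [e] at hp; exact hp
  have hτv := conj_swap h hτP hμ.symm hτp hvV hE
  obtain ⟨z, hz⟩ : ∃ z, z = w * v * w⁻¹ := ⟨_, rfl⟩
  have hzQ : ∀ g ∈ o2 P, g * z = z * g := fun g hg => by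
    rw [hz]
    exact Ht.RD.coreK h hw2 hvV hvJ (Q_le_S0 h hg) fun p _ => by rw [(h.mem_Q_iff (h.QS hg)).1 hg]; rfl
  have hzz : z ∈ zc (o2 P) := mem_zc_of h (by
    rw [hz]
    calc w * v * w⁻¹ * (w * v * w⁻¹) = w * (v * v) * w⁻¹ := by group
      _ = 1 := by rw [h.Vsq hvV]; group) hzQ
  obtain ⟨t1, t2⟩ := hw2 τ hτ
  obtain ⟨t, ht⟩ : ∃ t, t = w⁻¹ * τ * w := ⟨_, rfl⟩
  rw [← ht] at t1 t2
  have htP := h.SP (S0_le h t1)
  -- `τ⁻¹ t` commutes with `v`
  have h1 : τ⁻¹ * t * v = v * (τ⁻¹ * t) := by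
    rw [h.comm_iff (mul_mem (inv_mem hτP) htP) hvV]
    intro p
    rw [h.mul (inv_mem hτP) htP, h.inv hτP, Equiv.Perm.mul_apply]
    by_cases hp : p.1 ∈ J
    · rw [hvJ p hp, hvJ]
      have h2 : ((pp M τ)⁻¹ (pp M t p)).1 = (pp M t p).1 := by
        rw [hτp, Equiv.swap_inv]
        exact swap_fst' h hμ.symm _
      rw [h2, S0_fst h t1]
      exact hp
    · rw [t2 p hp, show (pp M τ)⁻¹ (pp M τ p) = p from (pp M τ).symm_apply_apply p]
  have h2 : t * v * t⁻¹ = v * pr M c (μ c) := by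
    rw [← hτv]
    calc t * v * t⁻¹ = τ * (τ⁻¹ * t * v) * t⁻¹ := by group
      _ = τ * v * τ⁻¹ := by rw [h1]; group
  have h3 : τ * z * τ⁻¹ = z * (w * pr M c (μ c) * w⁻¹) := by
    calc τ * z * τ⁻¹ = w * (t * v * t⁻¹) * w⁻¹ := by rw [hz, ht]; group
      _ = z * (w * pr M c (μ c) * w⁻¹) := by rw [h2, hz]; group
  have h4 : w * pr M c (μ c) * w⁻¹ ≠ 1 := by
    intro e
    have h5 : pr M c (μ c) = 1 := by
      calc pr M c (μ c) = w⁻¹ * (w * pr M c (μ c) * w⁻¹) * w := by group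
        _ = 1 := by rw [e]; group
    have h6 := E_pr_left M hμ.symm hμne.symm
    rw [h5, Half.SymA.E_one M] at h6
    exact zero_ne_one h6
  apply comm_of_conj
  rcases swap_zz h zv hτP hμ.symm hτp hzz with h5 | h5
  · rw [h5] at h3
    exact absurd (mul_eq_left.1 h3.symm) h4
  · rw [h5] at h3
    exact (mul_left_cancel h3).symm

end sit

section sd

variable [Finite G] (h : SD S P V M)
include h

seal _root_.Cfsg.Agent.Omega.IId.SymWrD.pp in
/-- **(C2)** (290's form of LEMMA 1): `y ∈ Q ∩ O₂(C_G(r))`, `r ∈ Ω₁Z(Q_p)`, `[y, Q] = ⟨a⟩` ⟹ `K_p` centralises `a`. -/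
theorem c2 {p q : Pt k m} (hpq : p.1 = q.1) (hne : p ≠ q) {r y a : G} (hr : r ∈ zc (qz (pr M p q)))
    (hyr : y ∈ qz r) (hyQ : y ∈ o2 P) (haa : a * a = 1)
    (hQ : ∀ x ∈ o2 P, x * y * x⁻¹ = y ∨ x * y * x⁻¹ = a * y) (hex : ∃ x ∈ o2 P, x * y * x⁻¹ = a * y) :
    ∀ w ∈ KK (pr M p q), pp M w = Equiv.swap p q → w * a = a * w := by
  intro w hw hwp
  by_contra hna
  have hwq := h.KK_le hpq hne hw
  have hwP := h.QP p q hpq hne hwq
  have hyp : y * pr M p q = pr M p q * y := h.QcV hyQ (pr_mem M p q)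
  have hpz : pr M p q ∈ zc (qz (pr M p q)) :=
    h.perp hpq hne (pr_mem M p q) (by rw [E_pr_left M hpq hne, E_pr_right M hpq hne])
  obtain ⟨x₀, hx₀, hx₀y⟩ := hex
  have ha1 : a ≠ 1 := fun e => hna (by rw [e]; group)
  have hai : a⁻¹ = a := inv_eq_of_mul_eq_one_left haa
  -- `[y, U_p] = 1`
  have s1 : ∀ u ∈ zc (qz (pr M p q)), y * u = u * y := by
    intro u hu
    rcases hQ u (h.zc_le_Q hpq hne hu) with h1 | h1
    · exact (comm_of_conj h1).symm
    · exfalso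
      have h2 : a ∈ zc (qz (pr M p q)) := by
        have h3 : a = u * (y * u⁻¹ * y⁻¹) := by
          calc a = (a * y) * y⁻¹ := by group
            _ = u * (y * u⁻¹ * y⁻¹) := by rw [← h1]; group
        rw [h3]
        exact mul_mem hu (zc_conj' hyp (inv_mem hu))
      exact hna ((mem_zc.1 h2).2.1 w hwq)
  -- `y ∈ Q_p`
  have hyq : y ∈ qz (pr M p q) := by
    obtain ⟨N, hN⟩ : ∃ N : Subgroup G, N = cz (pr M p q) ⊓ centralizer (zc (qz (pr M p q)) : Set G) := ⟨_, rfl⟩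
    obtain ⟨A, hA⟩ : ∃ A : Subgroup G, A = qz r ⊓ centralizer (zc (qz (pr M p q)) : Set G) := ⟨_, rfl⟩
    have hAN : A ≤ N := by
      rw [hA, hN]
      exact fun x hx => ⟨mem_cent.2 (mem_centralizer_iff.1 hx.2 _ hpz).symm, hx.2⟩
    have hNN : N ≤ normalizer (A : Set G) := by
      rw [hN, hA]
      apply norm_of
      rintro c ⟨hc1, hc2⟩ x ⟨hx1, hx2⟩
      refine ⟨conj_mem (le_normalizer_o2 (cz r)) (mem_cent.2 (mem_centralizer_iff.1 hc2 _ hr).symm) hx1, ?_⟩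
      exact (centralizer (zc (qz (pr M p q)) : Set G)).mul_mem (mul_mem hc2 hx2) (inv_mem hc2)
    have hNle : N ≤ cz (pr M p q) := by rw [hN]; exact inf_le_left
    have hNn : cz (pr M p q) ≤ normalizer (N : Set G) := by
      rw [hN]
      apply norm_of
      rintro c hc x ⟨hx1, hx2⟩
      refine ⟨(cz _).mul_mem ((cz _).mul_mem hc hx1) ((cz _).inv_mem hc), mem_centralizer_iff.2 fun u hu => ?_⟩
      have hu' : c⁻¹ * u * c⁻¹⁻¹ ∈ zc (qz (pr M p q)) := zc_conj' (mem_cent.1 (inv_mem hc)) hu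
      rw [inv_inv] at hu'
      have h2 := mem_centralizer_iff.1 hx2 _ hu'
      calc u * (c * x * c⁻¹) = c * ((c⁻¹ * u * c) * x) * c⁻¹ := by group
        _ = c * x * c⁻¹ * u := by rw [h2]; group
    have hA2 : IsPGroup 2 A := by
      rw [hA]
      exact (o2_isPGroup _).to_le inf_le_left
    have key : A ≤ qz (pr M p q) := le_o2_of hA2 hAN hNN hNle hNn
    apply key
    rw [hA]
    exact ⟨hyr, mem_centralizer_iff.2 fun c hc => (s1 c hc).symm⟩
  -- `a` is centralised by `Q`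
  have haQ : ∀ r ∈ o2 P, r * a = a * r := by
    intro r hr
    apply comm_of_conj
    have e1 : r * x₀ * y * (r * x₀)⁻¹ = (r * a * r⁻¹) * (r * y * r⁻¹) := by
      calc r * x₀ * y * (r * x₀)⁻¹ = r * (x₀ * y * x₀⁻¹) * r⁻¹ := by group
        _ = (r * a * r⁻¹) * (r * y * r⁻¹) := by rw [hx₀y]; group
    have hne' : r * a * r⁻¹ ≠ 1 := fun h0 => ha1 (by
      calc a = r⁻¹ * (r * a * r⁻¹) * r := by group
        _ = 1 := by rw [h0]; group)
    rcases hQ r hr with h1 | h1 <;> rcases hQ (r * x₀) (mul_mem hr hx₀) with h2 | h2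
    · exfalso
      rw [e1, h1] at h2
      exact hne' (mul_eq_right.1 h2)
    · rw [e1, h1] at h2
      exact mul_right_cancel h2
    · rw [e1, h1, ← mul_assoc] at h2
      have h3 := mul_eq_right.1 h2
      exact (eq_inv_of_mul_eq_one_left h3).trans hai
    · exfalso
      rw [e1, h1] at h2
      exact hne' (mul_eq_right.1 h2)
  obtain ⟨ρ, hρ, hρy⟩ : ∃ ρ ∈ V, w * y * w⁻¹ = ρ * y := by
    rcases h.KK_act hw hyq with h1 | h1
    · exact ⟨1, one_mem _, by rw [one_mul]; exact h1⟩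
    · exact ⟨_, pr_mem M p q, h1⟩
  have hx' : w * x₀ * w⁻¹ ∈ o2 P := h.nQ hwP hx₀
  have e1 : (w * x₀ * w⁻¹) * (ρ * y) * (w * x₀ * w⁻¹)⁻¹ = w * a * w⁻¹ * (ρ * y) := by
    calc (w * x₀ * w⁻¹) * (ρ * y) * (w * x₀ * w⁻¹)⁻¹
        = w * x₀ * w⁻¹ * (w * y * w⁻¹) * (w * x₀ * w⁻¹)⁻¹ := by rw [hρy]
      _ = w * (x₀ * y * x₀⁻¹) * w⁻¹ := by group
      _ = (w * a * w⁻¹) * (w * y * w⁻¹) := by rw [hx₀y]; group
      _ = w * a * w⁻¹ * (ρ * y) := by rw [hρy]
  have e2 : (w * x₀ * w⁻¹) * (ρ * y) * (w * x₀ * w⁻¹)⁻¹ =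
      ρ * ((w * x₀ * w⁻¹) * y * (w * x₀ * w⁻¹)⁻¹) := by
    calc (w * x₀ * w⁻¹) * (ρ * y) * (w * x₀ * w⁻¹)⁻¹
        = ((w * x₀ * w⁻¹) * ρ) * y * (w * x₀ * w⁻¹)⁻¹ := by group
      _ = ρ * ((w * x₀ * w⁻¹) * y * (w * x₀ * w⁻¹)⁻¹) := by rw [h.QcV hx' hρ]; group
  rw [e1] at e2
  have hρa : ρ * a = a * ρ := haQ ρ (h.V_le_Q hρ)
  apply hna
  rcases hQ _ hx' with h6 | h6
  · rw [h6] at e2
    have h8 := mul_eq_right.1 e2
    exfalso
    apply ha1
    calc a = w⁻¹ * (w * a * w⁻¹) * w := by group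
      _ = 1 := by rw [h8]; group
  · rw [h6] at e2
    have h8 : w * a * w⁻¹ * (ρ * y) = a * (ρ * y) := by
      rw [e2, ← mul_assoc, hρa, mul_assoc]
    exact comm_of_conj (mul_right_cancel h8)

end sd

end Cfsg.Agent.Omega.IId.SymWrD.AlphaA

end

section


/-!
# II.d, `SwCv`, T-T: `O₂(C_G(σ_i d)) ≤ S0`, `m = 2` (bb OMEGA #22419, helper666)

`i = x.1`, `d ∈ DD M` commuting with the elements of `S` fixing the summand `i`; `y = σ_i d`, `O = O₂(C_G(y))`.
-/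

set_option autoImplicit false
set_option linter.unusedSectionVars false

namespace Cfsg.Agent.Omega.IId.SymWrD.AlphaA

open Subgroup Pointwise Cfsg Cfsg.Agent.Omega.MinPar Cfsg.Agent.Omega.FFThm
open Cfsg.Agent.ZN (o2 zc)
open Cfsg.Agent.Omega.IId.SwB (S0 mem_S0 S0_le S0_fst S0_comm Q_le_S0 syl_S0 exists_in)
open Cfsg.Agent.Omega.IId.SymWrD.Ht (DD mem_DD)
open Cfsg.Agent.Omega.Half.SymA (Pt E Mv pm Amb0)
open Cfsg.Agent.MinSimple.VModule (mem_zc zc_le le_normalizer_o2 o2_isPGroup o2_le)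
open Triangle (KK KK_conj KK_le_o2 mem_cent mem_KK mem_zpowers_iff_of_sq cent_conj o2_cent_conj)
open Big (cz qz conj_mem norm_of conj_of_comm comm_of_conj le_o2_of)

universe u

variable {G : Type u} [Group G] {P V : Subgroup G} {k m : ℕ} {S : Sylow 2 G} {M : SymK (S : Subgroup G) P V ⊥ k m}

section letters

variable {μ ν : Equiv.Perm (Pt k m)}

/-- `m = 2`: the letters `≠ 0` of the summand of `c` -/
theorem letters (F : Fours M μ ν) (hm2 : m = 2) {c r : Pt k m} (hc : c.2 ≠ 0) (hr : r.1 = c.1) (hr0 : r.2 ≠ 0) :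
    r = c ∨ r = μ c ∨ r = ν c ∨ r = μ (ν c) := by
  classical
  by_contra hcon
  push Not at hcon
  obtain ⟨h1, h2, h3, h4⟩ := hcon
  have hν0 : (ν c).2 ≠ 0 := fun e => hc (F.nnz.1 e)
  have hμ0 : (μ c).2 ≠ 0 := fun e => hc (F.mnz.1 e)
  have hμν0 : (μ (ν c)).2 ≠ 0 := fun e => hν0 (F.mnz.1 e)
  have n1 : μ c ≠ c := F.mne c hc
  have n2 : ν c ≠ c := F.nne c hc
  have n3 : ν c ≠ μ c := F.nmu c hc
  have n4 : μ (ν c) ≠ c := fun e => n3 (by conv_rhs => rw [← e]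
                                           rw [F.msq])
  have n5 : μ (ν c) ≠ μ c := fun e => n2 (μ.injective e)
  have n6 : μ (ν c) ≠ ν c := F.mne _ hν0
  have key : ({(c.1, 0), c, μ c, ν c, μ (ν c), r} : Finset (Pt k m)).card ≤
      ((Finset.univ : Finset (Fin (2 ^ m + 1))).image (fun y => ((c.1, y) : Pt k m))).card := by
    refine Finset.card_le_card fun p hp => ?_
    refine Finset.mem_image.2 ⟨p.2, Finset.mem_univ _, Prod.ext ?_ rfl⟩
    simp only [Finset.mem_insert, Finset.mem_singleton] at hp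
    rcases hp with e | e | e | e | e | e
    · rw [e]
    · rw [e]
    · rw [e, F.mfst]
    · rw [e, F.nfst]
    · rw [e, F.mfst, F.nfst]
    · rw [e, hr]
  rw [Finset.card_image_of_injective _ (fun a b hab => (Prod.mk.inj hab).2), Finset.card_univ, Fintype.card_fin] at key
  have hz : ∀ {p : Pt k m}, p.2 ≠ 0 → ((c.1, 0) : Pt k m) ≠ p := fun hp e => hp (by rw [← e])
  rw [Finset.card_insert_of_notMem, Finset.card_insert_of_notMem, Finset.card_insert_of_notMem,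
    Finset.card_insert_of_notMem, Finset.card_insert_of_notMem, Finset.card_singleton] at key
  · rw [hm2] at key
    omega
  · rw [Finset.mem_singleton]; exact fun e => h4 e.symm
  · simp only [Finset.mem_insert, Finset.mem_singleton, not_or]
    exact ⟨n6.symm, fun e => h3 e.symm⟩
  · simp only [Finset.mem_insert, Finset.mem_singleton, not_or]
    exact ⟨n3.symm, n5.symm, fun e => h2 e.symm⟩
  · simp only [Finset.mem_insert, Finset.mem_singleton, not_or]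
    exact ⟨n1.symm, n2.symm, n4.symm, fun e => h1 e.symm⟩
  · simp only [Finset.mem_insert, Finset.mem_singleton, not_or]
    exact ⟨hz hc, hz hμ0, hz hν0, hz hμν0, hz hr0⟩

/-- `m = 2`: `σ_l` is the product of the two duads -/
theorem sg_eq (h : Sit S P V M) (F : Fours M μ ν) (hm2 : m = 2) {c : Pt k m} (hc : c.2 ≠ 0) :
    (sg h c.1).val = pr M c (μ c) * pr M (ν c) (μ (ν c)) := by
  classical
  have hν0 : (ν c).2 ≠ 0 := fun e => hc (F.nnz.1 e)
  have hμ0 : (μ c).2 ≠ 0 := fun e => hc (F.mnz.1 e)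
  have hμν0 : (μ (ν c)).2 ≠ 0 := fun e => hν0 (F.mnz.1 e)
  have n1 : μ c ≠ c := F.mne c hc
  have n2 : ν c ≠ c := F.nne c hc
  have n3 : ν c ≠ μ c := F.nmu c hc
  have n4 : μ (ν c) ≠ c := fun e => n3 (by conv_rhs => rw [← e]
                                           rw [F.msq])
  have n5 : μ (ν c) ≠ μ c := fun e => n2 (μ.injective e)
  have n6 : μ (ν c) ≠ ν c := F.mne _ hν0
  refine Half.SymA.inj M (sg_mem h c.1) (mul_mem (pr_mem M _ _) (pr_mem M _ _)) fun p => ?_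
  rw [Half.SymA.E_mul M (pr_mem M _ _) (pr_mem M _ _), E_sg, E_pr M (F.mfst c).symm, E_pr M (F.mfst (ν c)).symm]
  by_cases hp : p.1 = c.1
  · rw [if_pos hp]
    by_cases h0 : p.2 = 0
    · rw [if_pos h0, if_neg (fun e => hc (by rw [← e, h0])), if_neg (fun e => hμ0 (by rw [← e, h0])),
        if_neg (fun e => hν0 (by rw [← e, h0])), if_neg (fun e => hμν0 (by rw [← e, h0]))]
      decide
    · rw [if_neg h0]
      rcases letters F hm2 hc hp h0 with e | e | e | e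
      · rw [e, if_pos rfl, if_neg n1.symm, if_neg n2.symm, if_neg n4.symm]; decide
      · rw [e, if_neg n1, if_pos rfl, if_neg n3.symm, if_neg n5.symm]; decide
      · rw [e, if_neg n2, if_neg n3, if_pos rfl, if_neg n6.symm]; decide
      · rw [e, if_neg n4, if_neg n5, if_neg n6, if_pos rfl]; decide
  · rw [if_neg hp, if_neg (fun e => hp (by rw [e])), if_neg (fun e => hp (by rw [e, F.mfst])),
      if_neg (fun e => hp (by rw [e, F.nfst])), if_neg (fun e => hp (by rw [e, F.mfst, F.nfst]))]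
    decide

end letters

section main

variable [Finite G] (h : SD S P V M) (zv : zc (o2 P) ≤ V ⊔ DD M) {μ ν : Equiv.Perm (Pt k m)} (F : Fours M μ ν)
  (hm2 : m = 2) {x : Pt k m} (hx : x.2 ≠ 0) {d : G} (hd : d ∈ DD M)

include h hd

seal _root_.Cfsg.Agent.Omega.IId.SymWrD.pp in
/-- the elements of `P` in the summands commuting with `σ` normalise `O` -/
theorem hn : ∀ g ∈ P, (∀ p, (pp M g p).1 = p.1) → g * (sg h.toSit x.1).val = (sg h.toSit x.1).val * g →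
    g ∈ normalizer (qz ((sg h.toSit x.1).val * d) : Set G) := fun g hg hg1 hg2 =>
  le_normalizer_o2 _ (Ht.RD.mem_K h.toSit hd hg hg1 hg2)

seal _root_.Cfsg.Agent.Omega.IId.SymWrD.pp in
theorem act_out' {u : G} (hu : u ∈ qz ((sg h.toSit x.1).val * d)) (hu0 : u ∈ S0 h.toSit) {p : Pt k m}
    (hp : p.1 ≠ x.1) : pp M u p = p :=
  Ht.RD.act_out h.toSit (E_sg h.toSit x.1) (o2_isPGroup _) (sg_mem h.toSit x.1) (hn h hd) hu hu0 hp

seal _root_.Cfsg.Agent.Omega.IId.SymWrD.pp in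
theorem act_one' {u : G} (hu : u ∈ qz ((sg h.toSit x.1).val * d)) (hu0 : u ∈ S0 h.toSit) {a : Pt k m}
    (ha : a.1 = x.1) (ha0 : a.2 ≠ 0) (h1 : pp M u a = a) : pp M u = 1 :=
  Ht.RD.act_one h.toSit (E_sg h.toSit x.1) (o2_isPGroup _) (sg_mem h.toSit x.1) (hn h hd) hu hu0 ha ha0 h1

theorem S0_le_K : S0 h.toSit ≤ cz ((sg h.toSit x.1).val * d) := fun _ hs =>
  Ht.RD.mem_K h.toSit hd (h.SP (S0_le h.toSit hs)) (S0_fst h.toSit hs) (S0_comm h.toSit hs x.1)

include zv in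
/-- `O ∩ C(σ) ≤ S0` -/
theorem hOC : qz ((sg h.toSit x.1).val * d) ⊓ cz (sg h.toSit x.1).val ≤ S0 h.toSit := by
  refine Ht.RD.lemR_b h.toSit zv x.1 ((o2_isPGroup _).to_le inf_le_left) ?_
    (fun y hy hy0 p hp => act_out' h hd hy.1 hy0 hp) fun y hy => mem_centralizer_singleton_iff.1 hy.2
  apply norm_of
  rintro s hs y ⟨hy1, hy2⟩
  have h1 : s ∈ cz (sg h.toSit x.1).val := mem_centralizer_singleton_iff.2 (S0_comm h.toSit hs x.1)
  exact ⟨conj_mem (le_normalizer_o2 _) (S0_le_K h hd hs) hy1, (cz _).mul_mem ((cz _).mul_mem h1 hy2) ((cz _).inv_mem h1)⟩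

/-- the element `w` -/
theorem exists_w (hO : ¬ qz ((sg h.toSit x.1).val * d) ≤ S0 h.toSit) : ∃ w ∈ qz ((sg h.toSit x.1).val * d),
    w ∉ S0 h.toSit ∧ (∀ s ∈ S0 h.toSit, w * s * w⁻¹ ∈ S0 h.toSit) ∧ ∀ s ∈ S0 h.toSit, w⁻¹ * s * w ∈ S0 h.toSit := by
  have : Fact (Nat.Prime 2) := ⟨Nat.prime_two⟩
  have hnn : S0 h.toSit ≤ normalizer (qz ((sg h.toSit x.1).val * d) : Set G) :=
    (S0_le_K h hd).trans (le_normalizer_o2 _)
  have hS02 : IsPGroup 2 (S0 h.toSit) := S.isPGroup'.to_le (S0_le h.toSit)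
  have hX : IsPGroup 2 (S0 h.toSit ⊔ qz ((sg h.toSit x.1).val * d) : Subgroup G) :=
    hS02.to_sup_of_normal_right' (o2_isPGroup _) hnn
  have hlt : S0 h.toSit < S0 h.toSit ⊔ qz ((sg h.toSit x.1).val * d) := by
    refine lt_of_le_of_ne le_sup_left fun h3 => hO ?_
    rw [h3]
    exact le_sup_right
  obtain ⟨y, hy, hy1, hy2⟩ := Involutions.BaerSuzuki.exists_mem_normalizer_of_lt hX hlt
  obtain ⟨s₀, hs₀, w, hw, rfl⟩ := mem_sup_norm hnn hy
  have hwn : w ∈ normalizer (S0 h.toSit : Set G) := by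
    have h3 : w = s₀⁻¹ * (s₀ * w) := by group
    rw [h3]
    exact mul_mem (inv_mem (le_normalizer hs₀)) hy2
  refine ⟨w, hw, fun h3 => hy1 (mul_mem hs₀ h3), fun s hs => (mem_normalizer_iff.1 hwn s).1 hs, fun s hs => ?_⟩
  have := (mem_normalizer_iff.1 (inv_mem hwn) s).1 hs
  rwa [inv_inv] at this

section w

variable {w : G} (hwO : w ∈ qz ((sg h.toSit x.1).val * d)) (hw1 : ∀ s ∈ S0 h.toSit, w * s * w⁻¹ ∈ S0 h.toSit)
  (hw2 : ∀ s ∈ S0 h.toSit, w⁻¹ * s * w ∈ S0 h.toSit)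

include hwO hw2 in
/-- `[w, S0] ≤ O ∩ S0` -/
theorem comm_O {s : G} (hs : s ∈ S0 h.toSit) : s⁻¹ * (w⁻¹ * s * w) ∈ qz ((sg h.toSit x.1).val * d) ∧
    s⁻¹ * (w⁻¹ * s * w) ∈ S0 h.toSit := by
  refine ⟨?_, mul_mem (inv_mem hs) (hw2 s hs)⟩
  have h1 := conj_mem (le_normalizer_o2 _) (inv_mem (S0_le_K h hd hs)) (inv_mem hwO)
  rw [inv_inv] at h1
  have e : s⁻¹ * (w⁻¹ * s * w) = s⁻¹ * w⁻¹ * s * w := by group
  rw [e]
  exact mul_mem h1 hwO

seal _root_.Cfsg.Agent.Omega.IId.SymWrD.pp in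
include hwO hw2 in
theorem act_w {s : G} (hs : s ∈ S0 h.toSit) {p : Pt k m} (hp : p.1 ≠ x.1) : pp M (w⁻¹ * s * w) p = pp M s p := by
  obtain ⟨h1, h2⟩ := comm_O h hd hwO hw2 hs
  have e : w⁻¹ * s * w = s * (s⁻¹ * (w⁻¹ * s * w)) := by group
  rw [e, h.mul (h.SP (S0_le h.toSit hs)) (h.SP (S0_le h.toSit h2)), Equiv.Perm.mul_apply, act_out' h hd h1 h2 hp]

include hwO hw2 zv F in
/-- `w` centralises the duads outside of the summand `x.1` -/
theorem duad {c : Pt k m} (hc : c.2 ≠ 0) (hcx : c.1 ≠ x.1) : w * pr M c (μ c) = pr M c (μ c) * w :=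
  coreDuad h.toSit zv F (J := {x.1}) (fun s hs => ⟨hw2 s hs, fun _ hp => act_w h hd hwO hw2 hs hp⟩) hc hcx

seal _root_.Cfsg.Agent.Omega.IId.SymWrD.pp in
include zv F hm2 hwO hw2 hx in
/-- some `o ∈ O ∩ S0` maps `n` to `σ n` -/
theorem exists_o (hwσ : w * (sg h.toSit x.1).val ≠ (sg h.toSit x.1).val * w) :
    ∃ o ∈ qz ((sg h.toSit x.1).val * d), o ∈ S0 h.toSit ∧
      o * pr M x (μ x) * o⁻¹ = (sg h.toSit x.1).val * pr M x (μ x) := by
  classical
  have hν0 : (ν x).2 ≠ 0 := fun e => hx (F.nnz.1 e)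
  have hμ0 : (μ x).2 ≠ 0 := fun e => hx (F.mnz.1 e)
  have n1 : μ x ≠ x := F.mne x hx
  have n2 : ν x ≠ x := F.nne x hx
  have n3 : ν x ≠ μ x := F.nmu x hx
  -- a nontrivial element
  obtain ⟨u, hu, hu0, hu1⟩ : ∃ u ∈ qz ((sg h.toSit x.1).val * d), u ∈ S0 h.toSit ∧ pp M u ≠ 1 := by
    by_contra hcon
    push Not at hcon
    apply hwσ
    have key : ∀ {c : Pt k m}, c.2 ≠ 0 → w * pr M c (μ c) = pr M c (μ c) * w := fun {c} hc => by
      refine coreDuad h.toSit zv F (J := ∅) (fun s hs => ⟨hw2 s hs, fun p _ => ?_⟩) hc (Set.notMem_empty _)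
      obtain ⟨h1, h2⟩ := comm_O h hd hwO hw2 hs
      have e : w⁻¹ * s * w = s * (s⁻¹ * (w⁻¹ * s * w)) := by group
      rw [e, h.mul (h.SP (S0_le h.toSit hs)) (h.SP (S0_le h.toSit h2)), hcon _ h1 h2, mul_one]
    rw [sg_eq h.toSit F hm2 hx]
    calc w * (pr M x (μ x) * pr M (ν x) (μ (ν x))) = w * pr M x (μ x) * pr M (ν x) (μ (ν x)) := by group
      _ = pr M x (μ x) * (w * pr M (ν x) (μ (ν x))) := by rw [key hx]; group
      _ = pr M x (μ x) * pr M (ν x) (μ (ν x)) * w := by rw [key hν0]; group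
  have hmv : ∀ a : Pt k m, a.1 = x.1 → a.2 ≠ 0 → pp M u a ≠ a := fun a ha ha0 e =>
    hu1 (act_one' h hd hu hu0 ha ha0 e)
  -- an element with `x ↦ ν x` or `μ (ν x)`
  obtain ⟨o, ho, ho0, hox⟩ : ∃ o ∈ qz ((sg h.toSit x.1).val * d), o ∈ S0 h.toSit ∧
      (pp M o x = ν x ∨ pp M o x = μ (ν x)) := by
    have h1 : (pp M u x).1 = x.1 := S0_fst h.toSit hu0 x
    have h2 : (pp M u x).2 ≠ 0 := fun e => hx ((h.snd (S0_le h.toSit hu0)).1 e)
    rcases letters F hm2 hx h1 h2 with e | e | e | e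
    · exact absurd e (hmv x rfl hx)
    · -- conjugate with `(μ x ν x)`
      obtain ⟨g, hg, hgp⟩ := Ht.RD.exists_swapP h.toSit (a := μ x) (b := ν x) ((F.mfst x).trans (F.nfst x).symm)
      have hgf : ∀ p, (pp M g p).1 = p.1 := fun p => by
        rw [hgp]; exact swap_fst' h.toSit ((F.mfst x).trans (F.nfst x).symm) p
      have hgσ : g * (sg h.toSit x.1).val = (sg h.toSit x.1).val * g := by
        refine comm_swap h.toSit hg hgp (sg_mem h.toSit x.1) ?_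
        rw [E_sg, E_sg, if_pos (F.mfst x), if_pos (F.nfst x), if_neg hμ0, if_neg hν0]
      have hgK := Ht.RD.mem_K h.toSit hd hg hgf hgσ
      have huP := h.SP (S0_le h.toSit hu0)
      refine ⟨g * u * g⁻¹, conj_mem (le_normalizer_o2 _) hgK hu, ?_, Or.inl ?_⟩
      · refine hOC h zv hd ⟨conj_mem (le_normalizer_o2 _) hgK hu, mem_centralizer_singleton_iff.2 ?_⟩
        have h3 := S0_comm h.toSit hu0 x.1
        calc g * u * g⁻¹ * (sg h.toSit x.1).val = g * u * (g⁻¹ * ((sg h.toSit x.1).val * g)) * g⁻¹ := by group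
          _ = g * (u * (sg h.toSit x.1).val) * g⁻¹ := by rw [← hgσ]; group
          _ = (g * (sg h.toSit x.1).val) * u * g⁻¹ := by rw [h3]; group
          _ = (sg h.toSit x.1).val * (g * u * g⁻¹) := by rw [hgσ]; group
      · rw [h.conj hg huP, hgp, Equiv.swap_inv, Equiv.Perm.mul_apply, Equiv.Perm.mul_apply,
          Equiv.swap_apply_of_ne_of_ne n1.symm n2.symm, e, Equiv.swap_apply_left]
    · exact ⟨u, hu, hu0, Or.inl e⟩
    · exact ⟨u, hu, hu0, Or.inr e⟩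
  refine ⟨o, ho, ho0, ?_⟩
  have hoS := S0_le h.toSit ho0
  rw [h.conj_pr (h.SP hoS) (F.mfst x).symm, F.meqv o hoS, sg_eq h.toSit F hm2 hx]
  have e1 : pr M x (μ x) * pr M (ν x) (μ (ν x)) * pr M x (μ x) = pr M (ν x) (μ (ν x)) := by
    rw [h.Vcomm (pr_mem M x (μ x)) (pr_mem M (ν x) (μ (ν x))), mul_assoc, h.pr_sq, mul_one]
  rw [e1]
  rcases hox with e | e
  · rw [e]
  · rw [e, F.msq, pr_comm M ((F.mfst (ν x)))]

end w

end main

end Cfsg.Agent.Omega.IId.SymWrD.AlphaA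

end

section


/-!
# II.d, `SwCv`, T-T: `O₂(C_G(σ_i d)) ≤ S0`, `m = 2`, II (bb OMEGA #22419, helper666)

* `o2_le_S0` : **`O₂(C_G(σ_i d)) ≤ S0`**, `m = 2`.
-/

set_option autoImplicit false
set_option linter.unusedSectionVars false

namespace Cfsg.Agent.Omega.IId.SymWrD.AlphaA

open Subgroup Pointwise Cfsg Cfsg.Agent.Omega.MinPar Cfsg.Agent.Omega.FFThm
open Cfsg.Agent.ZN (o2 zc)
open Cfsg.Agent.Omega.IId.SwB (S0 mem_S0 S0_le S0_fst S0_comm Q_le_S0 syl_S0 exists_in)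
open Cfsg.Agent.Omega.IId.SymWrD.Ht (DD mem_DD)
open Cfsg.Agent.Omega.Half.SymA (Pt E Mv pm Amb0)
open Cfsg.Agent.MinSimple.VModule (mem_zc zc_le le_normalizer_o2 o2_isPGroup o2_le)
open Triangle (KK KK_conj KK_le_o2 mem_cent mem_KK mem_zpowers_iff_of_sq cent_conj o2_cent_conj)
open Big (cz qz conj_mem norm_of conj_of_comm comm_of_conj le_o2_of norm_o2)

universe u

variable {G : Type u} [Group G] {P V : Subgroup G} {k m : ℕ} {S : Sylow 2 G} {M : SymK (S : Subgroup G) P V ⊥ k m}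

section tools

variable (h : Sit S P V M)
include h

/-- `V ∩ DD M = 1` -/
theorem eq_one_of_DD {v : G} (hv : v ∈ V) (hd : v ∈ DD M) : v = 1 := by
  classical
  refine eq_one_of_const M h.hm1 hv fun p q hpq _ => ?_
  obtain ⟨g, hg, hgp⟩ := Ht.RD.exists_swapP h hpq
  have h1 := (mem_DD.1 hd).2 g hg fun r => by rw [hgp]; exact swap_fst' h hpq r
  have h2 := (h.comm_iff hg hv).1 h1 p
  rw [hgp, Equiv.swap_apply_left] at h2
  exact h2.symm

seal _root_.Cfsg.Agent.Omega.IId.SymWrD.pp in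
/-- `DD M` is normalised by `S` -/
theorem DD_conj {s d : G} (hs : s ∈ P) (hd : d ∈ DD M) : s * d * s⁻¹ ∈ DD M := by
  refine mem_DD.2 ⟨Sit.zz_conj hs (mem_DD.1 hd).1, fun g hg hg1 => ?_⟩
  have h1 := (mem_DD.1 hd).2 (s⁻¹ * g * s) (mul_mem (mul_mem (inv_mem hs) hg) hs) fun r => by
    rw [h.mul (mul_mem (inv_mem hs) hg) hs, h.mul (inv_mem hs) hg, h.inv hs]
    have h2 : (pp M g (pp M s r)).1 = (pp M s r).1 := hg1 _
    have h3 : ((pp M s)⁻¹ (pp M g (pp M s r))).1 = ((pp M s)⁻¹ (pp M s r)).1 := by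
      rw [← h.inv hs]
      exact h.fst (inv_mem hs) h2
    rw [Equiv.Perm.mul_apply, Equiv.Perm.mul_apply, h3]
    rw [show (pp M s)⁻¹ (pp M s r) = r from (pp M s).symm_apply_apply r]
  calc g * (s * d * s⁻¹) = s * (s⁻¹ * g * s * d) * s⁻¹ := by group
    _ = s * d * s⁻¹ * g := by rw [h1]; group

seal _root_.Cfsg.Agent.Omega.IId.SymWrD.pp in
/-- the action on the `σ` -/
theorem conj_sg {s : G} (hs : s ∈ (S : Subgroup G)) (p : Pt k m) :
    s * (sg h p.1).val * s⁻¹ = (sg h (pp M s p).1).val := by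
  have hsP := h.SP hs
  refine Half.SymA.inj M (h.amb.conj_mem hsP (sg_mem h _)) (sg_mem h _) fun r => ?_
  rw [E_conj' hsP (sg_mem h _), E_sg, E_sg]
  obtain ⟨r', hr'⟩ : ∃ r', r' = (pp M s)⁻¹ r := ⟨_, rfl⟩
  have h1 : pp M s r' = r := by rw [hr']; exact (pp M s).apply_symm_apply r
  rw [← hr', ← h1]
  have h2 : r'.1 = p.1 ↔ (pp M s r').1 = (pp M s p).1 := by
    refine ⟨fun e => h.fst hsP e, fun e => ?_⟩
    have h3 := h.fst (inv_mem hsP) e
    rw [h.inv hsP] at h3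
    rwa [show (pp M s)⁻¹ (pp M s r') = r' from (pp M s).symm_apply_apply r',
      show (pp M s)⁻¹ (pp M s p) = p from (pp M s).symm_apply_apply p] at h3
  have h3 : r'.2 = 0 ↔ (pp M s r').2 = 0 := (h.snd hs).symm
  simp only [h2, h3]

end tools

section main

variable [Finite G] (h : SD S P V M) (zv : zc (o2 P) ≤ V ⊔ DD M) {μ ν : Equiv.Perm (Pt k m)} (F : Fours M μ ν)
  (hm2 : m = 2) {x : Pt k m} (hx : x.2 ≠ 0) {d : G} (hd : d ∈ DD M)
  {w : G} (hwO : w ∈ qz ((sg h.toSit x.1).val * d)) (hw1 : ∀ s ∈ S0 h.toSit, w * s * w⁻¹ ∈ S0 h.toSit)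
  (hw2 : ∀ s ∈ S0 h.toSit, w⁻¹ * s * w ∈ S0 h.toSit)
  (hwσ : w * (sg h.toSit x.1).val ≠ (sg h.toSit x.1).val * w)

include h

/-- an element fixed by `S0` and supported in a summand is `1` or `σ` -/
theorem fixed_one {t : G} (ht : t ∈ V) (h1 : ∀ p : Pt k m, p.1 ≠ x.1 → E M t p = 0)
    (h2 : ∀ s ∈ S0 h.toSit, s * t = t * s) : t = 1 ∨ t = (sg h.toSit x.1).val := by
  have h3 : ∀ a b : Pt k m, a.1 = x.1 → b.1 = x.1 → a.2 ≠ 0 → b.2 ≠ 0 → E M t a = E M t b := by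
    intro a b ha hb ha0 hb0
    obtain ⟨s, hs, h4, -⟩ := exists_in h.toSit (ha.trans hb.symm) ha0 hb0
    rw [← h4]
    exact ((h.comm_iff (h.SP (S0_le h.toSit hs)) ht).1 (h2 s hs) a).symm
  obtain ⟨y₀, hy₀⟩ := SwB.exists_ne_zero h.hm1
  have h4 : E M t (x.1, 0) = 0 := Half.SymA.even0 M h.hm1 ht (i := x.1) (c := E M t (x.1, y₀))
    fun y hy => h3 _ _ rfl rfl hy hy₀
  rcases Half.SymA.zmod2 (E M t (x.1, y₀)) with h5 | h5
  · left
    refine Half.SymA.eq_one M ht fun p => ?_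
    by_cases hp : p.1 = x.1
    · by_cases hp0 : p.2 = 0
      · rw [show p = (x.1, 0) from Prod.ext hp hp0]; exact h4
      · rw [h3 p (x.1, y₀) hp rfl hp0 hy₀]; exact h5
    · exact h1 p hp
  · right
    refine Half.SymA.inj M ht (sg_mem h.toSit x.1) fun p => ?_
    rw [E_sg]
    by_cases hp : p.1 = x.1
    · rw [if_pos hp]
      by_cases hp0 : p.2 = 0
      · rw [if_pos hp0, show p = (x.1, 0) from Prod.ext hp hp0]; exact h4
      · rw [if_neg hp0, h3 p (x.1, y₀) hp rfl hp0 hy₀]; exact h5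
    · rw [if_neg hp]; exact h1 p hp

include hw2 in
/-- `τ = w σ w⁻¹` is centralised by `S0` -/
theorem tau_S0 {s : G} (hs : s ∈ S0 h.toSit) :
    s * (w * (sg h.toSit x.1).val * w⁻¹) = w * (sg h.toSit x.1).val * w⁻¹ * s := by
  have h1 := S0_comm h.toSit (hw2 s hs) x.1
  calc s * (w * (sg h.toSit x.1).val * w⁻¹) = w * (w⁻¹ * s * w * (sg h.toSit x.1).val) * w⁻¹ := by group
    _ = w * (sg h.toSit x.1).val * w⁻¹ * s := by rw [h1]; group

theorem tau_sq : w * (sg h.toSit x.1).val * w⁻¹ * (w * (sg h.toSit x.1).val * w⁻¹) = 1 := by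
  calc w * (sg h.toSit x.1).val * w⁻¹ * (w * (sg h.toSit x.1).val * w⁻¹) =
      w * ((sg h.toSit x.1).val * (sg h.toSit x.1).val) * w⁻¹ := by group
    _ = 1 := by rw [h.Vsq (sg_mem h.toSit x.1)]; group

theorem tau_ne_one (hx : x.2 ≠ 0) : w * (sg h.toSit x.1).val * w⁻¹ ≠ 1 := by
  intro e
  have h1 : (sg h.toSit x.1).val = 1 := by
    calc (sg h.toSit x.1).val = w⁻¹ * (w * (sg h.toSit x.1).val * w⁻¹) * w := by group
      _ = 1 := by rw [e]; group
  have h2 := E_sg h.toSit x.1 x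
  rw [h1, Half.SymA.E_one, if_pos rfl, if_neg hx] at h2
  exact zero_ne_one h2

include hwσ in
theorem tau_ne : w * (sg h.toSit x.1).val * w⁻¹ ≠ (sg h.toSit x.1).val := fun e => hwσ (mul_inv_eq_iff_eq_mul.1 e)

seal _root_.Cfsg.Agent.Omega.IId.SymWrD.pp in
include F hm2 hx hw2 in
/-- the conjugates of `y' = w n w⁻¹` under `S0` -/
theorem y_S0 {s : G} (hs : s ∈ S0 h.toSit) :
    s * (w * pr M x (μ x) * w⁻¹) * s⁻¹ = w * pr M x (μ x) * w⁻¹ ∨
      s * (w * pr M x (μ x) * w⁻¹) * s⁻¹ = w * (sg h.toSit x.1).val * w⁻¹ * (w * pr M x (μ x) * w⁻¹) := by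
  have hs' := hw2 s hs
  have hs'S := S0_le h.toSit hs'
  have h1 := h.conj_pr (h.SP hs'S) (F.mfst x).symm
  rw [F.meqv _ hs'S] at h1
  have h2 : s * (w * pr M x (μ x) * w⁻¹) * s⁻¹ =
      w * (w⁻¹ * s * w * pr M x (μ x) * (w⁻¹ * s * w)⁻¹) * w⁻¹ := by group
  rw [h2, h1]
  have hl : (pp M (w⁻¹ * s * w) x).1 = x.1 := S0_fst h.toSit hs' x
  have hl0 : (pp M (w⁻¹ * s * w) x).2 ≠ 0 := fun e => hx ((h.snd hs'S).1 e)
  have hb : pr M (ν x) (μ (ν x)) = (sg h.toSit x.1).val * pr M x (μ x) := by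
    rw [sg_eq h.toSit F hm2 hx, h.Vcomm (pr_mem M x (μ x)) (pr_mem M (ν x) (μ (ν x))), mul_assoc, h.pr_sq, mul_one]
  have hb2 : w * pr M (ν x) (μ (ν x)) * w⁻¹ =
      w * (sg h.toSit x.1).val * w⁻¹ * (w * pr M x (μ x) * w⁻¹) := by rw [hb]; group
  rcases letters F hm2 hx hl hl0 with e | e | e | e
  · left; rw [e]
  · left; rw [e, F.msq, pr_comm M (F.mfst x)]
  · right; rw [e, hb2]
  · right; rw [e, F.msq, pr_comm M (F.mfst (ν x)), hb2]

theorem n_mem_S0 : pr M x (μ x) ∈ S0 h.toSit := Q_le_S0 h.toSit (h.V_le_Q (pr_mem M _ _))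

seal _root_.Cfsg.Agent.Omega.IId.SymWrD.pp in
include F hm2 hx hd hwO hw1 hw2 in
/-- `y' ∈ O₂(P)` -/
theorem y_mem_Q : w * pr M x (μ x) * w⁻¹ ∈ o2 P := by
  classical
  have hn0 := n_mem_S0 (x := x) (μ := μ) h
  have hy0 := hw1 _ hn0
  rw [h.mem_Q_iff (S0_le h.toSit hy0)]
  -- `o' = y' n⁻¹`
  have ho : w * pr M x (μ x) * w⁻¹ * (pr M x (μ x))⁻¹ ∈ qz ((sg h.toSit x.1).val * d) := by
    have h1 := conj_mem (le_normalizer_o2 _) (S0_le_K h hd hn0) (inv_mem hwO)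
    have e : w * pr M x (μ x) * w⁻¹ * (pr M x (μ x))⁻¹ = w * (pr M x (μ x) * w⁻¹ * (pr M x (μ x))⁻¹) := by group
    rw [e]
    exact mul_mem hwO h1
  have ho0 : w * pr M x (μ x) * w⁻¹ * (pr M x (μ x))⁻¹ ∈ S0 h.toSit := mul_mem hy0 (inv_mem hn0)
  have hpn : pp M (pr M x (μ x)) = 1 := (h.mem_Q_iff (S0_le h.toSit hn0)).1 (h.V_le_Q (pr_mem M _ _))
  have hpo : pp M (w * pr M x (μ x) * w⁻¹ * (pr M x (μ x))⁻¹) = pp M (w * pr M x (μ x) * w⁻¹) := by
    rw [h.mul (h.SP (S0_le h.toSit hy0)) (inv_mem (h.SP (S0_le h.toSit hn0))), h.inv (h.SP (S0_le h.toSit hn0)), hpn,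
      inv_one, mul_one]
  by_contra hne
  obtain ⟨b, hb⟩ : ∃ b, b = pp M (w * pr M x (μ x) * w⁻¹) x := ⟨_, rfl⟩
  have hbx : b ≠ x := fun e => hne (by
    rw [← hpo]
    exact act_one' h hd ho ho0 rfl hx (by rw [hpo, ← hb, e]))
  have hb1 : b.1 = x.1 := by rw [hb]; exact S0_fst h.toSit hy0 x
  have hb0 : b.2 ≠ 0 := fun e => hx ((h.snd (S0_le h.toSit hy0)).1 (by rw [← hb]; exact e))
  -- `v = (0 x)`
  have hvV : pr M (x.1, 0) x ∈ V := pr_mem M _ _
  have hyP := h.SP (S0_le h.toSit hy0)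
  have h1 : w * pr M x (μ x) * w⁻¹ * pr M (x.1, 0) x * (w * pr M x (μ x) * w⁻¹)⁻¹ = pr M (x.1, 0) b := by
    rw [h.conj_pr hyP (p := (x.1, 0)) (q := x) rfl, ← hb]
    (with_reducible congr 1)
    exact Ht.RD.S0_zero h.toSit hy0 _
  have h2 : pr M (x.1, 0) x * (w * pr M x (μ x) * w⁻¹) * (pr M (x.1, 0) x)⁻¹ =
      pr M x b * (w * pr M x (μ x) * w⁻¹) := by
    have hvi : (pr M (x.1, 0) x)⁻¹ = pr M (x.1, 0) x := inv_eq_of_mul_eq_one_left (h.pr_sq _ _)
    rw [hvi, mul_assoc]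
    have h3 : w * pr M x (μ x) * w⁻¹ * pr M (x.1, 0) x = pr M (x.1, 0) b * (w * pr M x (μ x) * w⁻¹) :=
      mul_inv_eq_iff_eq_mul.1 h1
    rw [h3, ← mul_assoc, pr_comm M (p := (x.1, 0)) (q := x) rfl,
      pr_mul M (p := x) (q := (x.1, 0)) (r := b) rfl hb1.symm]
  have hxb : pr M x b ≠ 1 := pr_ne_one M hb1.symm hbx.symm
  have h4 : w * (sg h.toSit x.1).val * w⁻¹ = pr M x b := by
    rcases y_S0 h F hm2 hx hw2 (Q_le_S0 h.toSit (h.V_le_Q hvV)) with h5 | h5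
    · rw [h2] at h5
      exact absurd (mul_eq_right.1 h5) hxb
    · rw [h2] at h5
      exact (mul_right_cancel h5).symm
  -- a third letter
  obtain ⟨r, hr, hr'⟩ := exists_pt4 h.hm x.1 {(x.1, 0), x, b} (Finset.card_le_three.trans (by norm_num))
  simp only [Finset.mem_insert, Finset.mem_singleton, not_or] at hr'
  have hr0 : r.2 ≠ 0 := fun e => hr'.1 (Prod.ext hr e)
  obtain ⟨s, hs, h6, -⟩ := exists_in h.toSit hr.symm hx hr0
  have h7 := tau_S0 h (x := x) hw2 hs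
  rw [h4] at h7
  have h8 := (h.comm_iff (h.SP (S0_le h.toSit hs)) (pr_mem M x b)).1 h7 x
  rw [h6, E_pr_left M hb1.symm hbx.symm, E_pr_of_ne M hb1.symm hr'.2.1 hr'.2.2] at h8
  exact zero_ne_one h8

seal _root_.Cfsg.Agent.Omega.IId.SymWrD.pp in
include zv F hm2 hx hd hwO hw1 hw2 hwσ in
/-- some `q ∈ O₂(P)` moves `y'` -/
theorem exists_q : ∃ q ∈ o2 P, q * (w * pr M x (μ x) * w⁻¹) * q⁻¹ =
    w * (sg h.toSit x.1).val * w⁻¹ * (w * pr M x (μ x) * w⁻¹) := by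
  by_contra hcon
  push Not at hcon
  have hyQ : ∀ q ∈ o2 P, q * (w * pr M x (μ x) * w⁻¹) = w * pr M x (μ x) * w⁻¹ * q := fun q hq =>
    comm_of_conj ((y_S0 h F hm2 hx hw2 (Q_le_S0 h.toSit hq)).resolve_right (hcon q hq))
  have hyy : w * pr M x (μ x) * w⁻¹ * (w * pr M x (μ x) * w⁻¹) = 1 := by
    calc w * pr M x (μ x) * w⁻¹ * (w * pr M x (μ x) * w⁻¹) = w * (pr M x (μ x) * pr M x (μ x)) * w⁻¹ := by group
      _ = 1 := by rw [h.pr_sq]; group
  obtain ⟨v, hv, δ, hδ, hyv⟩ := Ht.RD.zz_dec' h.toSit (zv (mem_zc_of h.toSit hyy hyQ))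
  obtain ⟨o, ho, ho0, hon⟩ := exists_o h zv F hm2 hx hd hwO hw2 hwσ
  obtain ⟨o₂, ho₂⟩ : ∃ o₂, o₂ = w * o * w⁻¹ := ⟨_, rfl⟩
  have hoO : o₂ ∈ qz ((sg h.toSit x.1).val * d) := by rw [ho₂]; exact mul_mem (mul_mem hwO ho) (inv_mem hwO)
  have ho₂0 : o₂ ∈ S0 h.toSit := by rw [ho₂]; exact hw1 o ho0
  have ho₂P := h.SP (S0_le h.toSit ho₂0)
  have h1 : o₂ * (w * pr M x (μ x) * w⁻¹) * o₂⁻¹ =
      w * (sg h.toSit x.1).val * w⁻¹ * (w * pr M x (μ x) * w⁻¹) := by
    calc o₂ * (w * pr M x (μ x) * w⁻¹) * o₂⁻¹ = w * (o * pr M x (μ x) * o⁻¹) * w⁻¹ := by rw [ho₂]; group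
      _ = w * (sg h.toSit x.1).val * w⁻¹ * (w * pr M x (μ x) * w⁻¹) := by rw [hon]; group
  have hδc := Ht.RD.S0_DD h.toSit ho₂0 hδ
  have h2 : w * (sg h.toSit x.1).val * w⁻¹ = o₂ * v * o₂⁻¹ * v⁻¹ := by
    rw [hyv] at h1
    have h3 : o₂ * (v * δ) * o₂⁻¹ = o₂ * v * o₂⁻¹ * δ := by
      calc o₂ * (v * δ) * o₂⁻¹ = o₂ * v * o₂⁻¹ * (o₂ * δ * o₂⁻¹) := by group
        _ = o₂ * v * o₂⁻¹ * δ := by rw [conj_of_comm hδc]
    rw [h3, ← mul_assoc] at h1
    have h4 := mul_right_cancel h1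
    rw [h4]; group
  have hcV : o₂ * v * o₂⁻¹ ∈ V := h.amb.conj_mem ho₂P hv
  have htV : w * (sg h.toSit x.1).val * w⁻¹ ∈ V := by rw [h2]; exact mul_mem hcV (inv_mem hv)
  have h3 : ∀ p : Pt k m, p.1 ≠ x.1 → E M (w * (sg h.toSit x.1).val * w⁻¹) p = 0 := by
    intro p hp
    rw [h2, Half.SymA.E_mul M hcV (inv_mem hv), E_conj' ho₂P hv, Half.SymA.E_inv M hv]
    have h4 : (pp M o₂)⁻¹ p = p := by
      rw [Equiv.Perm.inv_eq_iff_eq]
      exact (act_out' h hd hoO ho₂0 hp).symm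
    rw [h4]
    exact CharTwo.add_self_eq_zero _
  rcases fixed_one h htV h3 (fun s hs => tau_S0 h hw2 hs) with h5 | h5
  · exact tau_ne_one h hx h5
  · exact tau_ne h hwσ h5

include zv F hm2 hx hd hwO hw1 hw2 hwσ in
/-- `τ ∈ DD M`, `2 ≤ k` -/
theorem tau_DD {l : Fin k} (hl : l ≠ x.1) : w * (sg h.toSit x.1).val * w⁻¹ ∈ DD M := by
  classical
  have htc : ∀ q ∈ o2 P, q * (w * (sg h.toSit x.1).val * w⁻¹) = w * (sg h.toSit x.1).val * w⁻¹ * q := fun q hq =>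
    tau_S0 h hw2 (Q_le_S0 h.toSit hq)
  obtain ⟨v, hv, δ, hδ, hτ⟩ := Ht.RD.zz_dec' h.toSit (zv (mem_zc_of h.toSit (tau_sq h) htc))
  have hyQ := y_mem_Q h F hm2 hx hd hwO hw1 hw2
  have hex := exists_q h zv F hm2 hx hd hwO hw1 hw2 hwσ
  have hQ : ∀ q ∈ o2 P, q * (w * pr M x (μ x) * w⁻¹) * q⁻¹ = w * pr M x (μ x) * w⁻¹ ∨
      q * (w * pr M x (μ x) * w⁻¹) * q⁻¹ = w * (sg h.toSit x.1).val * w⁻¹ * (w * pr M x (μ x) * w⁻¹) :=
    fun q hq => y_S0 h F hm2 hx hw2 (Q_le_S0 h.toSit hq)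
  -- `y' ∈ O₂(C_G(p_c))`
  have hyc : ∀ {c : Pt k m}, c.2 ≠ 0 → c.1 ≠ x.1 → w * pr M x (μ x) * w⁻¹ ∈ qz (pr M c (μ c)) := by
    intro c hc hcx
    have h1 : pr M x (μ x) ∈ zc (qz (pr M c (μ c))) := by
      refine h.perp (F.mfst c).symm (F.mne c hc).symm (pr_mem M _ _) ?_
      rw [E_pr_of_ne M (F.mfst x).symm (fun e => hcx (by rw [e])) (fun e => hcx (by rw [e, F.mfst])),
        E_pr_of_ne M (F.mfst x).symm (fun e => hcx (by rw [← F.mfst c, e])) (fun e => hcx (by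
          rw [← F.mfst c, e, F.mfst]))]
    exact zc_le _ (zc_conj' (duad h zv F hd hwO hw2 hc hcx) h1)
  -- the pairs
  have key : ∀ {p q c : Pt k m}, p.1 = q.1 → p ≠ q → c.2 ≠ 0 → c.1 ≠ x.1 →
      E M (pr M c (μ c)) p = E M (pr M c (μ c)) q → E M v p = E M v q := by
    intro p q c hpq hne hc hcx hE
    obtain ⟨g, hg, hgp⟩ := h.par p q hpq hne
    have hgP := h.QP p q hpq hne (h.KK_le hpq hne hg)
    have h1 := c2 h hpq hne (h.perp hpq hne (pr_mem M c (μ c)) hE) (hyc hc hcx) hyQ (tau_sq h) hQ hex g hg hgp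
    have h2 : g * δ = δ * g := (mem_DD.1 hδ).2 g hgP fun r => by rw [hgp]; exact swap_fst' h.toSit hpq r
    rw [hτ] at h1
    have h3 : g * v = v * g := by
      have h4 : g * v * δ = v * g * δ := by
        calc g * v * δ = g * (v * δ) := by group
          _ = v * (δ * g) := by rw [h1]; group
          _ = v * g * δ := by rw [← h2]; group
      exact mul_right_cancel h4
    exact (h.act_iff hgP hpq hne hgp hv).1 h3
  have hv1 : v = 1 := by
    refine eq_one_of_const M h.hm1 hv fun p q hpq _ => ?_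
    obtain ⟨y₀, hy₀⟩ := SwB.exists_ne_zero h.hm1
    have key2 : ∀ p : Pt k m, E M v p = E M v (p.1, 0) := by
      intro p
      by_cases hp0 : p.2 = 0
      · rw [show ((p.1, 0) : Pt k m) = p from Prod.ext rfl hp0.symm]
      · have hne : p ≠ (p.1, 0) := fun e => hp0 (by rw [e])
        have hc₀ : ((l, y₀) : Pt k m).2 ≠ 0 := hy₀
        have hν₀ : (ν (l, y₀)).2 ≠ 0 := fun e => hc₀ (F.nnz.1 e)
        have h0 : ∀ {c : Pt k m}, c.2 ≠ 0 → p ≠ c → p ≠ μ c → E M (pr M c (μ c)) p = E M (pr M c (μ c)) (p.1, 0) := by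
          intro c hc h1 h2
          rw [E_pr_of_ne M (F.mfst c).symm h1 h2, E_pr_of_ne M (F.mfst c).symm (fun e => hc (by rw [← e]))
            (fun e => hc (F.mnz.1 (by rw [← e])))]
        by_cases h1 : p = (l, y₀) ∨ p = μ (l, y₀)
        · refine key rfl hne hν₀ (by rw [F.nfst]; exact hl) (h0 hν₀ ?_ ?_)
          · rcases h1 with e | e
            · rw [e]; exact (F.nne _ hc₀).symm
            · rw [e]; exact (F.nmu _ hc₀).symm
          · rcases h1 with e | e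
            · rw [e]
              intro e1
              have e2 := congrArg μ e1
              rw [F.msq] at e2
              exact F.nmu _ hc₀ e2.symm
            · rw [e]; exact fun e1 => F.nne _ hc₀ (μ.injective e1).symm
        · push Not at h1
          exact key rfl hne hc₀ hl (h0 hc₀ h1.1 h1.2)
    rw [key2 p, key2 q, hpq]
  rw [hτ, hv1, one_mul]
  exact hδ

seal _root_.Cfsg.Agent.Omega.IId.SymWrD.pp in
include zv F hm2 hx hd hwO hw1 hw2 hwσ in
/-- `w` centralises the `(0 c)` outside of the summand `x.1` -/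
theorem zero_duad {c : Pt k m} (hc : c.2 ≠ 0) (hcx : c.1 ≠ x.1) : w * pr M (c.1, 0) c = pr M (c.1, 0) c * w := by
  classical
  have hτ := tau_DD h zv F hm2 hx hd hwO hw1 hw2 hwσ hcx
  have hμ0 : (μ c).2 ≠ 0 := fun e => hc (F.mnz.1 e)
  -- the transposition `(μ c, 0)`
  have hfst : (μ c).1 = ((c.1, 0) : Pt k m).1 := F.mfst c
  obtain ⟨g, hg, hgp⟩ := Ht.RD.exists_swapP h.toSit hfst
  have hgf : ∀ p, (pp M g p).1 = p.1 := fun p => by rw [hgp]; exact swap_fst' h.toSit hfst p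
  have hgσ : g * (sg h.toSit x.1).val = (sg h.toSit x.1).val * g := by
    refine comm_swap h.toSit hg hgp (sg_mem h.toSit x.1) ?_
    rw [E_sg, E_sg, if_neg (by rw [F.mfst]; exact hcx), if_neg hcx]
  have hgK := Ht.RD.mem_K h.toSit hd hg hgf hgσ
  have hgτ := (mem_DD.1 hτ).2 g hg hgf
  obtain ⟨κ, hκ⟩ : ∃ κ, κ = w⁻¹ * (g⁻¹ * w * g) := ⟨_, rfl⟩
  have hκO : κ ∈ qz ((sg h.toSit x.1).val * d) := by
    rw [hκ]
    have h1 := conj_mem (le_normalizer_o2 _) (inv_mem hgK) hwO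
    rw [inv_inv] at h1
    exact mul_mem (inv_mem hwO) h1
  have hκσ : κ * (sg h.toSit x.1).val = (sg h.toSit x.1).val * κ := by
    have h1 : g⁻¹ * (w * (sg h.toSit x.1).val * w⁻¹) * g = w * (sg h.toSit x.1).val * w⁻¹ := by
      rw [mul_assoc, ← hgτ]; group
    have h2 : g⁻¹ * w * g * (sg h.toSit x.1).val * (g⁻¹ * w * g)⁻¹ = w * (sg h.toSit x.1).val * w⁻¹ := by
      calc g⁻¹ * w * g * (sg h.toSit x.1).val * (g⁻¹ * w * g)⁻¹ =
          g⁻¹ * w * (g * (sg h.toSit x.1).val * g⁻¹) * w⁻¹ * g := by group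
        _ = g⁻¹ * (w * (sg h.toSit x.1).val * w⁻¹) * g := by rw [conj_of_comm hgσ]; group
        _ = w * (sg h.toSit x.1).val * w⁻¹ := h1
    apply comm_of_conj
    calc κ * (sg h.toSit x.1).val * κ⁻¹ = w⁻¹ * (g⁻¹ * w * g * (sg h.toSit x.1).val * (g⁻¹ * w * g)⁻¹) * w := by
          rw [hκ]; group
      _ = (sg h.toSit x.1).val := by rw [h2]; group
  have hκ0 : κ ∈ S0 h.toSit := hOC h zv hd ⟨hκO, mem_centralizer_singleton_iff.2 hκσ⟩
  have hκP := h.SP (S0_le h.toSit hκ0)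
  have h3 : κ * pr M c (μ c) = pr M c (μ c) * κ :=
    h.comm_pr hκP (F.mfst c).symm (Or.inl ⟨act_out' h hd hκO hκ0 hcx,
      act_out' h hd hκO hκ0 (by rw [F.mfst]; exact hcx)⟩)
  have h4 := duad h zv F hd hwO hw2 hc hcx
  have h5 : g⁻¹ * w * g * pr M c (μ c) = pr M c (μ c) * (g⁻¹ * w * g) := by
    have e : g⁻¹ * w * g = w * κ := by rw [hκ]; group
    rw [e]
    calc w * κ * pr M c (μ c) = w * (κ * pr M c (μ c)) := by group
      _ = w * pr M c (μ c) * κ := by rw [h3]; group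
      _ = pr M c (μ c) * (w * κ) := by rw [h4]; group
  have h6 : g * pr M c (μ c) * g⁻¹ = pr M (c.1, 0) c := by
    rw [h.conj_pr hg (F.mfst c).symm, hgp, Equiv.swap_apply_left,
      Equiv.swap_apply_of_ne_of_ne (F.mne c hc).symm (fun e => hc (by rw [e])),
      pr_comm M (p := c) (q := (c.1, 0)) rfl]
  rw [← h6]
  calc w * (g * pr M c (μ c) * g⁻¹) = g * (g⁻¹ * w * g * pr M c (μ c)) * g⁻¹ := by group
    _ = g * pr M c (μ c) * g⁻¹ * w := by rw [h5]; group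

seal _root_.Cfsg.Agent.Omega.IId.SymWrD.pp in
include F hx hd in
/-- the elements of `S` fixing the summand `x.1` commute with `σ d` -/
theorem S1_comm (hdT : ∀ s ∈ (S : Subgroup G), s * pr M x (μ x) = pr M x (μ x) * s → s * d = d * s) {s : G}
    (hs : s ∈ (S : Subgroup G)) (hsx : (pp M s x).1 = x.1) :
    s * d = d * s ∧ s * ((sg h.toSit x.1).val * d) = (sg h.toSit x.1).val * d * s := by
  have hsx0 : (pp M s x).2 ≠ 0 := fun e => hx ((h.snd hs).1 e)
  obtain ⟨t, ht, h1, -⟩ := exists_in h.toSit hsx hsx0 hx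
  have htS := S0_le h.toSit ht
  have h2 : pp M (t * s) x = x := by
    rw [h.mul (h.SP htS) (h.SP hs), Equiv.Perm.mul_apply, h1]
  have htsS : t * s ∈ (S : Subgroup G) := mul_mem htS hs
  have h3 : t * s * pr M x (μ x) = pr M x (μ x) * (t * s) := by
    apply comm_of_conj
    rw [h.conj_pr (h.SP htsS) (F.mfst x).symm, F.meqv _ htsS, h2]
  have h4 := hdT _ htsS h3
  have h5 := Ht.RD.S0_DD h.toSit ht hd
  have h6 : s * d = d * s := by
    calc s * d = t⁻¹ * (t * s * d) := by group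
      _ = t⁻¹ * (d * t) * s := by rw [h4]; group
      _ = d * s := by rw [← h5]; group
  have h7 := conj_sg h.toSit hs x
  rw [hsx] at h7
  refine ⟨h6, ?_⟩
  calc s * ((sg h.toSit x.1).val * d) = s * (sg h.toSit x.1).val * s⁻¹ * (s * d) := by group
    _ = (sg h.toSit x.1).val * d * s := by rw [h7, h6]; group

seal _root_.Cfsg.Agent.Omega.IId.SymWrD.pp in
include zv F hm2 hx hd hwO hw1 hw2 hwσ in
seal _root_.Finset.card in
/-- `w` commutes with the conjugates of `d` -/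
theorem comm_ds (hsig : ∀ g : G, g * pr M x (μ x) = pr M x (μ x) * g →
      g * pr M x (x.1, 0) = pr M x (x.1, 0) * g →
      ((sg h.toSit x.1).val * pr M x (μ x) * d)⁻¹ * (g * ((sg h.toSit x.1).val * pr M x (μ x) * d) * g⁻¹) = 1 ∨
      ((sg h.toSit x.1).val * pr M x (μ x) * d)⁻¹ * (g * ((sg h.toSit x.1).val * pr M x (μ x) * d) * g⁻¹) =
        pr M x (μ x))
    {s : G} (hs : s ∈ (S : Subgroup G)) (hsx : (pp M s x).1 ≠ x.1) :
    w * (s * d * s⁻¹) = s * d * s⁻¹ * w ∧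
      w * (s * ((sg h.toSit x.1).val * d) * s⁻¹) = s * ((sg h.toSit x.1).val * d) * s⁻¹ * w := by
  classical
  obtain ⟨c, hc⟩ : ∃ c, c = pp M s x := ⟨_, rfl⟩
  have hcx : c.1 ≠ x.1 := by rw [hc]; exact hsx
  have hc0 : c.2 ≠ 0 := fun e => hx ((h.snd hs).1 (by rw [← hc]; exact e))
  have hν0 : (ν c).2 ≠ 0 := fun e => hc0 (F.nnz.1 e)
  have hsP := h.SP hs
  have hsn : s * pr M x (μ x) * s⁻¹ = pr M c (μ c) := by
    rw [h.conj_pr hsP (F.mfst x).symm, F.meqv _ hs, ← hc]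
  have hse : s * pr M x (x.1, 0) * s⁻¹ = pr M (c.1, 0) c := by
    rw [h.conj_pr hsP (p := x) (q := (x.1, 0)) rfl, pr_comm M (h.fst hsP (p := x) (q := (x.1, 0)) rfl)]
    have e : pp M s (x.1, 0) = (c.1, 0) := by
      refine Prod.ext ?_ ((h.snd hs).2 rfl)
      rw [hc]
      exact h.fst hsP rfl
    rw [e, ← hc]
  have hsσ : s * (sg h.toSit x.1).val * s⁻¹ = (sg h.toSit c.1).val := by rw [conj_sg h.toSit hs x, ← hc]
  have w1 := duad h zv F hd hwO hw2 hc0 hcx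
  have w2 := duad h zv F hd hwO hw2 hν0 (by rw [F.nfst]; exact hcx)
  have w3 := zero_duad h zv F hm2 hx hd hwO hw1 hw2 hwσ hc0 hcx
  have w4 : w * (sg h.toSit c.1).val = (sg h.toSit c.1).val * w := by
    rw [sg_eq h.toSit F hm2 hc0]
    calc w * (pr M c (μ c) * pr M (ν c) (μ (ν c))) = w * pr M c (μ c) * pr M (ν c) (μ (ν c)) := by group
      _ = pr M c (μ c) * (w * pr M (ν c) (μ (ν c))) := by rw [w1]; group
      _ = pr M c (μ c) * pr M (ν c) (μ (ν c)) * w := by rw [w2]; group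
  obtain ⟨D, hD⟩ : ∃ D, D = s * d * s⁻¹ := ⟨_, rfl⟩
  have hDD : D ∈ DD M := by rw [hD]; exact DD_conj h.toSit hsP hd
  obtain ⟨C, hC⟩ : ∃ C, C = (sg h.toSit c.1).val * pr M c (μ c) * D := ⟨_, rfl⟩
  have hsC : s * ((sg h.toSit x.1).val * pr M x (μ x) * d) * s⁻¹ = C := by
    rw [hC, ← hsσ, ← hsn, hD]; group
  have h1 := hsig (s⁻¹ * w * s) (by
    have e : pr M x (μ x) = s⁻¹ * pr M c (μ c) * s := by rw [← hsn]; group
    rw [e]
    calc s⁻¹ * w * s * (s⁻¹ * pr M c (μ c) * s) = s⁻¹ * (w * pr M c (μ c)) * s := by group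
      _ = s⁻¹ * pr M c (μ c) * s * (s⁻¹ * w * s) := by rw [w1]; group) (by
    have e : pr M x (x.1, 0) = s⁻¹ * pr M (c.1, 0) c * s := by rw [← hse]; group
    rw [e]
    calc s⁻¹ * w * s * (s⁻¹ * pr M (c.1, 0) c * s) = s⁻¹ * (w * pr M (c.1, 0) c) * s := by group
      _ = s⁻¹ * pr M (c.1, 0) c * s * (s⁻¹ * w * s) := by rw [w3]; group)
  obtain ⟨c₀, hc₀⟩ : ∃ c₀, c₀ = (sg h.toSit x.1).val * pr M x (μ x) * d := ⟨_, rfl⟩
  rw [← hc₀] at h1 hsC
  have h2 : s * (c₀⁻¹ * (s⁻¹ * w * s * c₀ * (s⁻¹ * w * s)⁻¹)) * s⁻¹ = C⁻¹ * (w * C * w⁻¹) := by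
    rw [← hsC]; group
  have h3 : C⁻¹ * (w * C * w⁻¹) = D⁻¹ * (w * D * w⁻¹) := by
    have e1 : w * C * w⁻¹ = (sg h.toSit c.1).val * pr M c (μ c) * (w * D * w⁻¹) := by
      calc w * C * w⁻¹ = w * (sg h.toSit c.1).val * pr M c (μ c) * D * w⁻¹ := by rw [hC]; group
        _ = (sg h.toSit c.1).val * (w * pr M c (μ c)) * D * w⁻¹ := by rw [w4]; group
        _ = (sg h.toSit c.1).val * pr M c (μ c) * (w * D * w⁻¹) := by rw [w1]; group
    rw [e1, hC]; group
  have h4 : D⁻¹ * (w * D * w⁻¹) = 1 ∨ D⁻¹ * (w * D * w⁻¹) = pr M c (μ c) := by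
    rw [← h3, ← h2]
    rcases h1 with e | e
    · left; rw [e]; group
    · right; rw [e, hsn]
  -- `D⁻¹ D^w` is centralised by `S0`
  have h5 : ∀ t ∈ S0 h.toSit, t * (D⁻¹ * (w * D * w⁻¹)) = D⁻¹ * (w * D * w⁻¹) * t := by
    intro t ht
    have f1 := Ht.RD.S0_DD h.toSit ht (inv_mem hDD)
    have f2 := Ht.RD.S0_DD h.toSit (hw2 t ht) hDD
    calc t * (D⁻¹ * (w * D * w⁻¹)) = t * D⁻¹ * (w * D * w⁻¹) := by group
      _ = D⁻¹ * (w * (w⁻¹ * t * w * D) * w⁻¹) := by rw [f1]; group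
      _ = D⁻¹ * (w * D * w⁻¹) * t := by rw [f2]; group
  have h6 : w * D = D * w := by
    rcases h4 with e | e
    · exact mul_inv_eq_iff_eq_mul.1 (inv_mul_eq_one.1 e).symm
    · exfalso
      obtain ⟨t, ht, g1, -⟩ := exists_in h.toSit (F.nfst c).symm hc0 hν0
      have g2 := h5 t ht
      rw [e] at g2
      have g3 := (h.comm_iff (h.SP (S0_le h.toSit ht)) (pr_mem M c (μ c))).1 g2 c
      rw [g1, E_pr_left M (F.mfst c).symm (F.mne c hc0).symm,
        E_pr_of_ne M (F.mfst c).symm (F.nne c hc0) (F.nmu c hc0)] at g3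
      exact zero_ne_one g3
  rw [← hD]
  refine ⟨h6, ?_⟩
  have e : s * ((sg h.toSit x.1).val * d) * s⁻¹ = (sg h.toSit c.1).val * D := by rw [← hsσ, hD]; group
  rw [e]
  calc w * ((sg h.toSit c.1).val * D) = w * (sg h.toSit c.1).val * D := by group
    _ = (sg h.toSit c.1).val * (w * D) := by rw [w4]; group
    _ = (sg h.toSit c.1).val * D * w := by rw [h6]; group

/-- a 2-subgroup normal in a subgroup normalised by `S` lies in `S` -/
theorem le_S_of {Y C : Subgroup G} (hY : IsPGroup 2 Y) (hYC : Y ≤ C) (hn : C ≤ normalizer (Y : Set G))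
    (hS : (S : Subgroup G) ≤ normalizer (C : Set G)) : Y ≤ (S : Subgroup G) := by
  have hp : Fact (Nat.Prime 2) := ⟨Nat.prime_two⟩
  have h1 : Y ≤ o2 C := MinSimple.VModule.le_o2 hYC hY hn
  have h3 : IsPGroup 2 ((S : Subgroup G) ⊔ o2 C : Subgroup G) :=
    IsPGroup.to_sup_of_normal_right' S.isPGroup' (o2_isPGroup C) (hS.trans (norm_o2 le_rfl))
  rw [← S.is_maximal' h3 le_sup_left]
  exact h1.trans le_sup_right

end main

section final

variable [Finite G] (h : SD S P V M) (zv : zc (o2 P) ≤ V ⊔ DD M) {μ ν : Equiv.Perm (Pt k m)} (F : Fours M μ ν)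
  (hm2 : m = 2) {x : Pt k m} (hx : x.2 ≠ 0) {d : G} (hd : d ∈ DD M)
  (hdT : ∀ s ∈ (S : Subgroup G), s * pr M x (μ x) = pr M x (μ x) * s → s * d = d * s)
  (hsig : ∀ g : G, g * pr M x (μ x) = pr M x (μ x) * g → g * pr M x (x.1, 0) = pr M x (x.1, 0) * g →
      ((sg h.toSit x.1).val * pr M x (μ x) * d)⁻¹ * (g * ((sg h.toSit x.1).val * pr M x (μ x) * d) * g⁻¹) = 1 ∨
      ((sg h.toSit x.1).val * pr M x (μ x) * d)⁻¹ * (g * ((sg h.toSit x.1).val * pr M x (μ x) * d) * g⁻¹) =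
        pr M x (μ x))

include zv F hm2 hx hd hdT hsig

seal _root_.Cfsg.Agent.Omega.IId.SymWrD.pp in
/-- **`O₂(C_G(σ_i d)) ≤ S0`**, `m = 2` -/
theorem o2_le_S0 : qz ((sg h.toSit x.1).val * d) ≤ S0 h.toSit := by
  classical
  by_contra hO
  obtain ⟨w, hwO, hw0, hw1, hw2⟩ := exists_w h hd hO
  have hwσ : w * (sg h.toSit x.1).val ≠ (sg h.toSit x.1).val * w := fun e =>
    hw0 (hOC h zv hd ⟨hwO, mem_centralizer_singleton_iff.2 e⟩)
  -- the conjugates of `y`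
  have hwy : w * ((sg h.toSit x.1).val * d) = (sg h.toSit x.1).val * d * w :=
    mem_centralizer_singleton_iff.1 (o2_le _ hwO)
  have hws : ∀ s ∈ (S : Subgroup G),
      w * (s * ((sg h.toSit x.1).val * d) * s⁻¹) = s * ((sg h.toSit x.1).val * d) * s⁻¹ * w := by
    intro s hs
    by_cases hsx : (pp M s x).1 = x.1
    · have h1 := (S1_comm h F hx hd hdT hs hsx).2
      rw [conj_of_comm h1]
      exact hwy
    · exact (comm_ds h zv F hm2 hx hd hwO hw1 hw2 hwσ hsig hs hsx).2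
  obtain ⟨C, hC⟩ : ∃ C : Subgroup G, C = centralizer {z : G | ∃ s ∈ (S : Subgroup G),
      z = s * ((sg h.toSit x.1).val * d) * s⁻¹} := ⟨_, rfl⟩
  have hwC : w ∈ C := by
    rw [hC, mem_centralizer_iff]
    rintro z ⟨s, hs, rfl⟩
    exact (hws s hs).symm
  have hCle : C ≤ cz ((sg h.toSit x.1).val * d) := by
    intro g hg
    rw [hC, mem_centralizer_iff] at hg
    exact mem_cent.2 (hg _ ⟨1, one_mem _, by group⟩).symm
  have hSC : (S : Subgroup G) ≤ normalizer (C : Set G) := by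
    rw [hC]
    apply norm_of
    intro t ht c hc
    rw [mem_centralizer_iff] at hc ⊢
    rintro z ⟨s, hs, rfl⟩
    have h1 := hc _ ⟨t⁻¹ * s, mul_mem (inv_mem ht) hs, rfl⟩
    calc s * ((sg h.toSit x.1).val * d) * s⁻¹ * (t * c * t⁻¹) =
        t * (t⁻¹ * s * ((sg h.toSit x.1).val * d) * (t⁻¹ * s)⁻¹ * c) * t⁻¹ := by group
      _ = t * c * t⁻¹ * (s * ((sg h.toSit x.1).val * d) * s⁻¹) := by rw [h1]; group
  have hwS : w ∈ (S : Subgroup G) := by
    refine le_S_of (Y := qz ((sg h.toSit x.1).val * d) ⊓ C) (C := C) h ((o2_isPGroup _).to_le inf_le_left)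
      inf_le_right ?_ hSC ⟨hwO, hwC⟩
    apply norm_of
    rintro c hc z ⟨hz1, hz2⟩
    exact ⟨conj_mem (le_normalizer_o2 _) (hCle hc) hz1, C.mul_mem (C.mul_mem hc hz2) (C.inv_mem hc)⟩
  by_cases hk : ∃ l : Fin k, l ≠ x.1
  · obtain ⟨l, hl⟩ := hk
    have h1 := tau_DD h zv F hm2 hx hd hwO hw1 hw2 hwσ hl
    have h2 : w * (sg h.toSit x.1).val * w⁻¹ ∈ V := h.amb.conj_mem (h.SP hwS) (sg_mem h.toSit x.1)
    exact tau_ne_one h hx (eq_one_of_DD h.toSit h2 h1)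
  · push Not at hk
    exact hw0 ((mem_S0 h.toSit).2 ⟨hwS, fun p => by rw [hk (pp M w p).1, hk p.1]⟩)

end final

end Cfsg.Agent.Omega.IId.SymWrD.AlphaA

end

private theorem dce_bde5e589132f : _root_.True := by
  try have : _root_.True := by simp only [_root_.Cfsg.Agent.Omega.IId.SwB.S0.congr_simp]
  exact _root_.True.intro
end

-- part: Mrg/Omega/IId/SymWrD/Ht/LE
section
prune_inst 0x80100000402200000000000080003c42c2000102006b0001f1000004048e9d4200008720c0a00b1200002a0400340040024c00400010000000000800411c0481002210000000a00021000000b002000000000000000000000000000000041000000000000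
set_option linter.all false
open scoped Cfsg.Agent.FastGrp

-- part: Mrg/Omega/HT/LemEA
section
/-!
# LEMMA E over `T`, with "`⟨r^{C(f)}⟩` is abelian" in place of "`r ∈ Z(O₂(C(f)))`" (helper971)

`GoodA r f` : the conjugates of `r` under `C_G(f)` commute.  `le_TA` : the statement of `LemE.le_T` with `GoodA`.
-/

set_option autoImplicit false
set_option linter.unusedSectionVars false

namespace Cfsg.Agent.Omega.HT.LemEA

open Subgroup Cfsg.Agent.Omega.BTwo Cfsg.Agent.Omega.HTwo Cfsg.Agent.Omega.HTwo.Par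
  Cfsg.Agent.Omega.HTwo.ThmA Cfsg.Agent.Omega.HT.LemE

variable {G : Type*} [Group G] {ι : Type*} {V : Subgroup G} {R : ι → Subgroup G}

/-- the conjugates of `r` under `C_G(e)` commute -/
def GoodA (r e : G) : Prop := ∀ g : G, g * e = e * g → r * (g * r * g⁻¹) = g * r * g⁻¹ * r

theorem GoodA.comm {r e : G} (h : GoodA r e) {g k : G} (hg : g * e = e * g) (hk : k * e = e * k) :
    g * r * g⁻¹ * (k * r * k⁻¹) = k * r * k⁻¹ * (g * r * g⁻¹) := by
  have h1 := h (g⁻¹ * k) (by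
    have h2 : g⁻¹ * e = e * g⁻¹ := by rw [inv_mul_eq_iff_eq_mul, ← mul_assoc, hg, mul_inv_cancel_right]
    calc g⁻¹ * k * e = g⁻¹ * (k * e) := by group
      _ = (g⁻¹ * e) * k := by rw [hk]; group
      _ = e * (g⁻¹ * k) := by rw [h2]; group)
  calc g * r * g⁻¹ * (k * r * k⁻¹) = g * (r * (g⁻¹ * k * r * (g⁻¹ * k)⁻¹)) * g⁻¹ := by group
    _ = g * (g⁻¹ * k * r * (g⁻¹ * k)⁻¹ * r) * g⁻¹ := by rw [h1]
    _ = k * r * k⁻¹ * (g * r * g⁻¹) := by group

/-- if `e` centralises `X^k`, the elements of `V^k` are conjugates of `r` under `C_G(e)` -/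
theorem cj_mem (b : BT V R) {i : ι} {r : G} (hr : ∀ x ∈ R i, x = 1 ∨ x = r) {e : G} {k : G}
    (hk : k * r = r * k) (h : e ∈ centralizer (cj k (XX V R) : Set G)) {w : G} (hw : w ∈ cj k V) :
    w = 1 ∨ ∃ g, g * e = e * g ∧ w = g * r * g⁻¹ := by
  obtain ⟨v, hv, rfl⟩ := hw
  change k * v * k⁻¹ = 1 ∨ _
  obtain ⟨j, hj⟩ := b.R_cov v hv
  obtain ⟨x, hx, e1⟩ := b.trans_X_one i j
  rw [← e1, mem_cj] at hj
  rcases hr _ hj with h0 | h0
  · left
    have h1 : v = 1 := by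
      have := congrArg (fun y => x * y * x⁻¹) h0
      simp only [mul_one, mul_inv_cancel] at this
      rw [← this]; group
    rw [h1, mul_one, mul_inv_cancel]
  · right
    have h1 : v = x * r * x⁻¹ := by rw [← h0]; group
    refine ⟨k * x * k⁻¹, mem_centralizer_iff.1 h _ (conj_mem_cj hx), ?_⟩
    have h4 : k⁻¹ * r * k = r := by rw [mul_assoc, ← hk]; group
    change k * v * k⁻¹ = _
    calc k * v * k⁻¹ = (k * x * k⁻¹) * (k * r * k⁻¹) * (k * x * k⁻¹)⁻¹ := by rw [h1]; group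
      _ = (k * x * k⁻¹) * r * (k * x * k⁻¹)⁻¹ := by rw [hk]; group

theorem comm_cj (b : BT V R) {i : ι} {r : G} (hr : ∀ x ∈ R i, x = 1 ∨ x = r) {e : G} (hg : GoodA r e)
    {k l : G} (hk : k * r = r * k) (hl : l * r = r * l) (h1 : e ∈ centralizer (cj k (XX V R) : Set G))
    (h2 : e ∈ centralizer (cj l (XX V R) : Set G)) {a c : G} (ha : a ∈ cj k V) (hc : c ∈ cj l V) :
    a * c = c * a := by
  rcases cj_mem b hr hk h1 ha with rfl | ⟨g, hge, rfl⟩
  · rw [one_mul, mul_one]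
  rcases cj_mem b hr hl h2 hc with rfl | ⟨g', hge', rfl⟩
  · rw [one_mul, mul_one]
  exact hg.comm hge hge'

end Cfsg.Agent.Omega.HT.LemEA
end

-- part: Mrg/Omega/IId/SymWrD/Ht/HatJ
section
/-!
# II.d, `SwBig` and `SwCv`, `D` arbitrary: `OtD` and `HTT` over a 2-group `T̂ ≥ T = C_S(n)` (bb OMEGA #21666, helper916)

`T̂` is a 2-subgroup of `C_G(n)` of odd index which contains `T = tn S M μ x` and normalises the line
`V_l = {1, n, r₂, r₃}`; hypothesis `zv` : `Ω₁Z(O₂(P)) ≤ V ⊔ DD M`.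

* `Fr.zcT_le` : `Ω₁Z(T̂) ≤ Ω₁Z(T)`; `Fr.hdecT` : `Ω₁Z(T̂) = ⟨n⟩ Z₀(T̂)`; `Fr.ztT` : `(zt)`;
* `Fr.otD` : `OtD T̂ V_l X n`; `Fr.otT` : `O₂(H)` centralises `V_l` for all `H ≥ ⟨T̂, X⟩`;
* `Fr.httT` : `HTT T̂ (T̂ ⊔ X) V_l R 0`; `Fr.coreT` : `Core` for every `z ∈ Z₀(T̂)`.
-/

set_option autoImplicit false
set_option linter.unusedSectionVars false

namespace Cfsg.Agent.Omega.IId.SymWrD.Ht

open Subgroup Cfsg Cfsg.Agent.Omega.MinPar Cfsg.Agent.Omega.FFThm
open Cfsg.Agent.ZN (o2 zc)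
open Cfsg.Agent.Omega.Half (Amb amb_of_loc)
open Cfsg.Agent.Omega.Half.SymA (Pt E Mv pm)
open Cfsg.Agent.Omega.HT.LineOf (Ln ln pts dd)
open Cfsg.Agent.Omega.HT.OtCore (OtD)
open Cfsg.Agent.Omega.BTwo (BT XX WW QQ O2)
open Cfsg.Agent.MinSimple.VModule (le_normalizer_o2 o2_isPGroup o2_le mem_zc zc_le)

universe u

variable {G : Type u} [Group G] [Finite G] {k m : ℕ}

namespace Fr

variable {S : Sylow 2 G} {P V D : Subgroup G} {M : SymK (S : Subgroup G) P V ⊥ k m} (h : Fr S P V D M)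
  {μ ν : Equiv.Perm (Pt k m)} (F : Fours M μ ν) {x : Pt k m} (hx : x.2 ≠ 0) {T : Subgroup G}
  (hTT : tn S M μ x ≤ T)
include h F hx hTT

/-- `Ω₁Z(T̂) ≤ Ω₁Z(T)` -/
theorem zcT_le : zc T ≤ zc (tn S M μ x) := by
  intro z hz
  have h1 := mem_zc.1 hz
  have h2 : z ∈ zc (o2 P) := h.mem_zc_of F hx (by rw [← pow_two]; exact h1.2.2) fun y hy =>
    h1.2.1 y (hTT (h.Q_le_tn F hx hy))
  exact mem_zc.2 ⟨h.Q_le_tn F hx (zc_le _ h2), fun s hs => h1.2.1 s (hTT hs), h1.2.2⟩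

variable (zv : zc (o2 P) ≤ V ⊔ DD M)
include zv

/-- `Ω₁Z(T̂) = ⟨n⟩ Z₀(T̂)` -/
theorem hdecT (hTa : T ≤ centralizer ({pr M x (μ x)} : Set G)) {z : G} (hz : z ∈ zc T) :
    ∃ v ∈ ln (h.line3 (h.tri F hx)), ∃ c, (∀ y ∈ h.X3 (h.tri F hx), y * c = c * y) ∧ (∀ t ∈ T, t * c = c * t) ∧
      z = v * c := by
  have t := h.tri F hx
  obtain ⟨v, hv, c, hcX, hcT, rfl⟩ := h.hdec F hx zv (h.zcT_le F hx hTT hz)
  have hz1 := mem_zc.1 hz
  -- `v ∈ ⟨n⟩`
  obtain ⟨τ, hτ, hτp⟩ := h.exists_swap F hx hx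
  have hτv : τ * v * τ⁻¹ = v := by
    have h1 := hz1.2.1 τ (hTT hτ)
    have h2 := hcT τ hτ
    have h3 : τ * v * c = v * τ * c := by
      calc τ * v * c = τ * (v * c) := by group
        _ = v * (c * τ) := by rw [h1]; group
        _ = v * τ * c := by rw [← h2]; group
    have h4 : τ * v = v * τ := mul_right_cancel h3
    rw [h4, mul_inv_cancel_right]
  have hτP := h.SP hτ.1
  have k0 : τ * pr M x (x.1, 0) * τ⁻¹ = pr M (μ x) (x.1, 0) := by
    rw [h.conj_pr hτP t.pr, hτp, Equiv.swap_apply_left, Equiv.swap_apply_of_ne_of_ne t.n2.symm t.n3.symm]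
  have hne : pr M x (x.1, 0) ≠ pr M (μ x) (x.1, 0) := by
    intro e
    have e1 : E M (pr M x (x.1, 0)) x = 1 := E_pr_left M t.pr t.n2
    rw [e, E_pr_of_ne M t.qr t.n1 t.n2] at e1
    exact zero_ne_one e1
  have hvn : ∀ s ∈ T, s * v = v * s := by
    have hv' : v = 1 ∨ v = pr M x (μ x) := by
      rcases hv with rfl | ⟨i, rfl⟩
      · exact Or.inl rfl
      · right
        fin_cases i
        · rfl
        · exfalso
          have e1 : τ * pr M x (x.1, 0) * τ⁻¹ = pr M x (x.1, 0) := hτv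
          rw [k0] at e1
          exact hne e1.symm
        · exfalso
          have e1 : τ * (pr M x (μ x) * pr M x (x.1, 0)) * τ⁻¹ = pr M x (μ x) * pr M x (x.1, 0) := hτv
          have e2 : τ * pr M x (μ x) * τ⁻¹ = pr M x (μ x) := by
            rw [mem_centralizer_singleton_iff.1 hτ.2, mul_inv_cancel_right]
          have e3 : τ * (pr M x (μ x) * pr M x (x.1, 0)) * τ⁻¹ =
              (τ * pr M x (μ x) * τ⁻¹) * (τ * pr M x (x.1, 0) * τ⁻¹) := by group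
          rw [e3, e2, k0] at e1
          exact hne (mul_left_cancel e1).symm
    intro s hs
    rcases hv' with rfl | rfl
    · rw [mul_one, one_mul]
    · exact mem_centralizer_singleton_iff.1 (hTa hs)
  refine ⟨v, hv, c, hcX, fun s hs => ?_, rfl⟩
  have h1 := hz1.2.1 s hs
  have h2 := hvn s hs
  have h3 : v * (s * c) = v * (c * s) := by
    calc v * (s * c) = (v * s) * c := by group
      _ = s * (v * c) := by rw [← h2]; group
      _ = v * (c * s) := by rw [h1]; group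
  exact mul_left_cancel h3

/-- `(zt)` over `T̂` -/
theorem ztT : ∃ a ∈ T, ∃ b ∈ ln (h.line3 (h.tri F hx)), a * b * a⁻¹ = b * pr M x (μ x) ∧ ∀ c ∈ T, c * c = 1 →
    (∀ t ∈ T, t ∈ centralizer (ln (h.line3 (h.tri F hx)) : Set G) → t * c = c * t) →
      a * c * a⁻¹ = c ∨ a * c * a⁻¹ = c * pr M x (μ x) := by
  have t := h.tri F hx
  obtain ⟨τ, hτ, hτp⟩ := h.exists_swap F hx hx
  have hτP := h.SP hτ.1
  have hE : E M (pr M x (x.1, 0)) x ≠ E M (pr M x (x.1, 0)) (μ x) := by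
    rw [E_pr_left M t.pr t.n2, E_pr_of_ne M t.pr t.n1.symm t.n3]
    exact one_ne_zero
  refine ⟨τ, hTT hτ, pr M x (x.1, 0), (h.line3 t).dd_mem 1, h.conj_swap hτP t.pq hτp (pr_mem M _ _) hE, ?_⟩
  intro c _ hcc hcom
  have hcz : c ∈ zc (o2 P) := by
    refine h.mem_zc_of F hx hcc fun y hy => hcom y (hTT (h.Q_le_tn F hx hy)) ?_
    have h1 : y ∈ centralizer (V : Set G) := by
      have := h.Q_eq ▸ hy
      exact this.2
    exact centralizer_le (h.ln_le t) h1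
  obtain ⟨v, hv, d, hd, rfl⟩ := h.zz_dec zv hcz
  have hτd : τ * d * τ⁻¹ = d := by
    rw [(mem_DD.1 hd).2 τ hτP fun r => ?_, mul_inv_cancel_right]
    rw [hτp]
    by_cases h1 : r = x
    · rw [h1, Equiv.swap_apply_left, F.mfst]
    by_cases h2 : r = μ x
    · rw [h2, Equiv.swap_apply_right, F.mfst]
    · rw [Equiv.swap_apply_of_ne_of_ne h1 h2]
  have e1 : τ * (v * d) * τ⁻¹ = (τ * v * τ⁻¹) * (τ * d * τ⁻¹) := by group
  rw [e1, hτd]
  by_cases hEv : E M v x = E M v (μ x)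
  · left
    rw [h.comm_perp_of (p := x) (q := μ x) hτP (Or.inr hτp) hv hEv, mul_inv_cancel_right]
  · right
    have h2 : pr M x (μ x) * d = d * pr M x (μ x) := Sit.zz_comm (h.VZ (pr_mem M x (μ x))) (mem_DD.1 hd).1
    rw [h.conj_swap hτP t.pq hτp hv hEv, mul_assoc, h2, ← mul_assoc]

variable (hTp : IsPGroup 2 T) (hTN : T ≤ normalizer (ln (h.line3 (h.tri F hx)) : Set G))
  (hTa : T ≤ centralizer ({pr M x (μ x)} : Set G))
  (syl : ¬ 2 ∣ T.relIndex (centralizer ({pr M x (μ x)} : Set G)))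
include hTp hTN hTa syl

/-- **`OtD` over `T̂`** -/
theorem otD : OtD T (ln (h.line3 (h.tri F hx))) (h.X3 (h.tri F hx)) (pr M x (μ x)) where
  T_p := hTp
  T_r := fun s hs => mem_centralizer_singleton_iff.1 (hTa hs)
  odd := syl
  V_T := ((h.ln_le (h.tri F hx)).trans (h.V_le_tn F hx)).trans hTT
  V_sq := fun v hv => h.Vsq (h.ln_le (h.tri F hx) hv)
  V_four := by
    have t := h.tri F hx
    intro v hv hv1 hvr w hw
    have aa := (h.line3 t).aa
    have bb := (h.line3 t).bb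
    have cm := (h.line3 t).comm
    have e0 : dd (pr M x (μ x)) (pr M x (x.1, 0)) 0 = pr M x (μ x) := rfl
    have e1 : dd (pr M x (μ x)) (pr M x (x.1, 0)) 1 = pr M x (x.1, 0) := rfl
    have e2 : dd (pr M x (μ x)) (pr M x (x.1, 0)) 2 = pr M x (μ x) * pr M x (x.1, 0) := rfl
    rcases hv with rfl | ⟨i, rfl⟩
    · exact absurd rfl hv1
    rcases hw with rfl | ⟨j, rfl⟩
    · exact Or.inl rfl
    right
    fin_cases i
    · exact absurd rfl hvr
    · fin_cases j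
      · exact Or.inl rfl
      · exact Or.inr (Or.inl rfl)
      · right; right
        show dd _ _ 2 = dd _ _ 1 * _
        rw [e2, e1, cm]
    · fin_cases j
      · exact Or.inl rfl
      · right; right
        show dd _ _ 1 = dd _ _ 2 * _
        rw [e2, e1, cm, mul_assoc, aa, mul_one]
      · exact Or.inr (Or.inl rfl)
  r_mem := (h.line3 (h.tri F hx)).dd_mem 0
  r_ne := h.pr_ne (h.tri F hx).pq (h.tri F hx).n1
  T_V := hTN
  X_V := (h.bt3 (h.tri F hx)).X_le_NV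
  trans := by
    have t := h.tri F hx
    intro v hv hv1
    rcases hv with rfl | ⟨i, rfl⟩
    · exact absurd rfl hv1
    obtain ⟨y, hy, e⟩ := (h.bt3 t).trans_X_one 0 i
    refine ⟨y, hy, ?_⟩
    have h1 : y * pr M x (μ x) * y⁻¹ ∈ pts (pr M x (μ x)) (pr M x (x.1, 0)) i := by
      rw [← e]
      exact BTwo.conj_mem_cj ((h.line3 t).mem_pts.2 (Or.inr rfl))
    exact ((h.line3 t).mem_pts.1 h1).resolve_left fun e => h.pr_ne t.pq t.n1 (conj_eq_one_iff.1 e)
  zt := h.ztT F hx hTT zv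

/-- **(OT)** over `T̂` -/
theorem otT {H : Subgroup G} (hTH : T ≤ H) (hXH : h.X3 (h.tri F hx) ≤ H) :
    o2 H ≤ centralizer (ln (h.line3 (h.tri F hx)) : Set G) :=
  (h.otD F hx hTT zv hTp hTN hTa syl).ot hTH hXH

/-- **the structure `HTT` over `T̂`** -/
theorem httT : HT.HTT T (T ⊔ h.X3 (h.tri F hx)) (ln (h.line3 (h.tri F hx)))
    (pts (pr M x (μ x)) (pr M x (x.1, 0))) 0 :=
  (h.line3 (h.tri F hx)).htt (h.bt3 (h.tri F hx)) h.char2 hTp syl hTa hTN
    (fun _ hz => h.hdecT F hx hTT zv hTa hz)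
    fun _ hTM hXM _ _ => h.otT F hx hTT zv hTp hTN hTa syl hTM hXM

end Fr

end Cfsg.Agent.Omega.IId.SymWrD.Ht
end

-- part: Mrg/Omega/IId/SymWrD/Ht/LE
section
section


/-!
# II.d, `SwBig` and `SwCv`, `T`-`T`, `D` arbitrary: LEMMA E over `T = C_S(n)` (bb OMEGA #19821, (LE))

`V` = the sum of `k` even-subset modules of degree `2 ^ m + 1`, `r = pr M a b` a duad, `N = C_G(r)`.
If `Λ ≤ R 0 × C_G(X)` is normalised by `N`, then `Λ ≤ R 0`.

Otherwise `Λ R 0` contains an involution `f = v d`, `v ∈ V`, `d ∈ DD M`, centralised by `X` and `T`.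
* `v ≠ 1` : `v` is not constant on `Δ = Ω_1 - {a, b}` or on another block `Δ`, so `Λ R 0` contains all duads
  inside `Δ`.  Three of them with product `1`: one of the three has its conjugate by the partner `h ∈ N` in
  `C_G(X)` (`kill`).
* `v = 1` : the conjugates of `r` under `C_G(f)` and under `C_G(r f)` commute (LEMMA J for `f` and for
  `pr M (ν x) (μ (ν x)) f`); `bip`.
-/

set_option autoImplicit false
set_option linter.unusedSectionVars false

namespace Cfsg.Agent.Omega.IId.SymWrD.Ht.LE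

open Subgroup Pointwise Cfsg Cfsg.Agent.Omega.MinPar Cfsg.Agent.Omega.FFThm
open Cfsg.Agent.ZN (o2 zc)
open Cfsg.Agent.Omega.Half.SymA (Pt E)
open Cfsg.Agent.Omega.BTwo Cfsg.Agent.Omega.HTwo Cfsg.Agent.Omega.HTwo.Par
open Cfsg.Agent.Omega.HT.LemEA (GoodA)
open Cfsg.Agent.Omega.HT.LineOf (Ln ln pts dd)
open Cfsg.Agent.Omega.IId.SymWr.Ht.LE (exists_sep exists_third)
open Cfsg.Agent.MinSimple.VModule (le_normalizer_o2 o2_isPGroup o2_le mem_zc zc_le)

universe u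

variable {G : Type u} [Group G] {P V : Subgroup G} {k m : ℕ}

/-! ### The orbit argument -/

/-- `e`, `r e` good, `e ∈ Ξ`, `Ξ` normalised by `N(R i)` and `Ξ ≤ R i × C_X`: contradiction -/
theorem bip [Finite G] {ι : Type*} {L : Subgroup G} {R : ι → Subgroup G} (b : BT L R) {i : ι} {r : G}
    (hr : ∀ x ∈ R i, x = 1 ∨ x = r)
    (hKr : ∀ g ∈ normalizer (R i : Set G), g * r = r * g) {T : Subgroup G} (hTV : T ≤ normalizer (L : Set G))
    (hodd : ¬ 2 ∣ T.relIndex (normalizer (R i : Set G)))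
    (hnc : ∃ k ∈ normalizer (R i : Set G), ∃ v ∈ L, ∃ w ∈ cj k L, v * w ≠ w * v) {Ξ : Subgroup G}
    (hKΞ : normalizer (R i : Set G) ≤ normalizer (Ξ : Set G)) (hΞ : ∀ l ∈ Ξ, ∃ a ∈ R i, a * l ∈ CenX L R)
    {e : G} (he : e ∈ Ξ) (g1 : GoodA r e) (g2 : GoodA r (r * e)) : False := by
  obtain ⟨k0, hk0, v0, hv0, w0, hw0, hne⟩ := hnc
  have hEk : ∀ k ∈ normalizer (R i : Set G), ∀ f ∈ Ξ, f ∈ centralizer (cj k (XX L R) : Set G) ∨
      r * f ∈ centralizer (cj k (XX L R) : Set G) := by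
    intro k hk f hf
    have h1 : k⁻¹ * f * k ∈ Ξ := conj_inv_mem_of_normalizer (hKΞ hk) hf
    obtain ⟨a, ha, h2⟩ := hΞ _ h1
    rw [centralizer_cj, mem_cj, mem_cj]
    rcases hr a ha with rfl | rfl
    · rw [one_mul] at h2
      exact Or.inl h2
    · right
      have h3 : k⁻¹ * (a * f) * k = a * (k⁻¹ * f * k) := by
        have h4 : k⁻¹ * a = a * k⁻¹ := by
          rw [inv_mul_eq_iff_eq_mul, ← mul_assoc, hKr k hk, mul_inv_cancel_right]
        calc k⁻¹ * (a * f) * k = (k⁻¹ * a) * f * k := by group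
          _ = _ := by rw [h4]; group
      rw [h3]; exact h2
  refine hne (HT.LemE.commute_of_bipartite hTV hodd
    (fun L' => ∀ k ∈ normalizer (R i : Set G), cj k L = L' → e ∈ centralizer (cj k (XX L R) : Set G)) ?_ ?_
    k0 hk0 v0 hv0 w0 hw0)
  · intro k hk l hl h1 h2 a ha c hc'
    exact HT.LemEA.comm_cj b hr g1 (hKr k hk) (hKr l hl) (h1 k hk rfl) (h2 l hl rfl) ha hc'
  · have key : ∀ k ∈ normalizer (R i : Set G),
        ¬ (∀ k' ∈ normalizer (R i : Set G), cj k' L = cj k L → e ∈ centralizer (cj k' (XX L R) : Set G)) →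
        ∃ k' ∈ normalizer (R i : Set G), cj k' L = cj k L ∧ r * e ∈ centralizer (cj k' (XX L R) : Set G) := by
      intro k hk h
      push Not at h
      obtain ⟨k', hk', e1, hne⟩ := h
      exact ⟨k', hk', e1, (hEk k' hk' e he).resolve_left hne⟩
    intro k hk l hl h1 h2 a ha c hc'
    obtain ⟨k', hk', e1, h3⟩ := key k hk h1
    obtain ⟨l', hl', e2, h4⟩ := key l hl h2
    rw [← e1] at ha
    rw [← e2] at hc'
    exact HT.LemEA.comm_cj b hr g2 (hKr k' hk') (hKr l' hl') h3 h4 ha hc'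

/-- `r ∈ Z(O₂(C(e)))` : the conjugates of `r` under `C(e)` commute -/
theorem goodA_of [Finite G] (hG : IsCharacteristicTwoType G) {r e : G} (hee : e * e = 1) (he1 : e ≠ 1)
    (hre : r * e = e * r) (hc : ∀ g ∈ o2 (centralizer ({e} : Set G)), g * r = r * g) : GoodA r e := by
  intro g hg
  have hr : r ∈ o2 (centralizer ({e} : Set G)) := by
    refine MinSimple.Geo.inf_centralizer_o2_le hG (MinSimple.Geo.isTwoLocal_centralizer hee he1)
      (mem_inf.2 ⟨mem_centralizer_singleton_iff.2 hre, ?_⟩)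
    rw [mem_centralizer_iff]
    exact hc
  have h1 : g * r * g⁻¹ ∈ o2 (centralizer ({e} : Set G)) :=
    (mem_normalizer_iff.1 (le_normalizer_o2 _ (mem_centralizer_singleton_iff.2 hg)) r).1 hr
  exact (hc _ h1).symm

/-! ### The frame -/

section main

variable {S : Sylow 2 G} {M : SymK (S : Subgroup G) P V ⊥ k m} {D : Subgroup G} (h : Fr S P V D M)

include h

/-- `f = v d`, `v ∈ V` separates `p`, `q`: a subgroup normalised by `N` containing `f` contains the duad -/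
theorem pr_mem_of {a b p q : _root_.Cfsg.Agent.Omega.Half.SymA.Pt k m} (hab : a.1 = b.1) (hpq : p.1 = q.1) (hpa : p ≠ a) (hpb : p ≠ b) (hqa : q ≠ a)
    (hqb : q ≠ b) {Λ : Subgroup G} (hN : centralizer ({pr M a b} : Set G) ≤ normalizer (Λ : Set G)) {v d : G}
    (hv : v ∈ V) (hd : d ∈ DD M) (hfΛ : v * d ∈ Λ) (hne : E M v p ≠ E M v q) : pr M p q ∈ Λ := by
  classical
  have key : ∀ r : _root_.Cfsg.Agent.Omega.Half.SymA.Pt k m, (Equiv.swap p q r).1 = r.1 := by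
    intro r
    rcases eq_or_ne r p with rfl | hx
    · rw [Equiv.swap_apply_left, hpq]
    · rcases eq_or_ne r q with rfl | hy
      · rw [Equiv.swap_apply_right, hpq]
      · rw [Equiv.swap_apply_of_ne_of_ne hx hy]
  obtain ⟨g, hg, h4⟩ := h.exists_pp (π := Equiv.swap p q) key
  have hgr : g * pr M a b = pr M a b * g := by
    refine h.comm_pr hg hab (Or.inl ⟨?_, ?_⟩)
    · rw [h4, Equiv.swap_apply_of_ne_of_ne hpa.symm hqa.symm]
    · rw [h4, Equiv.swap_apply_of_ne_of_ne hpb.symm hqb.symm]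
  have hgN : g ∈ centralizer ({pr M a b} : Set G) := mem_centralizer_singleton_iff.2 hgr
  have h5 : g * (v * d) * g⁻¹ ∈ Λ := (mem_normalizer_iff.1 (hN hgN) _).1 hfΛ
  have hgd : g * d = d * g := (mem_DD.1 hd).2 g hg fun r => by rw [h4]; exact key r
  have hdd : d * d = 1 := Sit.zz_sq (mem_DD.1 hd).1
  have h6 : pr M p q = v * (g * v * g⁻¹) := by
    rw [h.conj_swap hg hpq h4 hv hne, ← mul_assoc, h.Vsq hv, one_mul]
  have h7 : v * (g * v * g⁻¹) = (v * d) * (g * (v * d) * g⁻¹) := by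
    have h8 : d * (g * v * g⁻¹) = g * v * g⁻¹ * d :=
      Sit.zz_comm (mem_DD.1 hd).1 (h.VZ (h.amb.conj_mem hg hv))
    calc v * (g * v * g⁻¹) = v * (g * v * g⁻¹) * (d * d) := by rw [hdd, mul_one]
      _ = v * (g * v * g⁻¹ * d) * d := by group
      _ = v * d * (g * v * g⁻¹) * d := by rw [← h8]; group
      _ = v * d * (g * v * (g⁻¹ * d)) := by group
      _ = v * d * (g * v * (d * g⁻¹)) := by
          rw [show g⁻¹ * d = d * g⁻¹ by
            rw [inv_mul_eq_iff_eq_mul, ← mul_assoc, hgd, mul_inv_cancel_right]]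
      _ = (v * d) * (g * (v * d) * g⁻¹) := by group
  rw [h6, h7]
  exact mul_mem hfΛ h5

seal _root_.Cfsg.Agent.Omega.IId.SymWrD.pp in
/-- an element of `X` inducing a transposition -/
theorem exists_sw [Finite G] {p q w : _root_.Cfsg.Agent.Omega.Half.SymA.Pt k m} (hpq : p.1 = q.1) (hpw : p.1 = w.1) (npq : p ≠ q)
    (npw : p ≠ w) {ι : Type*} {L : Subgroup G} {R : ι → Subgroup G} (B : BT L R)
    {i j l : ι} (h0 : R i = zpowers (pr M p q)) (h1 : R j = zpowers (pr M p w)) (h2 : R l = zpowers (pr M q w))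
    {g v : G} (hg : g ∈ normalizer (R i : Set G)) (hv : v ∈ L)
    (hgv : cj (g * v * g⁻¹) (R j) = R l) : g * v * g⁻¹ ∈ XX L R ∧ g * v * g⁻¹ ∈ P ∧
      pp M (g * v * g⁻¹) = Equiv.swap p q := by
  have hx : g * v * g⁻¹ ∈ WW L (R i) := cj_le_WW hg (conj_mem_cj hv)
  have hx1 : g * v * g⁻¹ ∈ o2 (centralizer ({pr M p q} : Set G)) := by
    have h3 : g * v * g⁻¹ ∈ o2 (normalizer (R i : Set G)) := B.W_le_Q i hx
    rwa [h0, MinSimple.Basic.normalizer_zpowers_eq (by rw [pow_two]; exact h.Vsq (pr_mem M p q))] at h3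
  have hP := h.Qle hpq npq hx1
  refine ⟨W_le_X L R i hx, hP, (h.Qpp hpq npq hx1).resolve_left fun h5 => ?_⟩
  have h6 := mem_centralizer_iff.1 ((h.eq_one_iff hP).1 h5) (pr M p w) (pr_mem M p w)
  have h7 : g * v * g⁻¹ * pr M p w * (g * v * g⁻¹)⁻¹ = pr M p w := by
    rw [← h6, mul_inv_cancel_right]
  have h8 : pr M p w ∈ R l := by
    rw [← hgv, ← h7]
    exact conj_mem_cj (by rw [h1]; exact mem_zpowers _)
  have h9 : pr M p w ∈ zpowers (pr M q w) := by rw [← h2]; exact h8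
  have h10 := E_pr_left M hpw npw
  rcases (HT.LineOf.mem_zp h.pr_sq).1 h9 with e | e
  · rw [e, Half.SymA.E_one M] at h10
    exact zero_ne_one h10
  · rw [e, E_pr_of_ne M (hpq.symm.trans hpw) npq npw] at h10
    exact zero_ne_one h10

/-- if the conjugate of a duad outside `{a, b}` under the partner is centralised by `X`: contradiction -/
theorem kill [Finite G] {a b p q : _root_.Cfsg.Agent.Omega.Half.SymA.Pt k m} (hab : a.1 = b.1) (hpq : p.1 = q.1) (npq : p ≠ q) (hpa : p ≠ a)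
    (hpb : p ≠ b) (hqa : q ≠ a) (hqb : q ≠ b) {ι : Type*} {L : Subgroup G} {R : ι → Subgroup G} (B : BT L R)
    (hLV : L ≤ V) {i0 i1 i2 : ι} (hi : i1 ≠ i2) (hr1 : pr M a b ≠ 1) {g v : G}
    (hgr : g * pr M a b * g⁻¹ = pr M a b) (hrR : pr M a b ∈ R i0) (hv : v ∈ L)
    (hgv : cj (g * v * g⁻¹) (R i1) = R i2) (hX : g * pr M p q * g⁻¹ ∈ CenX L R) : False := by
  set r := pr M a b with hrdef
  set y := pr M p q with hy
  obtain ⟨x, hx, hxR⟩ := B.trans_X_one i0 i1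
  set! u := g⁻¹ * x * g with hu
  have huy : u * y = y * u := by
    have h1 := mem_centralizer_iff.1 hX x hx
    calc u * y = g⁻¹ * (x * (g * y * g⁻¹)) * g := by rw [hu]; group
      _ = g⁻¹ * ((g * y * g⁻¹) * x) * g := by rw [h1]
      _ = y * u := by rw [hu]; group
  have huC : u ∈ centralizer ({y} : Set G) := mem_centralizer_singleton_iff.2 huy
  have hEr : E M r p = E M r q := by
    rw [hrdef, E_pr_of_ne M hab hpa hpb, E_pr_of_ne M hab hqa hqb]
  have hrc : ∀ g ∈ o2 (centralizer ({y} : Set G)), g * r = r * g := fun g hg =>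
    h.perp_comm hpq npq hg (pr_mem M a b) hEr
  have hvV : v ∈ V := hLV hv
  have hvQ : v ∈ o2 (centralizer ({y} : Set G)) := h.V_le hpq npq hvV
  -- `u r u⁻¹` commutes with `v`
  have h1 : v * (u * r * u⁻¹) = u * r * u⁻¹ * v := by
    have h2 : u⁻¹ * v * u ∈ o2 (centralizer ({y} : Set G)) :=
      conj_inv_mem_of_normalizer (le_normalizer_o2 _ huC) hvQ
    have h3 := hrc _ h2
    calc v * (u * r * u⁻¹) = u * ((u⁻¹ * v * u) * r) * u⁻¹ := by group
      _ = u * (r * (u⁻¹ * v * u)) * u⁻¹ := by rw [h3]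
      _ = u * r * u⁻¹ * v := by group
  have h4 : x * r * x⁻¹ ∈ R i1 := by rw [← hxR]; exact conj_mem_cj hrR
  have h5 : g * (u * r * u⁻¹) * g⁻¹ = x * r * x⁻¹ := by
    calc g * (u * r * u⁻¹) * g⁻¹ = x * (g * r * g⁻¹) * x⁻¹ := by rw [hu]; group
      _ = x * r * x⁻¹ := by rw [hgr]
  have h6 : g * v * g⁻¹ * (x * r * x⁻¹) * (g * v * g⁻¹)⁻¹ = x * r * x⁻¹ := by
    calc g * v * g⁻¹ * (x * r * x⁻¹) * (g * v * g⁻¹)⁻¹
        = g * (v * (g⁻¹ * (x * r * x⁻¹) * g)) * v⁻¹ * g⁻¹ := by group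
      _ = g * (v * (u * r * u⁻¹)) * v⁻¹ * g⁻¹ := by rw [← h5]; group
      _ = g * (u * r * u⁻¹ * v) * v⁻¹ * g⁻¹ := by rw [h1]
      _ = x * r * x⁻¹ := by rw [← h5]; group
  have h7 : x * r * x⁻¹ ∈ R i2 := by
    rw [← hgv, ← h6]
    exact conj_mem_cj h4
  have h8 := B.eq_one hi h4 h7
  have h9 : r = 1 := by
    calc r = x⁻¹ * (x * r * x⁻¹) * x := by group
      _ = 1 := by rw [h8]; group
  exact hr1 h9

end main

/-! ### The theorem -/

section thm

variable [Finite G] {S : Sylow 2 G} {M : SymK (S : Subgroup G) P V ⊥ k m} {D : Subgroup G} (h : Fr S P V D M)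
  {μ ν : Equiv.Perm (_root_.Cfsg.Agent.Omega.Half.SymA.Pt k m)} (F : Fours M μ ν) {x : _root_.Cfsg.Agent.Omega.Half.SymA.Pt k m} (hx : x.2 ≠ 0) (zv : zc (o2 P) ≤ V ⊔ DD M)
  (syl : ¬ 2 ∣ (tn S M μ x).relIndex (centralizer ({pr M x (μ x)} : Set G)))

include h F hx zv syl

/-- `O₂(C(e)) ≤ T` for `1 ≠ e ∈ Z₀` -/
theorem o2_le_tn {e : G} (he : e ∈ zc (tn S M μ x) ⊓
    centralizer ((tn S M μ x ⊔ h.X3 (h.tri F hx) : Subgroup G) : Set G)) :
    o2 (centralizer ({e} : Set G)) ≤ tn S M μ x := by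
  have hT : tn S M μ x ≤ centralizer ({e} : Set G) := fun s hs =>
    mem_centralizer_singleton_iff.2 ((mem_zc.1 he.1).2.1 s hs)
  have hX : h.X3 (h.tri F hx) ≤ centralizer ({e} : Set G) := fun y hy =>
    mem_centralizer_singleton_iff.2 (mem_centralizer_iff.1 he.2 y (mem_sup_right hy))
  have h1 := h.lemJ' F hx zv syl (K := o2 (centralizer ({e} : Set G))) (hT.trans (le_normalizer_o2 _))
    (hX.trans (le_normalizer_o2 _)) (fun g hg => by
      obtain ⟨n, hn⟩ := o2_isPGroup (centralizer ({e} : Set G)) ⟨g, hg⟩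
      refine ⟨n, ?_⟩
      have h2 : g ^ 2 ^ n = 1 := congrArg Subtype.val hn
      rw [h2]
      exact one_mem _)
  exact HT.LemE.le_of_odd (K := tn S M μ x ⊔ o2 (centralizer ({e} : Set G))) Fr.tn_p le_sup_left h1
    (o2_isPGroup _) le_sup_right (hT.trans (le_normalizer_o2 _))

/-- `r` is good for `1 ≠ e ∈ Z₀` -/
theorem good {e : G} (he : e ∈ zc (tn S M μ x) ⊓
    centralizer ((tn S M μ x ⊔ h.X3 (h.tri F hx) : Subgroup G) : Set G)) (he1 : e ≠ 1) :
    GoodA (pr M x (μ x)) e := by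
  have h1 := o2_le_tn h F hx zv syl he
  have hee : e * e = 1 := by rw [← pow_two]; exact (mem_zc.1 he.1).2.2
  have hre : pr M x (μ x) * e = e * pr M x (μ x) :=
    (mem_zc.1 he.1).2.1 _ (h.V_le_tn F hx (pr_mem M x (μ x)))
  refine goodA_of h.char2 hee he1 hre fun g hg => ?_
  exact mem_centralizer_singleton_iff.1 (h1 hg).2

/-- `r` is good for `r d`, `1 ≠ d ∈ DD M` centralised by `T` -/
theorem good' {d : G} (hd : d ∈ DD M) (hTd : ∀ s ∈ tn S M μ x, s * d = d * s) (hd1 : d ≠ 1) :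
    GoodA (pr M x (μ x)) (pr M x (μ x) * d) := by
  have hn := h.nu_ne F hx
  set n := pr M x (μ x) with hndef
  set! n' := pr M (ν x) (μ (ν x)) with hn'
  have hnV : n ∈ V := pr_mem M _ _
  have hn'V : n' ∈ V := pr_mem M _ _
  have hzz := (mem_DD.1 hd).1
  have hcomm : ∀ {v : G}, v ∈ V → v * d = d * v := fun hv => Sit.zz_comm (h.VZ hv) hzz
  have hdd : d * d = 1 := Sit.zz_sq hzz
  have hsq : ∀ {v : G}, v ∈ V → v * d * (v * d) = 1 := by
    intro v hv
    calc v * d * (v * d) = v * (d * v) * d := by group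
      _ = (v * v) * (d * d) := by rw [← hcomm hv]; group
      _ = 1 := by rw [h.Vsq hv, hdd, one_mul]
  have hne : ∀ {v : G}, v ∈ V → v * d ≠ 1 := by
    intro v hv e
    have h1 : v = d⁻¹ := eq_inv_of_mul_eq_one_left e
    have h2 := h.eq_one_of_DD hv (by rw [h1]; exact inv_mem hd)
    rw [h2, one_mul] at e
    exact hd1 e
  -- `n' d ∈ Z₀`
  have hZ : n' * d ∈ zc (tn S M μ x) ⊓
      centralizer ((tn S M μ x ⊔ h.X3 (h.tri F hx) : Subgroup G) : Set G) := by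
    refine mul_mem (h.sib_mem F hx) ?_
    have h1 := h.mem_Z0' F hx (c := 1) (one_mem V) hd (fun s _ => by rw [mul_one, one_mul]) hTd
      (Half.SymA.E_one M _) (Half.SymA.E_one M _) (Half.SymA.E_one M _)
    rwa [one_mul] at h1
  have h1 := o2_le_tn h F hx zv syl hZ
  -- `s ∈ S` inducing `ν`
  have hνD : ν ∈ F.FD := ⟨fun p => Or.inr (Or.inr (Or.inl rfl)), fun p => (F.comm p).symm⟩
  obtain ⟨s, hs, hsν⟩ := Fours.exists_D h.toSit F hνD
  have hsS : s ∈ (S : Subgroup G) := hs.1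
  have hsP := h.SP hsS
  have hsn : s * n * s⁻¹ = n' := by
    rw [hndef, h.conj_pr hsP (F.mfst x).symm, hsν, hn', F.comm]
  have hsd : s * d = d * s := (mem_DD.1 hd).2 s hsP fun r => by rw [hsν]; exact F.nfst r
  have hsnd : s * (n * d) * s⁻¹ = n' * d := by
    calc s * (n * d) * s⁻¹ = s * n * s⁻¹ * (s * d * s⁻¹) := by group
      _ = n' * d := by rw [hsn, mul_inv_eq_of_eq_mul hsd]
  refine goodA_of h.char2 (hsq hnV) (hne hnV) ?_ fun g hg => ?_
  · rw [← mul_assoc, mul_assoc n d n, ← hcomm hnV, ← mul_assoc]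
  · have h2 : s * g * s⁻¹ ∈ o2 (centralizer ({n' * d} : Set G)) := ExcFree.o2_cj hsnd hg
    have h3 := h1 h2
    rw [← h.tn_nu F hx] at h3
    have h4 := mem_centralizer_singleton_iff.1 h3.2
    change s * g * s⁻¹ * n' = n' * (s * g * s⁻¹) at h4
    rw [← hsn] at h4
    calc g * n = s⁻¹ * (s * g * s⁻¹ * (s * n * s⁻¹)) * s := by group
      _ = s⁻¹ * (s * n * s⁻¹ * (s * g * s⁻¹)) * s := by rw [h4]
      _ = n * g := by group

end thm

end Cfsg.Agent.Omega.IId.SymWrD.Ht.LE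

end

section


/-!
# THEOREM SYL^ (bb OMEGA #21666, helper916), steps (2), (3), over a line `{1, a, b, ab}`

`Cf h T` : `T ≤ C(a)` is a 2-group of odd index in `N_G({1, a, b, ab})`, with the decomposition of `Ω₁Z(T)` and `(zt)`.
* `Cf.main` : `T < T'`, `T' ≤ C(a)` a 2-group of odd index in `C_G(a)`, `1 ≠ x ∈ Ω₁Z(T') ∩ C(X)` `⟹` there are
  `1 ≠ k ∈ Ω₁Z(T) ∩ C(X)` and `γ ∈ C(k)`, `a^γ = a k`, `b^γ = b k`.
-/

set_option autoImplicit false
set_option linter.unusedSectionVars false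

namespace Cfsg.Agent.Omega.IId.SymWrD.Ht.TwoA

open Subgroup Cfsg
open Cfsg.Agent.ZN (o2 zc)
open Cfsg.Agent.Omega.HT.LineOf (Ln ln pts dd)
open Cfsg.Agent.Omega.BTwo (BT XX WW QQ O2 cj)
open Cfsg.Agent.MinSimple.VModule (le_normalizer_o2 o2_isPGroup o2_le mem_zc zc_le le_o2 o2_le_of_sylow)

universe u

variable {G : Type u} [Group G]

/-- the configuration -/
structure Cf {a b : G} (h : Ln a b) (T : Subgroup G) : Prop where
  bt : BT (ln h) (pts a b)
  char2 : IsCharacteristicTwoType G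
  Tp : IsPGroup 2 T
  TN : T ≤ normalizer (ln h : Set G)
  Ta : T ≤ centralizer ({a} : Set G)
  syl : ¬ 2 ∣ T.relIndex (normalizer (ln h : Set G))
  dec : ∀ z ∈ zc T, ∃ v ∈ ln h, ∃ c, (∀ y ∈ XX (ln h) (pts a b), y * c = c * y) ∧ (∀ t ∈ T, t * c = c * t) ∧
    z = v * c
  zt : ∀ t ∈ T, ∀ c ∈ T, c * c = 1 → (∀ s ∈ T, s ∈ centralizer (ln h : Set G) → s * c = c * s) →
    t * c * t⁻¹ = c ∨ t * c * t⁻¹ = c * a

theorem mem_sup_nrm {A B : Subgroup G} (h : A ≤ normalizer (B : Set G)) {x : G} (hx : x ∈ A ⊔ B) :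
    ∃ a ∈ A, ∃ b ∈ B, a * b = x := by
  have h1 : x ∈ ((A ⊔ B : Subgroup G) : Set G) := hx
  rw [coe_mul_of_left_le_normalizer_right A B h] at h1
  exact Set.mem_mul.mp h1

/-- `T⟨w⟩` is a 2-group -/
theorem sup_zp [Finite G] {T : Subgroup G} (hT : IsPGroup 2 T) {w : G} (hw : w ∈ normalizer (T : Set G))
    (h2 : w * w ∈ T) : IsPGroup 2 (T ⊔ zpowers w : Subgroup G) := by
  obtain ⟨n, hn⟩ := hT ⟨w * w, h2⟩
  have hn' : w ^ 2 ^ (n + 1) = 1 := by
    have h3 : (w * w) ^ 2 ^ n = 1 := by simpa only [_root_.SubmonoidClass.mk_pow, _root_.OneMemClass.coe_one] using congrArg Subtype.val hn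
    rw [pow_succ, mul_comm, pow_mul, pow_two]; exact h3
  have h4 : IsPGroup 2 (zpowers w) := by
    rintro ⟨_, i, rfl⟩
    refine ⟨n + 1, Subtype.ext ?_⟩
    show (w ^ i) ^ 2 ^ (n + 1) = 1
    rw [← zpow_natCast, zpow_comm, zpow_natCast, hn', one_zpow]
  exact IsPGroup.to_sup_of_normal_left' hT h4 (by rw [zpowers_le]; exact hw)

/-- `O₂(N) ≤ O₂(H)` for `N` normal in `H` -/
theorem o2_le_o2 {N H : Subgroup G} (hN : N ≤ H) (hH : H ≤ normalizer (N : Set G)) : o2 N ≤ o2 H := by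
  refine le_o2 ((o2_le N).trans hN) (o2_isPGroup N) fun g hg => ?_
  rw [← BTwo.cj_eq_self_iff]
  have h1 : cj g N = N := BTwo.cj_eq_self_iff.2 (hH hg)
  show cj g (O2 N) = O2 N
  rw [BTwo.cj_O2, h1]

namespace Cf

variable {a b : G} {h : Ln a b} {T : Subgroup G} (C : Cf h T)
include C

theorem mem_L {v : G} (hv : v ∈ ln h) : v = 1 ∨ v = a ∨ v = b ∨ v = a * b := by
  rcases hv with e | ⟨i, e⟩
  · exact Or.inl e
  · fin_cases i
    · exact Or.inr (Or.inl e)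
    · exact Or.inr (Or.inr (Or.inl e))
    · exact Or.inr (Or.inr (Or.inr e))

theorem aL : a ∈ ln h := h.dd_mem 0
theorem bL : b ∈ ln h := h.dd_mem 1
theorem abL : a * b ∈ ln h := h.dd_mem 2

theorem sqL {v : G} (hv : v ∈ ln h) : v * v = 1 := C.bt.V_sq v hv

theorem commL {v w : G} (hv : v ∈ ln h) (hw : w ∈ ln h) : v * w = w * v := C.bt.V_comm v hv w hw

/-- two commuting involutions -/
theorem mem_cen_L {g : G} (h1 : g * a = a * g) (h2 : g * b = b * g) : g ∈ centralizer (ln h : Set G) := by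
  rw [mem_centralizer_iff]
  intro v hv
  rcases C.mem_L hv with rfl | rfl | rfl | rfl
  · rw [one_mul, mul_one]
  · exact h1.symm
  · exact h2.symm
  · calc a * b * g = a * (b * g) := by group
      _ = a * g * b := by rw [← h2]; group
      _ = g * (a * b) := by rw [← h1]; group

variable [Finite G]

theorem mem_N {g : G} (h1 : g * a * g⁻¹ ∈ ln h) (h2 : g * b * g⁻¹ ∈ ln h) : g ∈ normalizer (ln h : Set G) := by
  refine BTwo.mem_normalizer_of_conj fun v hv => ?_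
  rcases C.mem_L hv with rfl | rfl | rfl | rfl
  · have e : g * 1 * g⁻¹ = 1 := by group
    rw [e]; exact one_mem _
  · exact h1
  · exact h2
  · have e : g * (a * b) * g⁻¹ = g * a * g⁻¹ * (g * b * g⁻¹) := by group
    rw [e]; exact mul_mem h1 h2

/-- `T` is a maximal 2-subgroup of `N(L)` -/
theorem max {R : Subgroup G} (hR : IsPGroup 2 R) (hTR : T ≤ R) (hRN : R ≤ normalizer (ln h : Set G)) : R ≤ T := by
  have h1 := HT.card_dvd_card C.TN C.syl hR hRN
  exact (eq_of_le_of_card_ge hTR (Nat.le_of_dvd Nat.card_pos h1)).symm.le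

theorem not_mem_N {w : G} (hw : w ∈ normalizer (T : Set G)) (hw2 : w * w ∈ T) (hwT : w ∉ T) :
    w ∉ normalizer (ln h : Set G) := by
  intro hwN
  have h2 := C.max (sup_zp C.Tp hw hw2) le_sup_left (sup_le C.TN (by rw [zpowers_le]; exact hwN))
  exact hwT (h2 (mem_sup_right (mem_zpowers w)))

/-- `N(R 0) = C(a)` -/
theorem N0 : normalizer (pts a b 0 : Set G) = centralizer ({a} : Set G) := h.normalizer_pts 0

/-- `O₂(C(a)) ≤ T` -/
theorem Q_le : o2 (centralizer ({a} : Set G)) ≤ T := by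
  have h1 : QQ (pts a b 0) ≤ normalizer (ln h : Set G) := C.bt.Q_le_NV 0
  have e : QQ (pts a b 0) = o2 (centralizer ({a} : Set G)) := by
    show O2 (normalizer (pts a b 0 : Set G)) = _
    rw [C.N0]; rfl
  rw [e] at h1
  have h2 : IsPGroup 2 (T ⊔ o2 (centralizer ({a} : Set G)) : Subgroup G) :=
    IsPGroup.to_sup_of_normal_right' C.Tp (o2_isPGroup _) (C.Ta.trans (le_normalizer_o2 _))
  exact le_sup_right.trans (C.max h2 le_sup_left (sup_le C.TN h1))

theorem L_le : ln h ≤ T := by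
  have h1 : ln h ≤ QQ (pts a b 0) := C.bt.V_Q 0
  have e : QQ (pts a b 0) = o2 (centralizer ({a} : Set G)) := by
    show O2 (normalizer (pts a b 0 : Set G)) = _
    rw [C.N0]; rfl
  rw [e] at h1
  exact h1.trans C.Q_le

theorem comm_a {t : G} (ht : t ∈ T) : t * a = a * t := mem_centralizer_singleton_iff.1 (C.Ta ht)

/-- `W_i` swaps the other two points -/
theorem exists_W {i : Fin 3} {v w : G} (hv : v ∈ ln h) (hw : w ∈ ln h) (hvi : v ∉ pts a b i) (hwi : w ∉ pts a b i) :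
    ∃ g ∈ WW (ln h) (pts a b i), g * v * g⁻¹ = w := by
  obtain ⟨j, hj⟩ : ∃ j, v = dd a b j := hv.resolve_left fun e => hvi (by rw [e]; exact one_mem _)
  obtain ⟨l, hl⟩ : ∃ j, w = dd a b j := hw.resolve_left fun e => hwi (by rw [e]; exact one_mem _)
  have hji : j ≠ i := by rintro rfl; exact hvi (by rw [hj]; exact mem_zpowers _)
  have hli : l ≠ i := by rintro rfl; exact hwi (by rw [hl]; exact mem_zpowers _)
  obtain ⟨g, hg, e⟩ := C.bt.trans i hji hli
  refine ⟨g, hg, ?_⟩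
  have h1 : g * v * g⁻¹ ∈ pts a b l := by
    rw [← e, hj]; exact BTwo.conj_mem_cj (mem_zpowers _)
  rcases h.mem_pts.1 h1 with e1 | e1
  · exact absurd (conj_eq_one_iff.1 e1) (by rw [hj]; exact h.dd_ne j)
  · rw [e1, hl]

theorem b_notin : b ∉ pts a b 0 := fun e => by
  rcases h.mem_pts.1 e with e | e
  · exact h.b1 e
  · exact h.ne (show b = a from e).symm

theorem ab_notin : a * b ∉ pts a b 0 := fun e => by
  rcases h.mem_pts.1 e with e | e
  · exact h.ab1 e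
  · exact h.a_ab (show a * b = a from e).symm

/-- an element of `T` swapping `b` and `ab` -/
theorem exists_t : ∃ t ∈ T, t * b * t⁻¹ = a * b := by
  obtain ⟨t, ht, e⟩ := C.exists_W (i := 0) C.bL C.abL C.b_notin C.ab_notin
  have h1 : WW (ln h) (pts a b 0) ≤ QQ (pts a b 0) := C.bt.W_le_Q 0
  have e1 : QQ (pts a b 0) = o2 (centralizer ({a} : Set G)) := by
    show O2 (normalizer (pts a b 0 : Set G)) = _
    rw [C.N0]; rfl
  rw [e1] at h1
  exact ⟨t, C.Q_le (h1 ht), e⟩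

/-- `T` acts as `1` or as the swap -/
theorem act_T {t : G} (ht : t ∈ T) : t * b * t⁻¹ = b ∨ t * b * t⁻¹ = a * b := by
  rcases C.mem_L (BTwo.conj_mem_of_normalizer (C.TN ht) C.bL) with e | e | e | e
  · exact absurd (conj_eq_one_iff.1 e) h.b1
  · exfalso
    have h1 : t * a * t⁻¹ = a := by rw [C.comm_a ht, mul_inv_cancel_right]
    exact h.ne (mul_left_cancel (mul_right_cancel (h1.trans e.symm)))
  · exact Or.inl e
  · exact Or.inr e

/-- `Ω₁Z(C_T(L)) = L (Ω₁Z(T) ∩ C(X))` -/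
theorem dec0 {u : G} (hu : u ∈ T) (hu2 : u * u = 1)
    (huT : ∀ s ∈ T, s ∈ centralizer (ln h : Set G) → s * u = u * s) :
    ∃ l ∈ ln h, ∃ c ∈ zc T, (∀ y ∈ XX (ln h) (pts a b), y * c = c * y) ∧ u = l * c := by
  obtain ⟨t, ht, et⟩ := C.exists_t
  -- an involution commuting with `T`
  have key : ∀ z ∈ T, z * z = 1 → (∀ s ∈ T, s * z = z * s) →
      ∃ l ∈ ln h, ∃ c ∈ zc T, (∀ y ∈ XX (ln h) (pts a b), y * c = c * y) ∧ z = l * c := by
    intro z hz hz2 hzT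
    obtain ⟨v, hv, c, hc1, hc2, e⟩ := C.dec z (mem_zc.2 ⟨hz, hzT, by rw [pow_two]; exact hz2⟩)
    have hvT := C.L_le hv
    have ec : c = v⁻¹ * z := by rw [e]; group
    have hcT : c ∈ T := by rw [ec]; exact mul_mem (inv_mem hvT) hz
    have hcc : c * c = 1 := by
      have h1 : v⁻¹ * c = c * v⁻¹ := hc2 _ (inv_mem hvT)
      have h2 : v⁻¹ = v := inv_eq_of_mul_eq_one_left (C.sqL hv)
      calc c * c = v⁻¹ * z * c := by rw [← ec]
        _ = v⁻¹ * (v * c) * c := by rw [e]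
        _ = v⁻¹ * v⁻¹ * v * v * c * c := by rw [h2]; rw [C.sqL hv]; group
        _ = v⁻¹ * v⁻¹ * (v * c * (v * c)) := by
          rw [h2] at h1
          rw [show v * c * (v * c) = v * (c * v) * c by group, ← h1]; group
        _ = 1 := by rw [← e, hz2, mul_one, h2, C.sqL hv]
    exact ⟨v, hv, c, mem_zc.2 ⟨hcT, hc2, by rw [pow_two]; exact hcc⟩, hc1, e⟩
  -- an element of `T₀` or of `t T₀`
  have hall : ∀ z ∈ T, (∀ s ∈ T, s ∈ centralizer (ln h : Set G) → s * z = z * s) → t * z * t⁻¹ = z →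
      ∀ s ∈ T, s * z = z * s := by
    intro z _ hz0 hzt s hs
    rcases C.act_T hs with e | e
    · exact hz0 s hs (C.mem_cen_L (C.comm_a hs) (mul_inv_eq_iff_eq_mul.1 e))
    · have h1 : t⁻¹ * s ∈ T := mul_mem (inv_mem ht) hs
      have h2 : t⁻¹ * s * b * (t⁻¹ * s)⁻¹ = b := by
        calc t⁻¹ * s * b * (t⁻¹ * s)⁻¹ = t⁻¹ * (s * b * s⁻¹) * t := by group
          _ = t⁻¹ * (t * b * t⁻¹) * t := by rw [e, et]
          _ = b := by group
      have h3 := hz0 _ h1 (C.mem_cen_L (C.comm_a h1) (mul_inv_eq_iff_eq_mul.1 h2))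
      have h4 : t * z = z * t := mul_inv_eq_iff_eq_mul.1 hzt
      calc s * z = t * (t⁻¹ * s * z) := by group
        _ = t * z * (t⁻¹ * s) := by rw [h3]; group
        _ = z * s := by rw [h4]; group
  rcases C.zt t ht u hu hu2 huT with e | e
  · exact key u hu hu2 (hall u hu huT e)
  · -- `b u` commutes with `T`
    have hub : u * b = b * u := by
      have h1 := huT b (C.L_le C.bL) (C.bt.V_le_cen C.bL)
      exact h1.symm
    have hua : a * u = u * a := (C.comm_a hu).symm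
    have hbu : b * u ∈ T := mul_mem (C.L_le C.bL) hu
    have hbu2 : b * u * (b * u) = 1 := by
      calc b * u * (b * u) = b * (u * b) * u := by group
        _ = b * b * (u * u) := by rw [hub]; group
        _ = 1 := by rw [C.sqL C.bL, hu2, one_mul]
    have h1 : ∀ s ∈ T, s ∈ centralizer (ln h : Set G) → s * (b * u) = b * u * s := by
      intro s hs hsL
      have h2 := mem_centralizer_iff.1 hsL b C.bL
      rw [← mul_assoc, ← h2, mul_assoc, huT s hs hsL, mul_assoc]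
    have h2 : t * (b * u) * t⁻¹ = b * u := by
      calc t * (b * u) * t⁻¹ = (t * b * t⁻¹) * (t * u * t⁻¹) := by group
        _ = a * b * (u * a) := by rw [et, e]
        _ = a * (b * u) * a := by group
        _ = a * (u * b) * a := by rw [hub]
        _ = a * u * (b * a) := by group
        _ = u * a * (a * b) := by rw [hua, h.comm]
        _ = u * (a * a) * b := by group
        _ = b * u := by rw [h.aa, mul_one, hub]
    obtain ⟨l, hl, c, hc, hcX, e2⟩ := key _ hbu hbu2 (hall _ hbu h1 h2)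
    refine ⟨b * l, mul_mem C.bL hl, c, hc, hcX, ?_⟩
    calc u = b * b * u := by rw [h.bb, one_mul]
      _ = b * (b * u) := by group
      _ = b * l * c := by rw [e2]; group

/-- the common output of (A) and (B) -/
def Out (_ : Cf h T) (w : G) : Prop := w ∈ normalizer (T : Set G) ∧ w ∉ T ∧ w * w ∈ T ∧ w * a * w⁻¹ = a ∧
  ∃ k ∈ zc T, k ≠ 1 ∧ (∀ y ∈ XX (ln h) (pts a b), y * k = k * y) ∧ (w * b * w⁻¹ = b * k ∨ w * b * w⁻¹ = a * b * k)

/-- **(3)** -/
theorem three {w : G} (hw : C.Out w) : ∃ k ∈ zc T, k ≠ 1 ∧ (∀ y ∈ XX (ln h) (pts a b), y * k = k * y) ∧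
    ∃ g, g * k = k * g ∧ g * a * g⁻¹ = a * k ∧ g * b * g⁻¹ = b * k := by
  -- wlog `b^w = b k`
  obtain ⟨w, hwN, hwT, hw2, hwa, k, hk, hk1, hkX, hwb⟩ : ∃ w ∈ normalizer (T : Set G), w ∉ T ∧ w * w ∈ T ∧
      w * a * w⁻¹ = a ∧ ∃ k ∈ zc T, k ≠ 1 ∧ (∀ y ∈ XX (ln h) (pts a b), y * k = k * y) ∧ w * b * w⁻¹ = b * k := by
    obtain ⟨hwN, hwT, hw2, hwa, k, hk, hk1, hkX, hwb | hwb⟩ := hw
    · exact ⟨w, hwN, hwT, hw2, hwa, k, hk, hk1, hkX, hwb⟩
    · obtain ⟨t, ht, et⟩ := C.exists_t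
      have htN : t ∈ normalizer (T : Set G) := le_normalizer ht
      refine ⟨t * w, mul_mem htN hwN, fun e => hwT ?_, ?_, ?_, k, hk, hk1, hkX, ?_⟩
      · have := mul_mem (inv_mem ht) e
        rwa [inv_mul_cancel_left] at this
      · have h1 : w * t * w⁻¹ ∈ T := (mem_normalizer_iff.1 hwN t).1 ht
        have e : t * w * (t * w) = t * (w * t * w⁻¹) * (w * w) := by group
        rw [e]; exact mul_mem (mul_mem ht h1) hw2
      · calc t * w * a * (t * w)⁻¹ = t * (w * a * w⁻¹) * t⁻¹ := by group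
          _ = a := by rw [hwa, C.comm_a ht, mul_inv_cancel_right]
      · have h1 : t * k = k * t := (mem_zc.1 hk).2.1 t ht
        calc t * w * b * (t * w)⁻¹ = t * (w * b * w⁻¹) * t⁻¹ := by group
          _ = t * (a * b * k) * t⁻¹ := by rw [hwb]
          _ = (t * a) * b * (k * t⁻¹) := by group
          _ = (a * t) * b * (k * t⁻¹) := by rw [C.comm_a ht]
          _ = a * (t * b * t⁻¹) * (t * k * t⁻¹) := by group
          _ = a * (a * b) * k := by rw [et, h1, mul_inv_cancel_right]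
          _ = a * a * b * k := by group
          _ = b * k := by rw [h.aa, one_mul]
  have hkT := (mem_zc.1 hk).2.1
  have hkk : k * k = 1 := by rw [← pow_two]; exact (mem_zc.1 hk).2.2
  have hkm : k ∈ T := (mem_zc.1 hk).1
  have hka : a * k = k * a := hkT a (C.L_le C.aL)
  have hkb : b * k = k * b := hkT b (C.L_le C.bL)
  have hk' : w * k * w⁻¹ ∈ T := (mem_normalizer_iff.1 hwN k).1 hkm
  -- `k^w`
  have hkw : w * k * w⁻¹ = k ∨ w * k * w⁻¹ = k * a := by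
    have h1 : w * w * b * (w * w)⁻¹ = b * (k * (w * k * w⁻¹)) := by
      calc w * w * b * (w * w)⁻¹ = w * (w * b * w⁻¹) * w⁻¹ := by group
        _ = w * (b * k) * w⁻¹ := by rw [hwb]
        _ = (w * b * w⁻¹) * (w * k * w⁻¹) := by group
        _ = _ := by rw [hwb]; group
    rcases C.act_T hw2 with e | e
    · left
      rw [h1] at e
      have e1 : k * (w * k * w⁻¹) = 1 := mul_left_cancel (e.trans (mul_one b).symm)
      calc w * k * w⁻¹ = k * k * (w * k * w⁻¹) := by rw [hkk, one_mul]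
        _ = k * (k * (w * k * w⁻¹)) := by group
        _ = k := by rw [e1, mul_one]
    · right
      rw [h1, h.comm] at e
      have e1 : k * (w * k * w⁻¹) = a := mul_left_cancel e
      calc w * k * w⁻¹ = k * k * (w * k * w⁻¹) := by rw [hkk, one_mul]
        _ = k * (k * (w * k * w⁻¹)) := by group
        _ = k * a := by rw [e1]
  -- the transposition `a ↔ b`
  obtain ⟨y, hy, ya, yb⟩ : ∃ y ∈ XX (ln h) (pts a b), y * a * y⁻¹ = b ∧ y * b * y⁻¹ = a := by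
    obtain ⟨y, hy, e1, e2⟩ := C.bt.trans_X (i := 0) (j := 1) (k := 1) (l := 0) (by decide) (by decide)
    have conv : ∀ {i j : Fin 3}, cj y (pts a b i) = pts a b j → y * dd a b i * y⁻¹ = dd a b j := by
      intro i j e
      have h1 : y * dd a b i * y⁻¹ ∈ pts a b j := by rw [← e]; exact BTwo.conj_mem_cj (mem_zpowers _)
      exact (h.mem_pts.1 h1).resolve_left fun e => h.dd_ne i (conj_eq_one_iff.1 e)
    exact ⟨y, hy, conv e1, conv e2⟩
  have hyk := hkX y hy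
  have hyk' : y * k * y⁻¹ = k := by rw [hyk, mul_inv_cancel_right]
  rcases hkw with hkw | hkw
  · -- `k^w = k`
    have e1 : w⁻¹ * k * w = k := by
      calc w⁻¹ * k * w = w⁻¹ * (w * k * w⁻¹) * w := by rw [hkw]
        _ = k := by group
    have e2 : w⁻¹ * b * w = b * k := by
      calc w⁻¹ * b * w = w⁻¹ * (b * k) * w * (w⁻¹ * k * w)⁻¹ := by group
        _ = w⁻¹ * (w * b * w⁻¹) * w * k⁻¹ := by rw [hwb, e1]
        _ = b * k⁻¹ := by group
        _ = b * k := by rw [inv_eq_of_mul_eq_one_left hkk]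
    have e3 : w⁻¹ * a * w = a := by
      calc w⁻¹ * a * w = w⁻¹ * (w * a * w⁻¹) * w := by rw [hwa]
        _ = a := by group
    refine ⟨k, hk, hk1, hkX, y * (w * y * w⁻¹), ?_, ?_, ?_⟩
    · have f1 : w * y * w⁻¹ * k = k * (w * y * w⁻¹) := by
        calc w * y * w⁻¹ * k = w * (y * (w⁻¹ * k * w)) * w⁻¹ := by group
          _ = w * (k * y) * w⁻¹ := by rw [e1, hyk]
          _ = (w * k * w⁻¹) * (w * y * w⁻¹) := by group
          _ = _ := by rw [hkw]
      rw [mul_assoc, f1, ← mul_assoc, hyk, mul_assoc]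
    · calc y * (w * y * w⁻¹) * a * (y * (w * y * w⁻¹))⁻¹
          = y * (w * (y * (w⁻¹ * a * w) * y⁻¹) * w⁻¹) * y⁻¹ := by group
        _ = y * (b * k) * y⁻¹ := by rw [e3, ya, hwb]
        _ = (y * b * y⁻¹) * (y * k * y⁻¹) := by group
        _ = a * k := by rw [yb, hyk']
    · calc y * (w * y * w⁻¹) * b * (y * (w * y * w⁻¹))⁻¹
          = y * (w * (y * (w⁻¹ * b * w) * y⁻¹) * w⁻¹) * y⁻¹ := by group
        _ = y * (w * ((y * b * y⁻¹) * (y * k * y⁻¹)) * w⁻¹) * y⁻¹ := by rw [e2]; group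
        _ = y * ((w * a * w⁻¹) * (w * k * w⁻¹)) * y⁻¹ := by rw [yb, hyk']; group
        _ = (y * a * y⁻¹) * (y * k * y⁻¹) := by rw [hwa, hkw]; group
        _ = b * k := by rw [ya, hyk']
  · -- `k^w = k a`: `T ⟨w⟩` normalises a conjugate of `L`
    exfalso
    have e3 : w⁻¹ * a * w = a := by
      calc w⁻¹ * a * w = w⁻¹ * (w * a * w⁻¹) * w := by rw [hwa]
        _ = a := by group
    have e1 : w⁻¹ * k * w = k * a := by
      calc w⁻¹ * k * w = w⁻¹ * (k * a) * w * (w⁻¹ * a * w)⁻¹ := by group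
        _ = w⁻¹ * (w * k * w⁻¹) * w * a⁻¹ := by rw [hkw, e3]
        _ = k * a⁻¹ := by group
        _ = k * a := by rw [inv_eq_of_mul_eq_one_left h.aa]
    have e2 : w⁻¹ * b * w = b * (k * a) := by
      have f : (k * a)⁻¹ = k * a := inv_eq_of_mul_eq_one_left (by
        calc k * a * (k * a) = k * (a * k) * a := by group
          _ = k * k * (a * a) := by rw [hka]; group
          _ = 1 := by rw [hkk, h.aa, mul_one])
      calc w⁻¹ * b * w = w⁻¹ * (b * k) * w * (w⁻¹ * k * w)⁻¹ := by group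
        _ = w⁻¹ * (w * b * w⁻¹) * w * (k * a)⁻¹ := by rw [hwb, e1]
        _ = b * (k * a) := by rw [f]; group
    obtain ⟨d, hd⟩ : ∃ d, d = y * (w * y * w⁻¹) := ⟨_, rfl⟩
    have da : d * a * d⁻¹ = a * k := by
      rw [hd]
      calc y * (w * y * w⁻¹) * a * (y * (w * y * w⁻¹))⁻¹
          = y * (w * (y * (w⁻¹ * a * w) * y⁻¹) * w⁻¹) * y⁻¹ := by group
        _ = y * (b * k) * y⁻¹ := by rw [e3, ya, hwb]
        _ = (y * b * y⁻¹) * (y * k * y⁻¹) := by group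
        _ = a * k := by rw [yb, hyk']
    have db : d * b * d⁻¹ = a := by
      rw [hd]
      calc y * (w * y * w⁻¹) * b * (y * (w * y * w⁻¹))⁻¹
          = y * (w * (y * (w⁻¹ * b * w) * y⁻¹) * w⁻¹) * y⁻¹ := by group
        _ = y * (w * ((y * b * y⁻¹) * (y * k * y⁻¹) * (y * a * y⁻¹)) * w⁻¹) * y⁻¹ := by rw [e2]; group
        _ = y * ((w * a * w⁻¹) * (w * k * w⁻¹) * (w * b * w⁻¹)) * y⁻¹ := by rw [yb, hyk', ya]; group
        _ = y * (a * (k * a) * (b * k)) * y⁻¹ := by rw [hwa, hkw, hwb]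
        _ = y * (a * (a * k) * (k * b)) * y⁻¹ := by rw [← hka, hkb]
        _ = y * ((a * a) * (k * k) * b) * y⁻¹ := by group
        _ = y * b * y⁻¹ := by rw [h.aa, hkk, one_mul, one_mul]
        _ = a := yb
    -- `R = T ⟨w⟩`
    have hR := sup_zp C.Tp hwN hw2
    have hRd : cj d⁻¹ (T ⊔ zpowers w) ≤ normalizer (ln h : Set G) := by
      rintro _ ⟨r, hr, rfl⟩
      change d⁻¹ * r * d⁻¹⁻¹ ∈ _
      have hr1 : (r * a * r⁻¹ = a) ∧ (r * k * r⁻¹ = k ∨ r * k * r⁻¹ = k * a) := by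
        let H : Subgroup G :=
          { carrier := {r | r * a * r⁻¹ = a ∧ (r * k * r⁻¹ = k ∨ r * k * r⁻¹ = k * a)}
            one_mem' := ⟨by group, Or.inl (by group)⟩
            mul_mem' := by
              rintro r s ⟨hr1, hr2⟩ ⟨hs1, hs2⟩
              have f1 : r * s * a * (r * s)⁻¹ = a := by
                calc r * s * a * (r * s)⁻¹ = r * (s * a * s⁻¹) * r⁻¹ := by group
                  _ = a := by rw [hs1, hr1]
              refine ⟨f1, ?_⟩
              have f2 : r * s * k * (r * s)⁻¹ = r * (s * k * s⁻¹) * r⁻¹ := by group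
              rw [f2]
              rcases hs2 with e | e
              · rw [e]; exact hr2
              · have f3 : r * (k * a) * r⁻¹ = r * k * r⁻¹ * (r * a * r⁻¹) := by group
                rw [e, f3, hr1]
                rcases hr2 with e | e
                · rw [e]; exact Or.inr rfl
                · rw [e, mul_assoc, h.aa, mul_one]; exact Or.inl rfl
            inv_mem' := by
              rintro r ⟨hr1, hr2⟩
              have f1 : r⁻¹ * a * r⁻¹⁻¹ = a := by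
                calc r⁻¹ * a * r⁻¹⁻¹ = r⁻¹ * (r * a * r⁻¹) * r := by rw [hr1]; group
                  _ = a := by group
              refine ⟨f1, ?_⟩
              rcases hr2 with e | e
              · left
                calc r⁻¹ * k * r⁻¹⁻¹ = r⁻¹ * (r * k * r⁻¹) * r := by rw [e]; group
                  _ = k := by group
              · right
                have f4 : r⁻¹ * (k * a) * r⁻¹⁻¹ = k := by
                  calc r⁻¹ * (k * a) * r⁻¹⁻¹ = r⁻¹ * (r * k * r⁻¹) * r := by rw [e]; group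
                    _ = k := by group
                calc r⁻¹ * k * r⁻¹⁻¹ = r⁻¹ * (k * a) * r⁻¹⁻¹ * (r⁻¹ * a * r⁻¹⁻¹)⁻¹ := by group
                  _ = k * a⁻¹ := by rw [f4, f1]
                  _ = k * a := by rw [inv_eq_of_mul_eq_one_left h.aa] }
        have hle : T ⊔ zpowers w ≤ H := by
          refine sup_le (fun t ht => ⟨?_, Or.inl ?_⟩) ?_
          · rw [C.comm_a ht, mul_inv_cancel_right]
          · rw [hkT t ht, mul_inv_cancel_right]
          · rw [zpowers_le]; exact ⟨hwa, Or.inr hkw⟩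
        exact hle hr
      have db' : d⁻¹ * a * d = b := by rw [← db]; group
      have dk' : d⁻¹ * k * d = a * b := by
        have : k = a * (a * k) := by rw [← mul_assoc, h.aa, one_mul]
        calc d⁻¹ * k * d = d⁻¹ * (a * (a * k)) * d := by rw [← this]
          _ = (d⁻¹ * a * d) * (d⁻¹ * (a * k) * d) := by group
          _ = b * (d⁻¹ * (d * a * d⁻¹) * d) := by rw [db', da]
          _ = b * a := by group
          _ = a * b := h.comm.symm
      have dka : d⁻¹ * (k * a) * d = a := by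
        calc d⁻¹ * (k * a) * d = (d⁻¹ * k * d) * (d⁻¹ * a * d) := by group
          _ = a * b * b := by rw [dk', db']
          _ = a := by rw [mul_assoc, h.bb, mul_one]
      have dak : d⁻¹ * (a * k) * d = a := by rw [hka]; exact dka
      -- `a = (a k)^{d⁻¹}`, `b = a^{d⁻¹}`
      refine C.mem_N ?_ ?_
      · have f : d⁻¹ * r * d⁻¹⁻¹ * a * (d⁻¹ * r * d⁻¹⁻¹)⁻¹ = d⁻¹ * ((r * a * r⁻¹) * (r * k * r⁻¹)) * d := by
          calc d⁻¹ * r * d⁻¹⁻¹ * a * (d⁻¹ * r * d⁻¹⁻¹)⁻¹ = d⁻¹ * (r * (d * a * d⁻¹) * r⁻¹) * d := by group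
            _ = _ := by rw [da]; group
        rw [f, hr1.1]
        rcases hr1.2 with e | e
        · rw [e, dak]; exact C.aL
        · rw [e]
          have f2 : d⁻¹ * (a * (k * a)) * d = (d⁻¹ * a * d) * (d⁻¹ * (k * a) * d) := by group
          rw [f2, db', dka, ← h.comm]; exact C.abL
      · have f : d⁻¹ * r * d⁻¹⁻¹ * b * (d⁻¹ * r * d⁻¹⁻¹)⁻¹ = d⁻¹ * (r * a * r⁻¹) * d := by
          calc d⁻¹ * r * d⁻¹⁻¹ * b * (d⁻¹ * r * d⁻¹⁻¹)⁻¹ = d⁻¹ * (r * (d * b * d⁻¹) * r⁻¹) * d := by group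
            _ = _ := by rw [db]
        rw [f, hr1.1, db']; exact C.bL
    have hRp : IsPGroup 2 (cj d⁻¹ (T ⊔ zpowers w) : Subgroup G) := hR.map _
    have h2 := Nat.le_of_dvd Nat.card_pos (HT.card_dvd_card C.TN C.syl hRp hRd)
    rw [BTwo.card_cj] at h2
    have h3 : T = T ⊔ zpowers w := eq_of_le_of_card_ge le_sup_left h2
    exact hwT (h3.symm.le (mem_sup_right (mem_zpowers w)))

/-- `O₂(C(x)) ∩ N(L)` centralises `L`, for `x ∈ C(X)` -/
theorem cen_O {x : G} (hxX : ∀ y ∈ XX (ln h) (pts a b), y * x = x * y) {g : G}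
    (hg : g ∈ o2 (centralizer ({x} : Set G))) (hgN : g ∈ normalizer (ln h : Set G)) :
    g ∈ centralizer (ln h : Set G) := by
  refine h.cen_of C.bt (K := o2 (centralizer ({x} : Set G)))
    (fun y hy => le_normalizer_o2 _ (mem_centralizer_singleton_iff.2 (hxX y hy))) (fun g hg _ => ?_) hg hgN
  obtain ⟨n, e⟩ := (o2_isPGroup (centralizer ({x} : Set G))) ⟨g, hg⟩
  refine ⟨n, ?_⟩
  have e1 : g ^ 2 ^ n = 1 := by simpa only [_root_.SubmonoidClass.mk_pow, _root_.OneMemClass.coe_one] using congrArg Subtype.val e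
  rw [e1]; exact one_mem _

/-- **(B)** -/
theorem caseB {x : G} (hTx : ∀ t ∈ T, t * x = x * t) (hxX : ∀ y ∈ XX (ln h) (pts a b), y * x = x * y)
    (hO : ¬ o2 (centralizer ({x} : Set G)) ≤ T) : ∃ w, C.Out w := by
  obtain ⟨O, hOe⟩ : ∃ O, O = o2 (centralizer ({x} : Set G)) := ⟨_, rfl⟩
  rw [← hOe] at hO
  have hTO : T ≤ normalizer (O : Set G) := by
    rw [hOe]
    exact fun t ht => le_normalizer_o2 _ (mem_centralizer_singleton_iff.2 (hTx t ht))
  have hOp : IsPGroup 2 O := by rw [hOe]; exact o2_isPGroup _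
  have hp : IsPGroup 2 (T ⊔ O : Subgroup G) := IsPGroup.to_sup_of_normal_right' C.Tp hOp hTO
  have hlt : T < T ⊔ O := lt_of_le_of_ne le_sup_left fun e => hO (le_sup_right.trans e.symm.le)
  obtain ⟨g, hg, hgN, hgT, hg2⟩ := MinSimple.Choice97.exists_normalizing hp hlt
  obtain ⟨s, hs, w, hw, rfl⟩ := mem_sup_nrm hTO hg
  have hsN : s ∈ normalizer (T : Set G) := le_normalizer hs
  have hwN : w ∈ normalizer (T : Set G) := by
    have := mul_mem (inv_mem hsN) hgN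
    rwa [inv_mul_cancel_left] at this
  have hwT : w ∉ T := fun e => hgT (mul_mem hs e)
  have hw2 : w * w ∈ T := by
    have h1 : w * s * w⁻¹ ∈ T := (mem_normalizer_iff.1 hwN s).1 hs
    have h2 : s * (w * s * w⁻¹) * (w * w) ∈ T := by
      have e : s * (w * s * w⁻¹) * (w * w) = s * w * (s * w) := by group
      rw [e]; exact hg2
    have h3 := mul_mem (inv_mem (mul_mem hs h1)) h2
    rwa [inv_mul_cancel_left] at h3
  have hO0 : ∀ y ∈ O, y ∈ T → y ∈ centralizer (ln h : Set G) := fun y hy hyT =>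
    C.cen_O hxX (by rw [← hOe]; exact hy) (C.TN hyT)
  -- `[w, t] ∈ O ∩ T`
  have hcm : ∀ t ∈ T, w * t * w⁻¹ * t⁻¹ ∈ T ∧ w * t * w⁻¹ * t⁻¹ ∈ centralizer (ln h : Set G) := by
    intro t ht
    have h1 : w * t * w⁻¹ * t⁻¹ ∈ T := mul_mem ((mem_normalizer_iff.1 hwN t).1 ht) (inv_mem ht)
    refine ⟨h1, hO0 _ ?_ h1⟩
    have e : w * t * w⁻¹ * t⁻¹ = w * (t * w⁻¹ * t⁻¹) := by group
    rw [e]
    exact mul_mem hw (BTwo.conj_mem_of_normalizer (hTO ht) (inv_mem hw))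
  have hwiN := inv_mem hwN
  have hcm' : ∀ t ∈ T, t ∈ centralizer (ln h : Set G) → w⁻¹ * t * w ∈ T ∧
      w⁻¹ * t * w ∈ centralizer (ln h : Set G) := by
    intro t ht htL
    have h0 : w⁻¹ * t * w ∈ T := by
      have := (mem_normalizer_iff.1 hwiN t).1 ht
      rwa [inv_inv] at this
    refine ⟨h0, ?_⟩
    have h1 := (hcm _ h0).2
    have e : w⁻¹ * t * w = (w * (w⁻¹ * t * w) * w⁻¹ * (w⁻¹ * t * w)⁻¹)⁻¹ * t := by group
    rw [e]
    exact mul_mem (inv_mem h1) htL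
  -- the conjugates of `L`
  have hLw : ∀ v ∈ ln h, w * v * w⁻¹ ∈ T ∧ w * v * w⁻¹ * (w * v * w⁻¹) = 1 ∧
      ∀ s ∈ T, s ∈ centralizer (ln h : Set G) → s * (w * v * w⁻¹) = w * v * w⁻¹ * s := by
    intro v hv
    refine ⟨(mem_normalizer_iff.1 hwN v).1 (C.L_le hv), ?_, fun s hs hsL => ?_⟩
    · calc w * v * w⁻¹ * (w * v * w⁻¹) = w * (v * v) * w⁻¹ := by group
        _ = 1 := by rw [C.sqL hv]; group
    · have h1 := mem_centralizer_iff.1 (hcm' s hs hsL).2 v hv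
      calc s * (w * v * w⁻¹) = w * (w⁻¹ * s * w * v) * w⁻¹ := by group
        _ = w * (v * (w⁻¹ * s * w)) * w⁻¹ := by rw [h1]
        _ = w * v * w⁻¹ * s := by group
  obtain ⟨u, hu⟩ : ∃ u, u = w * b * w⁻¹ := ⟨_, rfl⟩
  obtain ⟨huT, hu2, hu0⟩ := hLw b C.bL
  rw [← hu] at huT hu2 hu0
  obtain ⟨t, ht, et⟩ := C.exists_t
  -- `a^w = a`
  have hwa : w * a * w⁻¹ = a := by
    obtain ⟨y, hy⟩ : ∃ y, y = w * t * w⁻¹ * t⁻¹ := ⟨_, rfl⟩
    obtain ⟨hyT, hyL⟩ := hcm t ht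
    rw [← hy] at hyT hyL
    have e1 : w * (a * b) * w⁻¹ = y * (t * u * t⁻¹) * y⁻¹ := by
      calc w * (a * b) * w⁻¹ = w * (t * b * t⁻¹) * w⁻¹ := by rw [et]
        _ = _ := by rw [hy, hu]; group
    have e2 : w * (a * b) * w⁻¹ = w * a * w⁻¹ * u := by rw [hu]; group
    have hyu : y * u = u * y := hu0 y hyT hyL
    have hya : y * a = a * y := C.comm_a hyT
    rcases C.zt t ht u huT hu2 hu0 with e | e
    · exfalso
      have e3 : y * u * y⁻¹ = u := by rw [hyu, mul_inv_cancel_right]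
      rw [e, e3, e2] at e1
      have e4 : w * a * w⁻¹ = 1 := mul_right_cancel (e1.trans (one_mul u).symm)
      exact h.a1 (conj_eq_one_iff.1 e4)
    · have e3 : y * (u * a) * y⁻¹ = u * a := by
        calc y * (u * a) * y⁻¹ = (y * u) * a * y⁻¹ := by group
          _ = u * (y * a) * y⁻¹ := by rw [hyu]; group
          _ = u * a := by rw [hya]; group
      rw [e, e3, e2, ← C.comm_a huT |>.symm] at e1
      exact mul_right_cancel e1
  refine ⟨w, hwN, hwT, hw2, hwa, ?_⟩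
  obtain ⟨l, hl, c, hc, hcX, e⟩ := C.dec0 huT hu2 hu0
  have hcT := (mem_zc.1 hc).2.1
  have key : l = b ∨ l = a * b := by
    have hno : (∀ s ∈ T, s * u = u * s) → False := by
      intro hall
      have h1 : w * t * w⁻¹ ∈ T := (mem_normalizer_iff.1 hwN t).1 ht
      have h2 := hall _ h1
      have h3 : t * b = b * t := by
        calc t * b = w⁻¹ * (w * t * w⁻¹ * u) * w := by rw [hu]; group
          _ = w⁻¹ * (u * (w * t * w⁻¹)) * w := by rw [h2]
          _ = b * t := by rw [hu]; group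
      have h4 : b = a * b := by rw [← et, h3, mul_inv_cancel_right]
      exact h.b_ab h4
    rcases C.mem_L hl with e1 | e1 | e1 | e1
    · exfalso; apply hno
      intro s hs
      rw [e, e1, one_mul]; exact hcT s hs
    · exfalso; apply hno
      intro s hs
      rw [e, e1, ← mul_assoc, C.comm_a hs, mul_assoc, hcT s hs, mul_assoc]
    · exact Or.inl e1
    · exact Or.inr e1
  refine ⟨c, hc, fun hc1 => ?_, hcX, ?_⟩
  · refine C.not_mem_N hwN hw2 hwT (C.mem_N (by rw [hwa]; exact C.aL) ?_)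
    rw [← hu, e, hc1, mul_one]; exact hl
  · rw [← hu, e]
    rcases key with e1 | e1
    · left; rw [e1]
    · right; rw [e1]


/-- `[T, L] ≤ ⟨a⟩` -/
theorem TL {t v : G} (ht : t ∈ T) (hv : v ∈ ln h) : t * v * t⁻¹ = v ∨ t * v * t⁻¹ = a * v := by
  have h1 : t * a * t⁻¹ = a := by rw [C.comm_a ht, mul_inv_cancel_right]
  rcases C.mem_L hv with rfl | rfl | rfl | rfl
  · left; group
  · exact Or.inl h1
  · exact C.act_T ht
  · have h2 : t * (a * b) * t⁻¹ = t * a * t⁻¹ * (t * b * t⁻¹) := by group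
    rw [h2, h1]
    rcases C.act_T ht with e | e
    · left; rw [e]
    · right; rw [e]

/-- `O₂(C(r)) ∩ C(L) ≤ T` for every point `r` -/
theorem QC_le (j : Fin 3) {g : G} (hg : g ∈ QQ (pts a b j)) (hgL : g ∈ centralizer (ln h : Set G)) : g ∈ T := by
  have h1 : (QQ (pts a b j) ⊓ centralizer (ln h : Set G) : Subgroup G) ≤ o2 (centralizer (ln h : Set G)) := by
    refine le_o2 inf_le_right ((o2_isPGroup _).to_le (inf_le_left : _ ≤ QQ (pts a b j))) fun y hy => ?_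
    refine BTwo.mem_normalizer_of_conj fun z hz => ?_
    have hy1 : y ∈ normalizer (pts a b j : Set G) := C.bt.cen_le_N j hy
    exact mem_inf.2 ⟨BTwo.conj_mem_of_normalizer (le_normalizer_o2 _ hy1) hz.1,
      mul_mem (mul_mem hy hz.2) (inv_mem hy)⟩
  have h2 : o2 (centralizer (ln h : Set G)) ≤ o2 (normalizer (ln h : Set G)) :=
    o2_le_o2 (centralizer_le_normalizer _) (BTwo.normalizer_le_normalizer_centralizer _)
  exact o2_le_of_sylow C.Tp C.syl (h2 (h1 (mem_inf.2 ⟨hg, hgL⟩)))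

/-- **(A)** -/
theorem caseA {T' : Subgroup G} (hT' : IsPGroup 2 T') (hlt : T < T') (hTa' : T' ≤ centralizer ({a} : Set G))
    {x : G} (hx : x ∈ zc T') (hx1 : x ≠ 1) (hxX : ∀ y ∈ XX (ln h) (pts a b), y * x = x * y)
    (hO : o2 (centralizer ({x} : Set G)) ≤ T) : ∃ w, C.Out w := by
  obtain ⟨w, hwT', hwN, hwT, hw2⟩ := MinSimple.Choice97.exists_normalizing hT' hlt
  have hxT' := (mem_zc.1 hx).2.1
  have hx2 : x ^ 2 = 1 := (mem_zc.1 hx).2.2
  have hwa : w * a = a * w := mem_centralizer_singleton_iff.1 (hTa' hwT')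
  have hwa' : w * a * w⁻¹ = a := by rw [hwa, mul_inv_cancel_right]
  have hwx : w * x = x * w := hxT' w hwT'
  obtain ⟨O, hOe⟩ : ∃ O, O = o2 (centralizer ({x} : Set G)) := ⟨_, rfl⟩
  rw [← hOe] at hO
  have hxC : ∀ {g : G}, g * x = x * g → g ∈ normalizer (O : Set G) := fun {g} hg => by
    rw [hOe]; exact le_normalizer_o2 _ (mem_centralizer_singleton_iff.2 hg)
  have hOp : IsPGroup 2 O := by rw [hOe]; exact o2_isPGroup _
  have hOL : O ≤ centralizer (ln h : Set G) := fun g hg =>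
    C.cen_O hxX (by rw [← hOe]; exact hg) (C.TN (hO hg))
  have hTx : ∀ t ∈ T, t * x = x * t := fun t ht => hxT' t (hlt.le ht)
  have hLO : ln h ≤ O := by
    intro v hv
    rw [hOe]
    refine MinSimple.Basic.char2_centralizer C.char2 hx2 hx1 (mem_inf.2
      ⟨mem_centralizer_singleton_iff.2 (hTx v (C.L_le hv)), mem_centralizer_iff.2 fun g hg => ?_⟩)
    rw [← hOe] at hg
    exact (mem_centralizer_iff.1 (hOL hg) v hv).symm
  have hwO := hxC hwx
  have hV'O : ∀ v ∈ ln h, w * v * w⁻¹ ∈ O := fun v hv => BTwo.conj_mem_of_normalizer hwO (hLO hv)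
  have hV'c : ∀ v ∈ ln h, ∀ g ∈ O, g * (w * v * w⁻¹) = w * v * w⁻¹ * g := by
    intro v hv g hg
    have h1 : w⁻¹ * g * w ∈ O := by
      have := BTwo.conj_mem_of_normalizer (inv_mem hwO) hg
      rwa [inv_inv] at this
    have h2 := mem_centralizer_iff.1 (hOL h1) v hv
    calc g * (w * v * w⁻¹) = w * (w⁻¹ * g * w * v) * w⁻¹ := by group
      _ = w * (v * (w⁻¹ * g * w)) * w⁻¹ := by rw [h2]
      _ = w * v * w⁻¹ * g := by group
  -- `[T, V'] ≤ ⟨a⟩`
  have hTV : ∀ v ∈ ln h, ∀ t ∈ T, t * (w * v * w⁻¹) * t⁻¹ = w * v * w⁻¹ ∨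
      t * (w * v * w⁻¹) * t⁻¹ = a * (w * v * w⁻¹) := by
    intro v hv t ht
    have h1 : w⁻¹ * t * w ∈ T := by
      have := (mem_normalizer_iff.1 (inv_mem hwN) t).1 ht
      rwa [inv_inv] at this
    have h2 : t * (w * v * w⁻¹) * t⁻¹ = w * ((w⁻¹ * t * w) * v * (w⁻¹ * t * w)⁻¹) * w⁻¹ := by group
    rw [h2]
    rcases C.TL h1 hv with e | e
    · left; rw [e]
    · right
      rw [e]
      calc w * (a * v) * w⁻¹ = (w * a * w⁻¹) * (w * v * w⁻¹) := by group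
        _ = _ := by rw [hwa']
  -- `x ∈ Z(Q_j)`
  have hxQ0 : x ∈ QQ (pts a b 0) := by
    show x ∈ o2 (normalizer (pts a b 0 : Set G))
    rw [C.N0]
    exact MinSimple.Basic.char2_centralizer C.char2 (by rw [pow_two]; exact h.aa) h.a1 (mem_inf.2
      ⟨hTa' (mem_zc.1 hx).1, mem_centralizer_iff.2 fun g hg => hTx g (C.Q_le hg)⟩)
  have hxQ0c : ∀ g ∈ QQ (pts a b 0), g * x = x * g := by
    intro g hg
    change g ∈ o2 (normalizer (pts a b 0 : Set G)) at hg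
    rw [C.N0] at hg
    exact hTx g (C.Q_le hg)
  have hxQ : ∀ j, x ∈ QQ (pts a b j) ∧ ∀ g ∈ QQ (pts a b j), g * x = x * g := by
    intro j
    obtain ⟨e, he, ej⟩ := C.bt.trans_X_one 0 j
    have hex : e * x * e⁻¹ = x := by rw [hxX e he, mul_inv_cancel_right]
    have hQ := C.bt.cj_QQ ej
    refine ⟨?_, fun g hg => ?_⟩
    · rw [← hQ, ← hex]; exact BTwo.conj_mem_cj hxQ0
    · rw [← hQ] at hg
      obtain ⟨g', hg', rfl⟩ := hg
      change e * g' * e⁻¹ * x = x * (e * g' * e⁻¹)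
      have h1 := hxQ0c g' hg'
      calc e * g' * e⁻¹ * x = e * g' * e⁻¹ * (e * x * e⁻¹) := by rw [hex]
        _ = e * (g' * x) * e⁻¹ := by group
        _ = e * (x * g') * e⁻¹ := by rw [h1]
        _ = (e * x * e⁻¹) * (e * g' * e⁻¹) := by group
        _ = x * (e * g' * e⁻¹) := by rw [hex]
  -- `V' ≤ Q_j`
  have hVQ : ∀ j : Fin 3, j ≠ 0 → ∀ v ∈ ln h, w * v * w⁻¹ ∈ QQ (pts a b j) := by
    intro j hj
    obtain ⟨H, hH⟩ : ∃ H, H = normalizer (pts a b j : Set G) := ⟨_, rfl⟩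
    have hHQ : H ≤ normalizer (QQ (pts a b j) : Set G) := by rw [hH]; exact le_normalizer_o2 _
    have hV'H : ∀ v ∈ ln h, w * v * w⁻¹ ∈ H := by
      intro v hv
      rw [hH, h.normalizer_pts j, mem_centralizer_singleton_iff]
      exact (hV'c v hv _ (hLO (h.dd_mem j))).symm
    have haQ : ∃ g ∈ QQ (pts a b j), g * a ≠ a * g := by
      have h1 : (0 : Fin 3) ≠ j := Ne.symm hj
      obtain ⟨l, hl1, hl2⟩ : ∃ l : Fin 3, l ≠ j ∧ l ≠ 0 := by
        have : ∀ j : Fin 3, ∃ l : Fin 3, l ≠ j ∧ l ≠ 0 := by decide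
        exact this j
      obtain ⟨g, hg, e⟩ := C.bt.trans j h1 hl1
      refine ⟨g, C.bt.W_le_Q j hg, fun e1 => hl2 ?_⟩
      have e2 : cj g (pts a b 0) = pts a b 0 := h.cj_pts (by
        show g * a * g⁻¹ = a
        rw [e1, mul_inv_cancel_right])
      exact C.bt.R_index (e.symm.trans e2)
    -- `V'` commutes with the `x^q`
    have hcom : ∀ v ∈ ln h, ∀ q ∈ H, (w * v * w⁻¹) * (q * x * q⁻¹) = q * x * q⁻¹ * (w * v * w⁻¹) := by
      intro v hv q hq
      obtain ⟨y, hy⟩ : ∃ y, y = q * x * q⁻¹ := ⟨_, rfl⟩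
      obtain ⟨v', hv'⟩ : ∃ v', v' = w * v * w⁻¹ := ⟨_, rfl⟩
      rw [← hy, ← hv']
      have hyQ : y ∈ QQ (pts a b j) := by
        rw [hy]; exact BTwo.conj_mem_of_normalizer (hHQ hq) (hxQ j).1
      have hyc : ∀ g ∈ QQ (pts a b j), g * y = y * g := by
        intro g hg
        have h1 : q⁻¹ * g * q ∈ QQ (pts a b j) := by
          have := BTwo.conj_mem_of_normalizer (inv_mem (hHQ hq)) hg
          rwa [inv_inv] at this
        have h2 := (hxQ j).2 _ h1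
        calc g * y = q * (q⁻¹ * g * q * x) * q⁻¹ := by rw [hy]; group
          _ = q * (x * (q⁻¹ * g * q)) * q⁻¹ := by rw [h2]
          _ = y * g := by rw [hy]; group
      have hyT : y ∈ T := C.QC_le j hyQ (mem_centralizer_iff.2 fun l hl => hyc l (C.bt.V_Q j hl))
      have hv'H : v' ∈ H := by rw [hv']; exact hV'H v hv
      rcases hTV v hv y hyT with e | e
      · rw [← hv'] at e
        exact (mul_inv_eq_iff_eq_mul.1 e).symm
      · exfalso
        rw [← hv'] at e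
        have e1 : a = y * (v' * y⁻¹ * v'⁻¹) := by
          calc a = a * v' * v'⁻¹ := by group
            _ = y * v' * y⁻¹ * v'⁻¹ := by rw [e]
            _ = _ := by group
        obtain ⟨g, hg, hga⟩ := haQ
        apply hga
        have h3 : v'⁻¹ * g * v' ∈ QQ (pts a b j) := by
          have := BTwo.conj_mem_of_normalizer (inv_mem (hHQ hv'H)) hg
          rwa [inv_inv] at this
        have h4 : v'⁻¹ * g * v' * y⁻¹ = y⁻¹ * (v'⁻¹ * g * v') :=
          ((show Commute _ y from hyc _ h3).inv_right).eq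
        have h5 : g * (v' * y⁻¹ * v'⁻¹) = v' * y⁻¹ * v'⁻¹ * g := by
          calc g * (v' * y⁻¹ * v'⁻¹) = v' * (v'⁻¹ * g * v' * y⁻¹) * v'⁻¹ := by group
            _ = v' * (y⁻¹ * (v'⁻¹ * g * v')) * v'⁻¹ := by rw [h4]
            _ = _ := by group
        have h6 : g * (y * (v' * y⁻¹ * v'⁻¹)) = y * (v' * y⁻¹ * v'⁻¹) * g := by
          rw [← mul_assoc, hyc g hg, mul_assoc, h5]
          group
        rwa [← e1] at h6
    -- the normal subgroup `N` of `H`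
    let N : Subgroup G :=
      { carrier := {g | g ∈ H ∧ ∀ q ∈ H, g * (q * x * q⁻¹) = q * x * q⁻¹ * g}
        one_mem' := ⟨one_mem _, fun q _ => by rw [one_mul, mul_one]⟩
        mul_mem' := by
          rintro g g' ⟨hg, hg1⟩ ⟨hg', hg1'⟩
          refine ⟨mul_mem hg hg', fun q hq => ?_⟩
          rw [mul_assoc, hg1' q hq, ← mul_assoc, hg1 q hq, mul_assoc]
        inv_mem' := by
          rintro g ⟨hg, hg1⟩
          exact ⟨inv_mem hg, fun q hq => ((show Commute g _ from hg1 q hq).inv_left).eq⟩ }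
    have hNH : N ≤ H := fun g hg => hg.1
    have hHN : H ≤ normalizer (N : Set G) := by
      intro p hp
      refine BTwo.mem_normalizer_of_conj fun g hg => ⟨mul_mem (mul_mem hp hg.1) (inv_mem hp), fun q hq => ?_⟩
      have h1 := hg.2 (p⁻¹ * q) (mul_mem (inv_mem hp) hq)
      calc p * g * p⁻¹ * (q * x * q⁻¹) = p * (g * (p⁻¹ * q * x * (p⁻¹ * q)⁻¹)) * p⁻¹ := by group
        _ = p * (p⁻¹ * q * x * (p⁻¹ * q)⁻¹ * g) * p⁻¹ := by rw [h1]
        _ = q * x * q⁻¹ * (p * g * p⁻¹) := by group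
    have hNx : ∀ g ∈ N, g * x = x * g := by
      intro g hg
      have := hg.2 1 (one_mem _)
      rwa [one_mul, inv_one, mul_one] at this
    intro v hv
    have h1 : w * v * w⁻¹ ∈ N := ⟨hV'H v hv, fun q hq => hcom v hv q hq⟩
    have h2 : (O ⊓ N : Subgroup G) ≤ o2 N := by
      refine le_o2 inf_le_right (hOp.to_le inf_le_left) fun g hg => ?_
      refine BTwo.mem_normalizer_of_conj fun z hz => mem_inf.2
        ⟨BTwo.conj_mem_of_normalizer (hxC (hNx g hg)) hz.1, mul_mem (mul_mem hg hz.2) (inv_mem hg)⟩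
    have h3 := o2_le_o2 hNH hHN (h2 (mem_inf.2 ⟨hV'O v hv, h1⟩))
    rw [hH] at h3
    exact h3
  -- `u_j`
  obtain ⟨u, hu⟩ : ∃ u, u = w * b * w⁻¹ := ⟨_, rfl⟩
  have hLV : ∀ v ∈ ln h, ∀ l ∈ ln h, l * (w * v * w⁻¹) = w * v * w⁻¹ * l := fun v hv l hl =>
    hV'c v hv l (hLO hl)
  have hul : ∀ l ∈ ln h, l * u = u * l := fun l hl => by rw [hu]; exact hLV b C.bL l hl
  have huu : u * u = 1 := by
    rw [hu]
    calc w * b * w⁻¹ * (w * b * w⁻¹) = w * (b * b) * w⁻¹ := by group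
      _ = 1 := by rw [h.bb]; group
  have hua := hul a C.aL
  have hU : ∀ j : Fin 3, j ≠ 0 → ∃ u', (u' = u ∨ u' = u * a) ∧ ∀ g ∈ WW (ln h) (pts a b j), g * u' = u' * g := by
    intro j hj
    obtain ⟨d, hd⟩ : ∃ d, d = dd a b j := ⟨_, rfl⟩
    have hdL : d ∈ ln h := by rw [hd]; exact h.dd_mem j
    have hmemj : ∀ {z : G}, z ∈ pts a b j → z = 1 ∨ z = d := fun {z} hz => by
      rw [hd]; exact h.mem_pts.1 hz
    have hdd : d * d = 1 := C.sqL hdL
    have had : a * d = d * a := C.commL C.aL hdL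
    have hanj : a ∉ pts a b j := fun e => by
      have := C.bt.eq_one hj e (mem_zpowers a : a ∈ pts a b 0)
      exact h.a1 this
    have had1 : a * d ∉ pts a b j := fun e => by
      have h1 : a * d * d ∈ pts a b j := mul_mem e (by rw [hd]; exact mem_zpowers _)
      rw [mul_assoc, hdd, mul_one] at h1
      exact hanj h1
    obtain ⟨o, ho, eo⟩ := C.exists_W (i := j) C.aL (mul_mem C.aL hdL) hanj had1
    -- elements of `W_j ∩ C(a)`
    have hW0 : ∀ g ∈ WW (ln h) (pts a b j), g * a = a * g → g * u = u * g := by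
      intro g hg hga
      have hgQ := C.bt.W_le_Q j hg
      have hgL : g ∈ centralizer (ln h : Set G) := by
        have h1 : cj g (pts a b 0) = pts a b 0 := h.cj_pts (by
          show g * a * g⁻¹ = a
          rw [hga, mul_inv_cancel_right])
        exact C.bt.mem_cen_Q (i := 0) (Ne.symm hj) hgQ h1
      have hgT := C.QC_le j hgQ hgL
      have h1 := C.bt.WQ j (hVQ j hj b C.bL) hg
      rw [← hu] at h1
      have h2 := hTV b C.bL g hgT
      rw [← hu] at h2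
      rcases h2 with e | e
      · exact mul_inv_eq_iff_eq_mul.1 e
      · exfalso
        have e1 : u * g * u⁻¹ * g⁻¹ = a := by
          have e2 : (u * g * u⁻¹ * g⁻¹)⁻¹ = a := by
            calc (u * g * u⁻¹ * g⁻¹)⁻¹ = g * u * g⁻¹ * u⁻¹ := by group
              _ = a := by rw [e]; group
          calc u * g * u⁻¹ * g⁻¹ = ((u * g * u⁻¹ * g⁻¹)⁻¹)⁻¹ := (inv_inv _).symm
            _ = a := by rw [e2]; exact inv_eq_of_mul_eq_one_left h.aa
        rw [e1] at h1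
        exact hanj h1
    -- the element `o`
    obtain ⟨u', hu', hou⟩ : ∃ u', (u' = u ∨ u' = u * a) ∧ o * u' = u' * o := by
      have h1 := C.bt.WQ j (hVQ j hj b C.bL) ho
      rw [← hu] at h1
      rcases hmemj h1 with e | e
      · refine ⟨u, Or.inl rfl, ?_⟩
        rw [mul_inv_eq_one, mul_inv_eq_iff_eq_mul] at e
        exact e.symm
      · refine ⟨u * a, Or.inr rfl, ?_⟩
        -- `o u o⁻¹ = u d`
        have e1 : o * u * o⁻¹ = u * d := by
          have hui : u⁻¹ = u := inv_eq_of_mul_eq_one_left huu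
          have e2 : o * u⁻¹ * o⁻¹ = u⁻¹ * d := by rw [← e]; group
          rwa [hui] at e2
        have e3 : o * (u * a) * o⁻¹ = u * a := by
          calc o * (u * a) * o⁻¹ = (o * u * o⁻¹) * (o * a * o⁻¹) := by group
            _ = u * d * (a * d) := by rw [e1, eo]
            _ = u * (d * a) * d := by group
            _ = u * a * (d * d) := by rw [← had]; group
            _ = u * a := by rw [hdd, mul_one]
        exact mul_inv_eq_iff_eq_mul.1 e3
    have hW1 : ∀ g ∈ WW (ln h) (pts a b j), g * a = a * g → g * u' = u' * g := by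
      intro g hg hga
      have h1 := hW0 g hg hga
      rcases hu' with e | e
      · rw [e]; exact h1
      · rw [e, ← mul_assoc, h1, mul_assoc, hga, mul_assoc]
    refine ⟨u', hu', fun g hg => ?_⟩
    rcases hmemj (C.bt.QV j g (C.bt.W_le_Q j hg) a C.aL) with e | e
    · rw [mul_inv_eq_one, mul_inv_eq_iff_eq_mul] at e
      exact hW1 g hg e
    · have e1 : g * a * g⁻¹ = a * d := by
        rw [mul_inv_eq_iff_eq_mul] at e
        rw [e, had]
      have h1 : o⁻¹ * g ∈ WW (ln h) (pts a b j) := mul_mem (inv_mem ho) hg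
      have h2 : o⁻¹ * g * a * (o⁻¹ * g)⁻¹ = a := by
        calc o⁻¹ * g * a * (o⁻¹ * g)⁻¹ = o⁻¹ * (g * a * g⁻¹) * o := by group
          _ = o⁻¹ * (o * a * o⁻¹) * o := by rw [e1, eo]
          _ = a := by group
      have h3 := hW1 _ h1 (mul_inv_eq_iff_eq_mul.1 h2)
      calc g * u' = o * (o⁻¹ * g * u') := by group
        _ = o * u' * (o⁻¹ * g) := by rw [h3]; group
        _ = u' * g := by rw [hou]; group
  obtain ⟨u₁, hu₁, h1W⟩ := hU 1 (by decide)
  obtain ⟨u₂, hu₂, h2W⟩ := hU 2 (by decide)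
  -- `u₁ ≠ u₂`
  have hne : u₁ ≠ u₂ := by
    intro e
    have hX : u₁ ∈ centralizer (XX (ln h) (pts a b) : Set G) :=
      C.bt.mem_cen_X (i := 1) (j := 2) (by decide) (mem_centralizer_iff.2 h1W)
        (mem_centralizer_iff.2 (by rw [e]; exact h2W))
    obtain ⟨g, hg, eg⟩ := C.exists_W (i := 0) C.bL C.abL C.b_notin C.ab_notin
    have hwN0 : w ∈ normalizer (pts a b 0 : Set G) := by
      rw [C.N0]; exact mem_centralizer_singleton_iff.2 hwa
    have h1 : w * g * w⁻¹ ∈ WW (ln h) (pts a b 0) :=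
      BTwo.conj_mem_of_normalizer (BTwo.normalizer_le_WW (ln h) (pts a b 0) hwN0) hg
    have h2 := mem_centralizer_iff.1 hX _ (BTwo.W_le_X _ _ 0 h1)
    have hga : g * a = a * g := by
      have h3 := C.bt.W_le_N 0 hg
      rw [C.N0] at h3
      exact mem_centralizer_singleton_iff.1 h3
    have h3 : (w * g * w⁻¹) * u * (w * g * w⁻¹)⁻¹ = u * a := by
      calc (w * g * w⁻¹) * u * (w * g * w⁻¹)⁻¹ = w * (g * b * g⁻¹) * w⁻¹ := by rw [hu]; group
        _ = (w * a * w⁻¹) * (w * b * w⁻¹) := by rw [eg]; group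
        _ = a * u := by rw [hwa', hu]
        _ = u * a := hua
    have h4 : (w * g * w⁻¹) * a * (w * g * w⁻¹)⁻¹ = a := by
      calc (w * g * w⁻¹) * a * (w * g * w⁻¹)⁻¹ = w * (g * (w⁻¹ * (a * w)) * g⁻¹) * w⁻¹ := by group
        _ = w * (g * a * g⁻¹) * w⁻¹ := by rw [← hwa]; group
        _ = w * a * w⁻¹ := by rw [hga]; group
        _ = a := hwa'
    have h5 : (w * g * w⁻¹) * u₁ * (w * g * w⁻¹)⁻¹ = u₁ := by rw [h2, mul_inv_cancel_right]
    have h6 : (w * g * w⁻¹) * u₁ * (w * g * w⁻¹)⁻¹ = u₁ * a := by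
      rcases hu₁ with e | e
      · rw [e]; exact h3
      · rw [e]
        calc (w * g * w⁻¹) * (u * a) * (w * g * w⁻¹)⁻¹
            = ((w * g * w⁻¹) * u * (w * g * w⁻¹)⁻¹) * ((w * g * w⁻¹) * a * (w * g * w⁻¹)⁻¹) := by group
          _ = u * a * a := by rw [h3, h4]
    have h7 : a = 1 := by
      have := h5.symm.trans h6
      exact (mul_left_cancel ((mul_one u₁).trans this)).symm
    exact h.a1 h7
  have hu21 : u₂ = u₁ * a := by
    rcases hu₁ with e1 | e1 <;> rcases hu₂ with e2 | e2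
    · exact absurd (e1.trans e2.symm) hne
    · rw [e1, e2]
    · rw [e1, e2, mul_assoc, h.aa, mul_one]
    · exact absurd (e1.trans e2.symm) hne
  have hu1L : ∀ l ∈ ln h, l * u₁ = u₁ * l := by
    intro l hl
    rcases hu₁ with e | e
    · rw [e]; exact hul l hl
    · rw [e, ← mul_assoc, hul l hl, mul_assoc, C.commL hl C.aL, mul_assoc]
  have hu1a : a * u₁ = u₁ * a := hu1L a C.aL
  have hu1b : b * u₁ = u₁ * b := hu1L b C.bL
  have hu11 : u₁ * u₁ = 1 := by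
    rcases hu₁ with e | e
    · rw [e]; exact huu
    · rw [e]
      calc u * a * (u * a) = u * (a * u) * a := by group
        _ = u * u * (a * a) := by rw [hua]; group
        _ = 1 := by rw [huu, h.aa, mul_one]
  have hu1T : u₁ ∈ T := by
    have h1 : u ∈ T := by rw [hu]; exact (mem_normalizer_iff.1 hwN b).1 (C.L_le C.bL)
    rcases hu₁ with e | e
    · rw [e]; exact h1
    · rw [e]; exact mul_mem h1 (C.L_le C.aL)
  -- `k = b u₁`
  have hkX : b * u₁ ∈ centralizer (XX (ln h) (pts a b) : Set G) := by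
    refine C.bt.mem_cen_X (i := 1) (j := 2) (by decide)
      (mul_mem (C.bt.R_cen_W 1 (mem_zpowers b)) (mem_centralizer_iff.2 h1W)) ?_
    have e : b * u₁ = a * b * u₂ := by
      rw [hu21, ← hu1a]
      calc b * u₁ = (a * a) * b * u₁ := by rw [h.aa, one_mul]
        _ = a * (a * b) * u₁ := by group
        _ = a * (b * a) * u₁ := by rw [h.comm]
        _ = a * b * (a * u₁) := by group
    rw [e]
    exact mul_mem (C.bt.R_cen_W 2 (mem_zpowers (a * b))) (mem_centralizer_iff.2 h2W)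
  have hkX' : ∀ y ∈ XX (ln h) (pts a b), y * (b * u₁) = b * u₁ * y := fun y hy => mem_centralizer_iff.1 hkX y hy
  have hkT : b * u₁ ∈ T := mul_mem (C.L_le C.bL) hu1T
  have hkk : b * u₁ * (b * u₁) = 1 := by
    calc b * u₁ * (b * u₁) = b * (u₁ * b) * u₁ := by group
      _ = b * b * (u₁ * u₁) := by rw [← hu1b]; group
      _ = 1 := by rw [h.bb, hu11, mul_one]
  have hkc : ∀ t ∈ T, t * (b * u₁) = b * u₁ * t := by
    intro t ht
    have h1 : t * (b * u₁) * t⁻¹ = b * u₁ ∨ t * (b * u₁) * t⁻¹ = b * u₁ * a := by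
      have e : t * (b * u₁) * t⁻¹ = (t * b * t⁻¹) * (t * u₁ * t⁻¹) := by group
      have f2 : t * u₁ * t⁻¹ = u₁ ∨ t * u₁ * t⁻¹ = a * u₁ := by
        have f3 := hTV b C.bL t ht
        rw [← hu] at f3
        rcases hu₁ with e | e
        · rw [e]; exact f3
        · rw [e]
          have f4 : t * (u * a) * t⁻¹ = (t * u * t⁻¹) * (t * a * t⁻¹) := by group
          rw [f4, C.comm_a ht, mul_inv_cancel_right]
          rcases f3 with e | e
          · left; rw [e]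
          · right; rw [e, mul_assoc]
      rw [e]
      have hba : b * a = a * b := h.comm.symm
      rcases C.act_T ht with e1 | e1 <;> rcases f2 with e2 | e2 <;> rw [e1, e2]
      · left; rfl
      · right; rw [hu1a, mul_assoc]
      · right
        rw [mul_assoc, mul_assoc, ← hu1a, ← mul_assoc a b, ← hba, mul_assoc]
      · left
        calc a * b * (a * u₁) = a * (b * a) * u₁ := by group
          _ = (a * a) * b * u₁ := by rw [hba]; group
          _ = b * u₁ := by rw [h.aa, one_mul]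
    rcases h1 with e | e
    · exact mul_inv_eq_iff_eq_mul.1 e
    · exfalso
      have h2 : t ∈ normalizer (centralizer (XX (ln h) (pts a b) : Set G) : Set G) :=
        BTwo.normalizer_le_normalizer_centralizer _ (C.bt.NV_le_NX (C.TN ht))
      have h3 := BTwo.conj_mem_of_normalizer h2 hkX
      rw [e] at h3
      have h4 := mul_mem (inv_mem hkX) h3
      rw [inv_mul_cancel_left] at h4
      exact h.a1 (C.bt.cen_VX C.aL h4)
  have hub : u = b * (b * u₁) ∨ u = a * b * (b * u₁) := by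
    have e : b * (b * u₁) = u₁ := by rw [← mul_assoc, h.bb, one_mul]
    rcases hu₁ with e1 | e1
    · left; rw [e, e1]
    · right
      rw [mul_assoc, e, hu1a, e1, mul_assoc, h.aa, mul_one]
  refine ⟨w, hwN, hwT, hw2, hwa', b * u₁, mem_zc.2 ⟨hkT, hkc, by rw [pow_two]; exact hkk⟩, fun e => ?_, hkX', ?_⟩
  · refine C.not_mem_N hwN hw2 hwT (C.mem_N (by rw [hwa']; exact C.aL) ?_)
    rw [← hu]
    rcases hub with f | f
    · rw [f, e, mul_one]; exact C.bL
    · rw [f, e, mul_one]; exact C.abL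
  · rw [← hu]; exact hub

/-- **steps (2), (3)** -/
theorem main {T' : Subgroup G} (hT' : IsPGroup 2 T') (hlt : T < T') (hTa' : T' ≤ centralizer ({a} : Set G))
    {x : G} (hx : x ∈ zc T') (hx1 : x ≠ 1) (hxX : ∀ y ∈ XX (ln h) (pts a b), y * x = x * y) :
    ∃ k ∈ zc T, k ≠ 1 ∧ (∀ y ∈ XX (ln h) (pts a b), y * k = k * y) ∧
      ∃ g, g * k = k * g ∧ g * a * g⁻¹ = a * k ∧ g * b * g⁻¹ = b * k := by
  by_cases hO : o2 (centralizer ({x} : Set G)) ≤ T
  · obtain ⟨w, hw⟩ := C.caseA hT' hlt hTa' hx hx1 hxX hO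
    exact C.three hw
  · obtain ⟨w, hw⟩ := C.caseB (fun t ht => (mem_zc.1 hx).2.1 t (hlt.le ht)) hxX hO
    exact C.three hw


end Cf

end Cfsg.Agent.Omega.IId.SymWrD.Ht.TwoA

end

section


/-!
# II.d, `SwCv`, `T`-`T`, `D` arbitrary: LEMMA E over a 2-group `T̂ ≥ T = C_S(n)` (bb OMEGA #22373 (B), helper971)

`T̂` is a 2-subgroup of `C_G(n)` of odd index which contains `T = tn S M μ x` and normalises the line
`{1, n, r₂, r₃}` (THEOREM SYL^, #21666). `le_hat` : `ThmA.LE` for the line.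

* `act` : a 2-group `O` normalised by the elements of `P` in the summands commuting with `n`: `O ∩ T` acts on `V` inside
  `⟨(x μx)⟩`;
* `swp` : `w ∈ O₂(C(n d))` normalises `T`, `w² ∈ T`, `w ∉ T` `⟹` `w n w⁻¹ = w⁻¹ n w ∈ DD M`;
* `caseB` : `O₂(C(n d)) ≤ T`;
* `le_hat`.
-/

set_option autoImplicit false
set_option linter.unusedSectionVars false

namespace Cfsg.Agent.Omega.IId.SymWrD.Ht.LEHat

open Subgroup Pointwise Cfsg Cfsg.Agent.Omega.MinPar Cfsg.Agent.Omega.FFThm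
open Cfsg.Agent.ZN (o2 zc)
open Cfsg.Agent.Omega.Half.SymA (Pt E)
open Cfsg.Agent.Omega.BTwo Cfsg.Agent.Omega.HTwo Cfsg.Agent.Omega.HTwo.Par
open Cfsg.Agent.Omega.HT.LemEA (GoodA)
open Cfsg.Agent.Omega.HT.LineOf (Ln ln pts dd)
open Cfsg.Agent.Omega.IId.SymWr.Ht.LE (exists_sep exists_third)
open Cfsg.Agent.Omega.IId.SymWrD.Ht.LE (bip goodA_of pr_mem_of exists_sw kill)
open Cfsg.Agent.Omega.IId.Triangle (KK mem_KK)
open Cfsg.Agent.Omega.IId.Big (cz qz)
open Cfsg.Agent.MinSimple.VModule (le_normalizer_o2 o2_isPGroup o2_le mem_zc zc_le normalizer_le_normalizer_zc)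

universe u

variable {G : Type u} [Group G] {P V : Subgroup G} {k m : ℕ}

section frame

variable {S : Sylow 2 G} {M : SymK (S : Subgroup G) P V ⊥ k m} {D : Subgroup G} (h : Fr S P V D M)
  {μ ν : Equiv.Perm (_root_.Cfsg.Agent.Omega.Half.SymA.Pt k m)} (F : Fours M μ ν) {x : _root_.Cfsg.Agent.Omega.Half.SymA.Pt k m} (hx : x.2 ≠ 0)

include h F hx

theorem En {p : _root_.Cfsg.Agent.Omega.Half.SymA.Pt k m} (h1 : p ≠ x) (h2 : p ≠ μ x) : E M (pr M x (μ x)) p = 0 :=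
  E_pr_of_ne M (F.mfst x).symm h1 h2

seal _root_.Cfsg.Agent.Omega.IId.SymWrD.pp in
/-- the action of `O ∩ T` on `V` -/
theorem act {O : Subgroup G} (hO : IsPGroup 2 O)
    (hn : ∀ g ∈ P, (∀ p, (pp M g p).1 = p.1) → g * pr M x (μ x) = pr M x (μ x) * g → g ∈ normalizer (O : Set G))
    {u : G} (hu : u ∈ O) (hut : u ∈ tn S M μ x) : pp M u = 1 ∨ pp M u = Equiv.swap x (μ x) := by
  classical
  have t := h.tri F hx
  have huS : u ∈ (S : Subgroup G) := hut.1
  have huP : u ∈ P := h.SP huS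
  have hz : ∀ {p : _root_.Cfsg.Agent.Omega.Half.SymA.Pt k m}, p.2 = 0 → p ≠ x ∧ p ≠ μ x := by
    intro p hp
    exact ⟨fun e => hx (by rw [← e]; exact hp), fun e => hx (F.mnz.1 (by rw [← e]; exact hp))⟩
  have hb : ∀ {l : Fin k} {p : _root_.Cfsg.Agent.Omega.Half.SymA.Pt k m}, l ≠ x.1 → p.1 = l → p ≠ x ∧ p ≠ μ x := by
    intro l p hl hp
    exact ⟨fun e => hl (by rw [← hp, e]), fun e => hl (by rw [← hp, e, F.mfst])⟩
  have hfix : ∀ p : _root_.Cfsg.Agent.Omega.Half.SymA.Pt k m, p ≠ x → p ≠ μ x → pp M u p = p := by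
    intro p hp1 hp2
    have hblk : pp M u (p.1, 0) = (p.1, 0) := by
      by_contra hne
      by_cases hpb : p.1 = x.1
      · apply hne
        rw [hpb]; exact h.tn_zero F hx hut
      have h0 : (pp M u (p.1, 0)).2 = 0 := (h.snd huS).2 rfl
      have h1 : (pp M u (p.1, 0)).1 ≠ p.1 := fun e => hne (Prod.ext e h0)
      obtain ⟨a, ha, -⟩ := exists_pt4 h.hm p.1 (∅ : Finset (_root_.Cfsg.Agent.Omega.Half.SymA.Pt k m)) (by simp)
      obtain ⟨b, hb1, hb2⟩ := exists_pt4 h.hm p.1 ({a} : Finset (_root_.Cfsg.Agent.Omega.Half.SymA.Pt k m)) (by simp)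
      obtain ⟨c, hc1, hc2⟩ := exists_pt4 h.hm p.1 ({a, b} : Finset (_root_.Cfsg.Agent.Omega.Half.SymA.Pt k m)) (Finset.card_le_two.trans (by norm_num))
      rw [Finset.mem_singleton] at hb2
      rw [Finset.mem_insert, Finset.mem_singleton, not_or] at hc2
      obtain ⟨g, hg, hgp⟩ := RD.exists_swapP h.toSit (ha.trans hb1.symm)
      have hE : E M (pr M x (μ x)) a = E M (pr M x (μ x)) b := by
        rw [En h F hx (hb hpb ha).1 (hb hpb ha).2, En h F hx (hb hpb hb1).1 (hb hpb hb1).2]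
      have h3 := RD.comm_mem h.toSit (pr_mem M x (μ x)) hn hu (ha.trans hb1.symm) hg hgp hE
      have h4 := RD.pp_comm_swap h.toSit huP hg hgp
      have hcP : u * g * u⁻¹ * g⁻¹ ∈ P := mul_mem (mul_mem (mul_mem huP hg) (inv_mem huP)) (inv_mem hg)
      have hblk' : ∀ {q r : _root_.Cfsg.Agent.Omega.Half.SymA.Pt k m}, q.1 = p.1 → r.1 = p.1 → pp M u q ≠ r := by
        intro q r hq hr e
        apply h1
        rw [show (pp M u (p.1, 0)).1 = (pp M u q).1 from h.fst huP hq.symm, e, hr]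
      have h5 : pp M (u * g * u⁻¹ * g⁻¹) c = c := by
        rw [h4, Equiv.Perm.mul_apply, Equiv.swap_apply_of_ne_of_ne hc2.1 hc2.2,
          Equiv.swap_apply_of_ne_of_ne (hblk' ha hc1).symm (hblk' hb1 hc1).symm]
      have h6 := RD.tri h.toSit hO (pr_mem M x (μ x)) hn h3 hcP (hc1.trans ha.symm) hc2.1
        (by rw [En h F hx (hb hpb hc1).1 (hb hpb hc1).2, En h F hx (hb hpb ha).1 (hb hpb ha).2]) h5
      have h7 : pp M (u * g * u⁻¹ * g⁻¹) a = b := by
        rw [h4, Equiv.Perm.mul_apply, Equiv.swap_apply_left,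
          Equiv.swap_apply_of_ne_of_ne (hblk' ha hb1).symm (hblk' hb1 hb1).symm]
      exact hb2 (h7.symm.trans h6)
    by_cases hp0 : p.2 = 0
    · have e : p = (p.1, 0) := Prod.ext rfl hp0
      rw [e]; exact hblk
    · have hz0 := hz (p := (p.1, 0)) rfl
      refine RD.tri h.toSit hO (pr_mem M x (μ x)) hn hu huP (a := (p.1, 0)) rfl (fun e => hp0 ?_) ?_ hblk
      · rw [← e]
      · rw [En h F hx hz0.1 hz0.2, En h F hx hp1 hp2]
  rcases h.tn_pp F hx hut with ⟨e1, e2⟩ | ⟨e1, e2⟩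
  · left
    ext1 p
    by_cases hp1 : p = x
    · rw [hp1, e1]; rfl
    by_cases hp2 : p = μ x
    · rw [hp2, e2]; rfl
    · rw [hfix p hp1 hp2]; rfl
  · right
    ext1 p
    by_cases hp1 : p = x
    · rw [hp1, e1, Equiv.swap_apply_left]
    by_cases hp2 : p = μ x
    · rw [hp2, e2, Equiv.swap_apply_right]
    · rw [hfix p hp1 hp2, Equiv.swap_apply_of_ne_of_ne hp1 hp2]

end frame

/-! ### `w ∈ O₂(C(n d))` normalising `T` -/

section conf

variable [Finite G] {S : Sylow 2 G} {M : SymK (S : Subgroup G) P V ⊥ k m} {D : Subgroup G} (h : Fr S P V D M)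
  {μ ν : Equiv.Perm (_root_.Cfsg.Agent.Omega.Half.SymA.Pt k m)} (F : Fours M μ ν) {x : _root_.Cfsg.Agent.Omega.Half.SymA.Pt k m} (hx : x.2 ≠ 0)

/-- `w ∈ O₂(C(n d))` normalises `T`, `w ∉ T`, `w² ∈ T` -/
structure Out (S : Sylow 2 G) {P V : Subgroup G} (M : SymK (S : Subgroup G) P V ⊥ k m) (μ : Equiv.Perm (_root_.Cfsg.Agent.Omega.Half.SymA.Pt k m))
    (x : _root_.Cfsg.Agent.Omega.Half.SymA.Pt k m) (d w : G) : Prop where
  mO : w ∈ o2 (centralizer ({pr M x (μ x) * d} : Set G))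
  nT : w ∈ normalizer (tn S M μ x : Set G)
  sq : w * w ∈ tn S M μ x
  nm : w ∉ tn S M μ x

omit [Finite G] in
theorem Out.inv {d w : G} (hw : Out S M μ x d w) : Out S M μ x d w⁻¹ where
  mO := inv_mem hw.mO
  nT := inv_mem hw.nT
  sq := by
    have h1 : w⁻¹ * w⁻¹ = (w * w)⁻¹ := by group
    rw [h1]
    exact inv_mem hw.sq
  nm := fun h1 => hw.nm (by rw [← inv_inv w]; exact inv_mem h1)

include h F hx

seal _root_.Cfsg.Agent.Omega.IId.SymWrD.pp in
/-- the elements of `P` in the summands commuting with `n` normalise `O₂(C(n d))` -/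
theorem nO {d : G} (hd : d ∈ DD M) {g : G} (hg : g ∈ P) (hg1 : ∀ p, (pp M g p).1 = p.1)
    (hgn : g * pr M x (μ x) = pr M x (μ x) * g) :
    g ∈ normalizer (o2 (centralizer ({pr M x (μ x) * d} : Set G)) : Set G) := by
  refine le_normalizer_o2 _ (mem_centralizer_singleton_iff.2 ?_)
  rw [← mul_assoc, hgn, mul_assoc, (mem_DD.1 hd).2 g hg hg1, mul_assoc]

seal _root_.Cfsg.Agent.Omega.IId.SymWrD.pp in
theorem actO {d : G} (hd : d ∈ DD M) {u : G} (hu : u ∈ o2 (centralizer ({pr M x (μ x) * d} : Set G)))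
    (hut : u ∈ tn S M μ x) : pp M u = 1 ∨ pp M u = Equiv.swap x (μ x) :=
  act h F hx (o2_isPGroup _) (fun _ hg hg1 hgn => nO h F hx hd hg hg1 hgn) hu hut

theorem perpO {d : G} (hd : d ∈ DD M) {u : G} (hu : u ∈ o2 (centralizer ({pr M x (μ x) * d} : Set G)))
    (hut : u ∈ tn S M μ x) {v : G} (hv : v ∈ V) (hE : E M v x = E M v (μ x)) : u * v = v * u :=
  h.comm_perp_of (p := x) (q := μ x) (h.SP hut.1) (actO h F hx hd hu hut) hv hE

omit [Finite G] h F hx in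
theorem cm {d : G} (hdT : ∀ s ∈ tn S M μ x, s * d = d * s) {w : G} (hw : Out S M μ x d w) {t : G}
    (ht : t ∈ tn S M μ x) : w * t * w⁻¹ * t⁻¹ ∈ o2 (centralizer ({pr M x (μ x) * d} : Set G)) ∧
      w * t * w⁻¹ * t⁻¹ ∈ tn S M μ x := by
  refine ⟨?_, mul_mem ((mem_normalizer_iff.1 hw.nT t).1 ht) (inv_mem ht)⟩
  have h1 : t ∈ centralizer ({pr M x (μ x) * d} : Set G) := by
    rw [mem_centralizer_singleton_iff, ← mul_assoc, mem_centralizer_singleton_iff.1 ht.2, mul_assoc, hdT t ht,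
      mul_assoc]
  have h2 := (mem_normalizer_iff.1 (le_normalizer_o2 _ h1) w⁻¹).1 (inv_mem hw.mO)
  have e : w * t * w⁻¹ * t⁻¹ = w * (t * w⁻¹ * t⁻¹) := by group
  rw [e]
  exact mul_mem hw.mO h2

variable {d : G} (hd : d ∈ DD M) (hdT : ∀ s ∈ tn S M μ x, s * d = d * s) {w : G} (hw : Out S M μ x d w)

include hd hdT hw

/-- `w z w⁻¹ ∈ Ω₁Z(O₂(P))` for `z ∈ V` orthogonal to `n` -/
theorem conj_perp {z : G} (hz : z ∈ V) (hE : E M z x = E M z (μ x)) : w * z * w⁻¹ ∈ zc (o2 P) := by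
  refine h.mem_zc_of F hx ?_ fun r hr => ?_
  · calc w * z * w⁻¹ * (w * z * w⁻¹) = w * (z * z) * w⁻¹ := by group
      _ = 1 := by rw [h.Vsq hz]; group
  · obtain ⟨h1, h2⟩ := cm hdT hw.inv (h.Q_le_tn F hx hr)
    rw [inv_inv] at h1 h2
    have h3 := perpO h F hx hd h1 h2 hz hE
    have h4 : r * z = z * r := ((mem_zc.1 (h.VZ hz)).2.1 r hr)
    calc r * (w * z * w⁻¹) = w * ((w⁻¹ * r * w * r⁻¹) * (r * z)) * w⁻¹ := by group
      _ = w * ((w⁻¹ * r * w * r⁻¹ * z) * r) * w⁻¹ := by rw [h4]; group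
      _ = w * (z * (w⁻¹ * r * w * r⁻¹) * r) * w⁻¹ := by rw [h3]
      _ = w * z * w⁻¹ * r := by group

/-- `w` commutes with the duads `≠ n` of `S` -/
theorem comm_q (zv : zc (o2 P) ≤ V ⊔ DD M) {c : _root_.Cfsg.Agent.Omega.Half.SymA.Pt k m} (hc : c.2 ≠ 0) (h1 : c ≠ x) (h2 : c ≠ μ x) :
    w * pr M c (μ c) = pr M c (μ c) * w := by
  have hμ1 : μ c ≠ x := fun e => h2 (by rw [← e, F.msq])
  have hμ2 : μ c ≠ μ x := fun e => h1 (μ.injective e)
  have hz0 : ((c.1, 0) : _root_.Cfsg.Agent.Omega.Half.SymA.Pt k m) ≠ x := fun e => hx (by rw [← e])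
  have hz0' : ((c.1, 0) : _root_.Cfsg.Agent.Omega.Half.SymA.Pt k m) ≠ μ x := fun e => hx (F.mnz.1 (by rw [← e]))
  obtain ⟨z, hz⟩ : ∃ z, z = pr M c (c.1, 0) := ⟨_, rfl⟩
  have hzV : z ∈ V := by rw [hz]; exact pr_mem M _ _
  have hzE : ∀ {p : _root_.Cfsg.Agent.Omega.Half.SymA.Pt k m}, p ≠ c → p ≠ (c.1, 0) → E M z p = 0 := fun {p} e1 e2 => by
    rw [hz]; exact E_pr_of_ne M (show c.1 = ((c.1, 0) : _root_.Cfsg.Agent.Omega.Half.SymA.Pt k m).1 from rfl) e1 e2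
  have hzx : E M z x = E M z (μ x) := by
    rw [hzE h1.symm hz0.symm, hzE h2.symm hz0'.symm]
  obtain ⟨q, hq⟩ : ∃ q, q = pr M c (μ c) := ⟨_, rfl⟩
  have hqV : q ∈ V := by rw [hq]; exact pr_mem M _ _
  have hqx : E M q x = E M q (μ x) := by
    rw [hq, E_pr_of_ne M (F.mfst c).symm h1.symm hμ1.symm, E_pr_of_ne M (F.mfst c).symm h2.symm hμ2.symm]
  obtain ⟨τ, hτ, hτp⟩ := h.exists_swap F hx hc
  have hτP := h.SP hτ.1
  have hcc : c.1 = (μ c).1 := (F.mfst c).symm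
  have hzc : E M z c ≠ E M z (μ c) := by
    have e0 : c ≠ (c.1, 0) := fun e => hc (congrArg Prod.snd e)
    rw [hzE (F.mne c hc) (fun e => hc (F.mnz.1 (congrArg Prod.snd e))), hz,
      E_pr_left M (show c.1 = ((c.1, 0) : _root_.Cfsg.Agent.Omega.Half.SymA.Pt k m).1 from rfl) e0]
    exact one_ne_zero
  have hqz : τ * z * τ⁻¹ = z * q := by rw [hq]; exact h.conj_swap hτP hcc hτp hzV hzc
  -- `o = [w, τ]`
  obtain ⟨h3, h4⟩ := cm hdT hw hτ
  obtain ⟨o, ho⟩ : ∃ o, o = w * τ * w⁻¹ * τ⁻¹ := ⟨_, rfl⟩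
  rw [← ho] at h3 h4
  have hoq : o * q = q * o := perpO h F hx hd h3 h4 hqV hqx
  obtain ⟨z1, hz1⟩ : ∃ z1, z1 = w * z * w⁻¹ := ⟨_, rfl⟩
  have hz1c : z1 ∈ zc (o2 P) := by rw [hz1]; exact conj_perp h F hx hd hdT hw hzV hzx
  have hoz1 : o * z1 = z1 * o := by
    have h5 : w⁻¹ * o * w ∈ o2 (centralizer ({pr M x (μ x) * d} : Set G)) :=
      mul_mem (mul_mem (inv_mem hw.mO) h3) hw.mO
    have h6 : w⁻¹ * o * w ∈ tn S M μ x := by
      have := (mem_normalizer_iff.1 (inv_mem hw.nT) o).1 h4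
      rwa [inv_inv] at this
    have h7 := perpO h F hx hd h5 h6 hzV hzx
    calc o * z1 = w * (w⁻¹ * o * w * z) * w⁻¹ := by rw [hz1]; group
      _ = w * (z * (w⁻¹ * o * w)) * w⁻¹ := by rw [h7]
      _ = z1 * o := by rw [hz1]; group
  have hz1q : z1 * (w * q * w⁻¹) = o * (τ * z1 * τ⁻¹) * o⁻¹ := by
    calc z1 * (w * q * w⁻¹) = w * (z * q) * w⁻¹ := by rw [hz1]; group
      _ = w * (τ * z * τ⁻¹) * w⁻¹ := by rw [hqz]
      _ = (w * τ * w⁻¹ * τ⁻¹) * (τ * (w * z * w⁻¹) * τ⁻¹) * (w * τ * w⁻¹ * τ⁻¹)⁻¹ := by group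
      _ = o * (τ * z1 * τ⁻¹) * o⁻¹ := by rw [← ho, ← hz1]
  have hq1 : q ≠ 1 := by rw [hq]; exact h.pr_ne hcc (F.mne c hc).symm
  have hwq : w * q * w⁻¹ = q := by
    rcases h.swap_zz zv hτP hcc hτp hz1c with e | e
    · exfalso
      rw [e, hoz1, mul_inv_cancel_right] at hz1q
      have h5 : w * q * w⁻¹ = 1 := mul_eq_left.1 hz1q
      exact hq1 (conj_eq_one_iff.1 h5)
    · rw [e, ← hq] at hz1q
      have h5 : o * (z1 * q) * o⁻¹ = z1 * q := by
        calc o * (z1 * q) * o⁻¹ = (o * z1) * q * o⁻¹ := by group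
          _ = z1 * (o * q) * o⁻¹ := by rw [hoz1]; group
          _ = z1 * q := by rw [hoq]; group
      rw [h5] at hz1q
      exact mul_left_cancel hz1q
  rw [← hq]
  exact mul_inv_eq_iff_eq_mul.1 hwq

/-- `w` does not normalise `O₂(P)` -/
theorem not_norm (zv : zc (o2 P) ≤ V ⊔ DD M) : w ∉ normalizer (o2 P : Set G) := by
  intro hwQ
  have t := h.tri F hx
  have hwZ : w ∈ normalizer (zc (o2 P) : Set G) := normalizer_le_normalizer_zc _ hwQ
  have hTp : IsPGroup 2 (tn S M μ x) := S.isPGroup'.to_le inf_le_left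
  have hR : IsPGroup 2 (tn S M μ x ⊔ zpowers w : Subgroup G) := TwoA.sup_zp hTp hw.nT hw.sq
  have hwR : w ∈ tn S M μ x ⊔ zpowers w := mem_sup_right (mem_zpowers w)
  have hTZ : tn S M μ x ≤ normalizer (zc (o2 P) : Set G) := fun s hs => h.P_le_NZZ (h.SP hs.1)
  have hRN : tn S M μ x ⊔ zpowers w ≤ normalizer (zc (o2 P) : Set G) := sup_le hTZ (zpowers_le.2 hwZ)
  obtain ⟨τ, hτ, hτp⟩ := h.exists_swap F hx hx
  have hτP := h.SP hτ.1
  have hwi : ∀ z ∈ zc (o2 P), w⁻¹ * z * w ∈ zc (o2 P) := fun z hz => by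
    have := (mem_normalizer_iff.1 (inv_mem hwZ) z).1 hz
    rwa [inv_inv] at this
  obtain ⟨c, hc, e⟩ := h.lemC_cen F zv hx hR le_sup_left hRN (y := w * τ * w⁻¹) (p := w * pr M x (μ x) * w⁻¹)
    (mul_mem (mul_mem hwR (mem_sup_left hτ)) (inv_mem hwR)) (fun z hz => by
      have e1 : w * τ * w⁻¹ * z * (w * τ * w⁻¹)⁻¹ = w * (τ * (w⁻¹ * z * w) * τ⁻¹) * w⁻¹ := by group
      rw [e1]
      rcases h.swap_zz zv hτP t.pq hτp (hwi z hz) with e2 | e2
      · left; rw [e2]; group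
      · right; rw [e2]; group) ⟨w * pr M x (x.1, 0) * w⁻¹,
        (mem_normalizer_iff.1 hwZ _).1 (h.VZ (pr_mem M _ _)), fun e1 => by
      have e2 : τ * pr M x (x.1, 0) = pr M x (x.1, 0) * τ := by
        calc τ * pr M x (x.1, 0) = w⁻¹ * (w * τ * w⁻¹ * (w * pr M x (x.1, 0) * w⁻¹)) * w := by group
          _ = pr M x (x.1, 0) * τ := by rw [e1]; group
      have hE : E M (pr M x (x.1, 0)) x ≠ E M (pr M x (x.1, 0)) (μ x) := by
        rw [E_pr_left M t.pr t.n2, E_pr_of_ne M t.pr t.n1.symm t.n3]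
        exact one_ne_zero
      have h2 := h.conj_swap hτP t.pq hτp (pr_mem M x (x.1, 0)) hE
      rw [e2, mul_inv_cancel_right] at h2
      exact h.pr_ne t.pq t.n1 (mul_left_cancel ((mul_one _).trans h2)).symm⟩
  have hwn : w * pr M x (μ x) * w⁻¹ = pr M x (μ x) := by
    by_cases h1 : c = x
    · rw [e, h1]
    by_cases h2 : c = μ x
    · rw [e, h2, F.msq, pr_comm M (F.mfst x)]
    exfalso
    have h3 := comm_q h F hx hd hdT hw zv hc h1 h2
    have h4 : w * pr M x (μ x) * w⁻¹ = w * pr M c (μ c) * w⁻¹ := by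
      rw [h3, mul_inv_cancel_right, e]
    have h5 : pr M x (μ x) = pr M c (μ c) := mul_left_cancel (mul_right_cancel h4)
    have h6 : E M (pr M x (μ x)) x = 1 := E_pr_left M t.pq t.n1
    rw [h5, E_pr_of_ne M (F.mfst c).symm (Ne.symm h1) (fun e => h2 (by rw [e, F.msq]))] at h6
    exact zero_ne_one h6
  have hRn : tn S M μ x ⊔ zpowers w ≤ centralizer ({pr M x (μ x)} : Set G) := by
    refine sup_le inf_le_right (zpowers_le.2 (mem_centralizer_singleton_iff.2 ?_))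
    exact mul_inv_eq_iff_eq_mul.1 hwn
  exact hw.nm (h.lemC_le F zv hx hR le_sup_left hRN hRn hwR)

seal _root_.Cfsg.Agent.Omega.IId.SymWrD.pp in
/-- the action of `w r w⁻¹`, `r ∈ O₂(P)`, on `V` -/
theorem act_r {r : G} (hr : r ∈ o2 P) : w * r * w⁻¹ ∈ tn S M μ x ∧
    (pp M (w * r * w⁻¹) = 1 ∨ pp M (w * r * w⁻¹) = Equiv.swap x (μ x)) := by
  obtain ⟨h1, h2⟩ := cm hdT hw (h.Q_le_tn F hx hr)
  have h3 : w * r * w⁻¹ ∈ tn S M μ x := (mem_normalizer_iff.1 hw.nT r).1 (h.Q_le_tn F hx hr)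
  refine ⟨h3, ?_⟩
  have e : w * r * w⁻¹ = (w * r * w⁻¹ * r⁻¹) * r := by group
  have hrp : pp M r = 1 := (h.mem_Q_iff (h.QS hr)).1 hr
  rw [e, h.mul (h.SP h2.1) (h.SP (h.QS hr)), hrp, mul_one]
  exact actO h F hx hd h1 h2

seal _root_.Cfsg.Agent.Omega.IId.SymWrD.pp in
/-- some `r ∈ O₂(P)` : `w r w⁻¹` acts as `(x μx)` -/
theorem exists_r (zv : zc (o2 P) ≤ V ⊔ DD M) : ∃ r ∈ o2 P, pp M (w * r * w⁻¹) = Equiv.swap x (μ x) := by
  by_contra hcon
  push Not at hcon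
  refine not_norm h F hx hd hdT hw zv (mem_normalizer_of_conj fun r hr => ?_)
  obtain ⟨h1, h2⟩ := act_r h F hx hd hdT hw hr
  exact (h.mem_Q_iff h1.1).2 (h2.resolve_right (hcon r hr))

seal _root_.Cfsg.Agent.Omega.IId.SymWrD.pp in
/-- LEMMA 1_D for `w⁻¹ e w` and the duad `q = pr M c (μ c)` -/
theorem one_q (zv : zc (o2 P) ≤ V ⊔ DD M) {c : _root_.Cfsg.Agent.Omega.Half.SymA.Pt k m} (hc : c.2 ≠ 0) (h1 : c ≠ x) (h2 : c ≠ μ x) :
    ∃ d', SD.Ctr M d' ∧ (w⁻¹ * pr M x (μ x) * w = d' ∨ w⁻¹ * pr M x (μ x) * w = pr M c (μ c) * d') := by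
  have t := h.tri F hx
  have hs := SD.of_fr h
  have hcc : c.1 = (μ c).1 := (F.mfst c).symm
  have hcn : c ≠ μ c := (F.mne c hc).symm
  have hnV : pr M x (μ x) ∈ V := pr_mem M _ _
  have heV : pr M x (x.1, 0) ∈ V := pr_mem M _ _
  have hcq := comm_q h F hx hd hdT hw.inv zv hc h1 h2
  have hEe : E M (pr M x (x.1, 0)) c = E M (pr M x (x.1, 0)) (μ c) := by
    rw [E_pr_of_ne M t.pr h1 (fun e => hc (by rw [e])), E_pr_of_ne M t.pr (fun e => h2 (by rw [← e, F.msq]))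
      (fun e => hc (F.mnz.1 (by rw [e])))]
  have hE : E M (pr M x (x.1, 0)) x ≠ E M (pr M x (x.1, 0)) (μ x) := by
    rw [E_pr_left M t.pr t.n2, E_pr_of_ne M t.pr t.n1.symm t.n3]
    exact one_ne_zero
  have hen : pr M x (x.1, 0) * pr M x (μ x) = pr M x (μ x) * pr M x (x.1, 0) := h.Vcomm heV hnV
  have hconj : ∀ u ∈ o2 P, ∀ y, y = w * u * w⁻¹ → u * (w⁻¹ * pr M x (x.1, 0) * w) * u⁻¹ =
      w⁻¹ * (y * pr M x (x.1, 0) * y⁻¹) * w := by
    rintro u - y rfl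
    group
  have hsw : ∀ u ∈ o2 P, pp M (w * u * w⁻¹) = Equiv.swap x (μ x) → u * (w⁻¹ * pr M x (x.1, 0) * w) * u⁻¹ =
      w⁻¹ * pr M x (μ x) * w * (w⁻¹ * pr M x (x.1, 0) * w) := by
    intro u hu hp
    obtain ⟨h3, -⟩ := act_r h F hx hd hdT hw hu
    rw [hconj u hu _ rfl, h.conj_swap (h.SP h3.1) t.pq hp heV hE, hen]
    group
  refine hs.one hcc hcn (y := w⁻¹ * pr M x (x.1, 0) * w) (a := w⁻¹ * pr M x (μ x) * w) ?_ ?_ ?_ ?_
  · have h3 := zc_conj' (p := pr M c (μ c)) (c := w⁻¹) hcq (hs.perp hcc hcn heV hEe)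
    rwa [inv_inv] at h3
  · intro e
    apply h.pr_ne t.pq t.n1
    calc pr M x (μ x) = w * (w⁻¹ * pr M x (μ x) * w) * w⁻¹ := by group
      _ = 1 := by rw [e]; group
  · intro u hu
    obtain ⟨h3, h4⟩ := act_r h F hx hd hdT hw hu
    rcases h4 with h4 | h4
    · left
      have h5 : w * u * w⁻¹ * pr M x (x.1, 0) = pr M x (x.1, 0) * (w * u * w⁻¹) :=
        h.comm_perp_of (p := x) (q := x) (h.SP h3.1) (Or.inl h4) heV rfl
      rw [hconj u hu _ rfl, h5, mul_inv_cancel_right]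
    · right; exact hsw u hu h4
  · obtain ⟨r, hr, hrp⟩ := exists_r h F hx hd hdT hw zv
    exact ⟨r, hr, hsw r hr hrp⟩

omit F hx hd hdT hw in
/-- the elements centralised by `O₂(P)` and all `K_p` lie in `DD M` -/
theorem DD_of_Ctr (zv : zc (o2 P) ≤ V ⊔ DD M) {a : G} (ha : SD.Ctr M a) : a ∈ DD M := by
  have hs := SD.of_fr h
  have h1 : a ∈ zc (o2 P) := mem_zc.2 ⟨h.cQ (mem_centralizer_iff.2 ha.2.1), ha.2.1, by rw [pow_two]; exact ha.1⟩
  obtain ⟨v, hv, e, he, rfl⟩ := h.zz_dec zv h1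
  have h2 : v = 1 := by
    refine hs.tot hv fun p q hpq hne g hg => ?_
    have hgq := hs.KK_le hpq hne hg
    have hgP := h.Qle hpq hne hgq
    have h3 := ha.2.2 p q hpq hne g hg
    have h4 : g * e = e * g := (mem_DD.1 he).2 g hgP fun r => by
      rcases h.Qpp hpq hne hgq with e1 | e1
      · rw [e1]; rfl
      · rw [e1]; exact swap_fst hpq r
    have h5 : g * v * e = v * g * e := by
      calc g * v * e = g * (v * e) := by group
        _ = v * (e * g) := by rw [h3]; group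
        _ = v * g * e := by rw [← h4]; group
    exact mul_right_cancel h5
  rw [h2, one_mul]
  exact he

/-- `w⁻¹ n w ∈ DD M` -/
theorem swp (zv : zc (o2 P) ≤ V ⊔ DD M) {c c' : _root_.Cfsg.Agent.Omega.Half.SymA.Pt k m} (hc : c.2 ≠ 0) (h1 : c ≠ x) (h2 : c ≠ μ x)
    (hc' : c'.2 ≠ 0) (h1' : c' ≠ x) (h2' : c' ≠ μ x) (h3 : c ≠ c') (h4 : c ≠ μ c') :
    w⁻¹ * pr M x (μ x) * w ∈ DD M := by
  have hs := SD.of_fr h
  refine DD_of_Ctr h zv ?_
  obtain ⟨d₁, hd₁, e₁⟩ := one_q h F hx hd hdT hw zv hc h1 h2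
  obtain ⟨d₂, hd₂, e₂⟩ := one_q h F hx hd hdT hw zv hc' h1' h2'
  rcases e₁ with e₁ | e₁
  · rw [e₁]; exact hd₁
  rcases e₂ with e₂ | e₂
  · rw [e₂]; exact hd₂
  exfalso
  have hcc : c.1 = ((c.1, 0) : _root_.Cfsg.Agent.Omega.Half.SymA.Pt k m).1 := rfl
  have hcn : c ≠ (c.1, 0) := fun e => hc (congrArg Prod.snd e)
  obtain ⟨g, hg, hgp⟩ := hs.par c (c.1, 0) hcc hcn
  have hgP := hs.QP c (c.1, 0) hcc hcn (hs.KK_le hcc hcn hg)
  have k1 := hd₁.2.2 c (c.1, 0) hcc hcn g hg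
  have k2 := hd₂.2.2 c (c.1, 0) hcc hcn g hg
  have k3 : g * pr M c' (μ c') = pr M c' (μ c') * g := by
    refine h.comm_perp_of (p := c) (q := (c.1, 0)) hgP (Or.inr hgp) (pr_mem M _ _) ?_
    rw [E_pr_of_ne M (F.mfst c').symm h3 h4, E_pr_of_ne M (F.mfst c').symm (fun e => hc' (by rw [← e]))
      (fun e => hc' (F.mnz.1 (by rw [← e])))]
  have k4 : pr M c (μ c) * d₁ = pr M c' (μ c') * d₂ := by rw [← e₁, ← e₂]
  have k5 : g * pr M c (μ c) = pr M c (μ c) * g := by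
    have k6 : g * pr M c (μ c) * d₁ = pr M c (μ c) * g * d₁ := by
      calc g * pr M c (μ c) * d₁ = g * (pr M c (μ c) * d₁) := by group
        _ = g * pr M c' (μ c') * d₂ := by rw [k4]; group
        _ = pr M c' (μ c') * (g * d₂) := by rw [k3]; group
        _ = pr M c' (μ c') * d₂ * g := by rw [k2]; group
        _ = pr M c (μ c) * (d₁ * g) := by rw [← k4]; group
        _ = pr M c (μ c) * g * d₁ := by rw [← k1]; group
    exact mul_right_cancel k6
  have k7 := (hs.act_iff hgP hcc hcn hgp (pr_mem M c (μ c))).1 k5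
  rw [E_pr_left M (F.mfst c).symm (F.mne c hc).symm, E_pr_of_ne M (F.mfst c).symm hcn.symm
    (fun e => hc (F.mnz.1 (by rw [← e])))] at k7
  exact one_ne_zero k7

/-- `w n w⁻¹ = w⁻¹ n w` -/
theorem swp_eq : w * pr M x (μ x) * w⁻¹ = w⁻¹ * pr M x (μ x) * w := by
  have h1 : w * w * (w⁻¹ * pr M x (μ x) * w) = w⁻¹ * pr M x (μ x) * w * (w * w) := by
    have h2 : w * (w * w) * w⁻¹ ∈ tn S M μ x := (mem_normalizer_iff.1 hw.nT _).1 hw.sq
    have h3 := mem_centralizer_singleton_iff.1 h2.2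
    calc w * w * (w⁻¹ * pr M x (μ x) * w) = w⁻¹ * (w * (w * w) * w⁻¹ * pr M x (μ x)) * w := by group
      _ = w⁻¹ * (pr M x (μ x) * (w * (w * w) * w⁻¹)) * w := by rw [h3]
      _ = w⁻¹ * pr M x (μ x) * w * (w * w) := by group
  calc w * pr M x (μ x) * w⁻¹ = w * w * (w⁻¹ * pr M x (μ x) * w) * (w * w)⁻¹ := by group
    _ = w⁻¹ * pr M x (μ x) * w := by rw [h1]; group

/-- `K ∋ n, d` normalised by `C(n)` contains the conjugates of the line -/
theorem memK {K : Subgroup G} (hKn : centralizer ({pr M x (μ x)} : Set G) ≤ normalizer (K : Set G))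
    (hnK : pr M x (μ x) ∈ K) (hdK : d ∈ K) (hδ : w * pr M x (μ x) * w⁻¹ ∈ DD M) :
    w⁻¹ * pr M x (x.1, 0) * w ∈ K ∧ w⁻¹ * pr M x (μ x) * w ∈ K := by
  have t := h.tri F hx
  have hnV : pr M x (μ x) ∈ V := pr_mem M _ _
  have heV : pr M x (x.1, 0) ∈ V := pr_mem M _ _
  have hdd : d * d = 1 := RD.DD_sq hd
  -- `w` commutes with `n d`
  have hwnd : w⁻¹ * (pr M x (μ x) * d) * w = pr M x (μ x) * d := by
    have h1 := mem_centralizer_singleton_iff.1 (o2_le _ hw.mO)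
    calc w⁻¹ * (pr M x (μ x) * d) * w = w⁻¹ * (pr M x (μ x) * d * w) := by group
      _ = pr M x (μ x) * d := by rw [← h1]; group
  have key : ∀ y ∈ h.X3 t, w⁻¹ * (y * pr M x (μ x) * y⁻¹ * d) * w ∈ K := by
    intro y hy
    have h1 := h.X_DD t hδ hy
    have h2 : w⁻¹ * y * w ∈ centralizer ({pr M x (μ x)} : Set G) := by
      rw [mem_centralizer_singleton_iff]
      calc w⁻¹ * y * w * pr M x (μ x) = w⁻¹ * (y * (w * pr M x (μ x) * w⁻¹)) * w := by group
        _ = w⁻¹ * (w * pr M x (μ x) * w⁻¹ * y) * w := by rw [h1]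
        _ = pr M x (μ x) * (w⁻¹ * y * w) := by group
    have h3 := (mem_normalizer_iff.1 (hKn h2) _).1 (mul_mem hnK hdK)
    have h4 : y * d = d * y := h.X_DD t hd hy
    have e : w⁻¹ * (y * pr M x (μ x) * y⁻¹ * d) * w = w⁻¹ * y * w * (pr M x (μ x) * d) * (w⁻¹ * y * w)⁻¹ := by
      calc w⁻¹ * (y * pr M x (μ x) * y⁻¹ * d) * w = w⁻¹ * (y * pr M x (μ x) * (y⁻¹ * d * y) * y⁻¹) * w := by group
        _ = w⁻¹ * y * (pr M x (μ x) * d) * y⁻¹ * w := by
            rw [show y⁻¹ * d * y = d by rw [mul_assoc, ← h4]; group]; group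
        _ = w⁻¹ * y * w * (w⁻¹ * (pr M x (μ x) * d) * w) * (w⁻¹ * y * w)⁻¹ := by group
        _ = _ := by rw [hwnd]
    rw [e]
    exact h3
  have key' : ∀ i : Fin 3, w⁻¹ * (dd (pr M x (μ x)) (pr M x (x.1, 0)) i * d) * w ∈ K := by
    intro i
    obtain ⟨y, hy, e⟩ := (h.bt3 t).trans_X_one 0 i
    have h1 : y * pr M x (μ x) * y⁻¹ ∈ pts (pr M x (μ x)) (pr M x (x.1, 0)) i := by
      rw [← e]
      exact BTwo.conj_mem_cj ((h.line3 t).mem_pts.2 (Or.inr rfl))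
    have h2 := ((h.line3 t).mem_pts.1 h1).resolve_left fun e => h.pr_ne t.pq t.n1 (conj_eq_one_iff.1 e)
    rw [← h2]
    exact key y hy
  have k0 : w⁻¹ * (pr M x (μ x) * d) * w ∈ K := key' 0
  have k1 : w⁻¹ * (pr M x (x.1, 0) * d) * w ∈ K := key' 1
  have k2 : w⁻¹ * (pr M x (μ x) * pr M x (x.1, 0) * d) * w ∈ K := key' 2
  have hdn : d * pr M x (μ x) = pr M x (μ x) * d := (Sit.zz_comm (h.VZ hnV) (mem_DD.1 hd).1).symm
  have hde : d * pr M x (x.1, 0) = pr M x (x.1, 0) * d := (Sit.zz_comm (h.VZ heV) (mem_DD.1 hd).1).symm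
  have hne : pr M x (μ x) * pr M x (x.1, 0) = pr M x (x.1, 0) * pr M x (μ x) := h.Vcomm hnV heV
  constructor
  · have h1 := mul_mem k0 k2
    have e : w⁻¹ * (pr M x (μ x) * d) * w * (w⁻¹ * (pr M x (μ x) * pr M x (x.1, 0) * d) * w) =
        w⁻¹ * pr M x (x.1, 0) * w := by
      calc w⁻¹ * (pr M x (μ x) * d) * w * (w⁻¹ * (pr M x (μ x) * pr M x (x.1, 0) * d) * w)
          = w⁻¹ * (pr M x (μ x) * (d * pr M x (μ x)) * pr M x (x.1, 0) * d) * w := by group
        _ = w⁻¹ * (pr M x (μ x) * pr M x (μ x) * (d * pr M x (x.1, 0)) * d) * w := by rw [hdn]; group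
        _ = w⁻¹ * (pr M x (μ x) * pr M x (μ x) * pr M x (x.1, 0) * (d * d)) * w := by rw [hde]; group
        _ = w⁻¹ * pr M x (x.1, 0) * w := by rw [h.Vsq hnV, hdd]; group
    rwa [e] at h1
  · have h1 := mul_mem k1 k2
    have e : w⁻¹ * (pr M x (x.1, 0) * d) * w * (w⁻¹ * (pr M x (μ x) * pr M x (x.1, 0) * d) * w) =
        w⁻¹ * pr M x (μ x) * w := by
      calc w⁻¹ * (pr M x (x.1, 0) * d) * w * (w⁻¹ * (pr M x (μ x) * pr M x (x.1, 0) * d) * w)
          = w⁻¹ * (pr M x (x.1, 0) * d * (pr M x (μ x) * pr M x (x.1, 0)) * d) * w := by group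
        _ = w⁻¹ * (pr M x (x.1, 0) * (d * pr M x (x.1, 0)) * pr M x (μ x) * d) * w := by rw [hne]; group
        _ = w⁻¹ * (pr M x (x.1, 0) * pr M x (x.1, 0) * (d * pr M x (μ x)) * d) * w := by rw [hde]; group
        _ = w⁻¹ * (pr M x (x.1, 0) * pr M x (x.1, 0) * pr M x (μ x) * (d * d)) * w := by rw [hdn]; group
        _ = w⁻¹ * pr M x (μ x) * w := by rw [h.Vsq heV, hdd]; group
    rwa [e] at h1

/-- `e` commutes with the conjugates of `n` under `C(w r w⁻¹)`, `r = x₀ n x₀⁻¹`, `x₀ ∈ X` -/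
theorem piW {K Ξ : Subgroup G} (hKn : centralizer ({pr M x (μ x)} : Set G) ≤ normalizer (K : Set G))
    (hKΞ : K ≤ Ξ) (hKz : K ≤ zc (o2 (centralizer ({pr M x (μ x)} : Set G))))
    (hΞm : ∀ l ∈ Ξ, (∀ y ∈ h.X3 (h.tri F hx), y * l = l * y) ∨
      (∀ y ∈ h.X3 (h.tri F hx), y * (pr M x (μ x) * l) = pr M x (μ x) * l * y))
    (hδ : w⁻¹ * pr M x (μ x) * w ∈ DD M) (hδK : w⁻¹ * pr M x (μ x) * w ∈ K)
    (heK : w⁻¹ * pr M x (x.1, 0) * w ∈ K) {r x₀ : G} (hx₀ : x₀ ∈ h.X3 (h.tri F hx))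
    (hr : x₀ * pr M x (μ x) * x₀⁻¹ = r) (hrV : r ∈ V) {g : G} (hg : g * (w * r * w⁻¹) = w * r * w⁻¹ * g) :
    pr M x (x.1, 0) * (g * pr M x (μ x) * g⁻¹) = g * pr M x (μ x) * g⁻¹ * pr M x (x.1, 0) := by
  have t := h.tri F hx
  obtain ⟨n, hn⟩ : ∃ n, n = pr M x (μ x) := ⟨_, rfl⟩
  rw [← hn] at hKn hKz hΞm hδ hδK hr ⊢
  have hnV : n ∈ V := by rw [hn]; exact pr_mem M _ _
  obtain ⟨f, hf⟩ : ∃ f, f = w⁻¹ * pr M x (x.1, 0) * w := ⟨_, rfl⟩
  obtain ⟨δ, hδe⟩ : ∃ δ, δ = w⁻¹ * n * w := ⟨_, rfl⟩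
  rw [← hf] at heK
  rw [← hδe] at hδ hδK
  obtain ⟨a, ha⟩ : ∃ a, a = x₀⁻¹ * (w⁻¹ * g * w) * x₀ := ⟨_, rfl⟩
  have haC : a ∈ centralizer ({n} : Set G) := by
    rw [mem_centralizer_singleton_iff, ha]
    have h1 : w⁻¹ * g * w * r = r * (w⁻¹ * g * w) := by
      calc w⁻¹ * g * w * r = w⁻¹ * (g * (w * r * w⁻¹)) * w := by group
        _ = r * (w⁻¹ * g * w) := by rw [hg]; group
    calc x₀⁻¹ * (w⁻¹ * g * w) * x₀ * n = x₀⁻¹ * (w⁻¹ * g * w * (x₀ * n * x₀⁻¹)) * x₀ := by group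
      _ = x₀⁻¹ * (w⁻¹ * g * w * r) * x₀ := by rw [hr]
      _ = x₀⁻¹ * (r * (w⁻¹ * g * w)) * x₀ := by rw [h1]
      _ = n * (x₀⁻¹ * (w⁻¹ * g * w) * x₀) := by rw [← hr]; group
  have hκ : a * δ * a⁻¹ ∈ K := (mem_normalizer_iff.1 (hKn haC) _).1 hδK
  obtain ⟨κ, hκe⟩ : ∃ κ, κ = a * δ * a⁻¹ := ⟨_, rfl⟩
  rw [← hκe] at hκ
  have hxδ : x₀ * δ = δ * x₀ := h.X_DD t hδ hx₀
  have e1 : w⁻¹ * (g * n * g⁻¹) * w = x₀ * κ * x₀⁻¹ := by
    have h1 : x₀⁻¹ * δ * x₀ = δ := by rw [mul_assoc, ← hxδ]; group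
    have e2 : w⁻¹ * g * w = x₀ * a * x₀⁻¹ := by rw [ha]; group
    calc w⁻¹ * (g * n * g⁻¹) * w = (w⁻¹ * g * w) * (w⁻¹ * n * w) * (w⁻¹ * g * w)⁻¹ := by group
      _ = x₀ * (a * (x₀⁻¹ * δ * x₀) * a⁻¹) * x₀⁻¹ := by rw [e2, ← hδe]; group
      _ = x₀ * κ * x₀⁻¹ := by rw [h1, ← hκe]
  -- `f` commutes with `x₀ κ x₀⁻¹`
  have hfκ : f * κ = κ * f := MinSimple.VModule.zc_comm _ _ (hKz heK) _ (hKz hκ)
  have hfV : ∀ v ∈ V, f * v = v * f := by
    intro v hv
    have h1 : v ∈ o2 (centralizer ({n} : Set G)) := by rw [hn]; exact h.V_le t.pq t.n1 hv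
    exact ((mem_zc.1 (hKz heK)).2.1 v h1).symm
  have hfc : f * (x₀ * κ * x₀⁻¹) = x₀ * κ * x₀⁻¹ * f := by
    rcases hΞm κ (hKΞ hκ) with h1 | h1
    · rw [h1 x₀ hx₀, mul_inv_cancel_right, hfκ]
    · have e2 : x₀ * κ * x₀⁻¹ = r⁻¹ * (n * κ) := by
        calc x₀ * κ * x₀⁻¹ = (x₀ * n * x₀⁻¹)⁻¹ * (x₀ * (n * κ) * x₀⁻¹) := by group
          _ = r⁻¹ * (n * κ) := by rw [h1 x₀ hx₀, hr, mul_inv_cancel_right]
      have h2 := hfV _ (inv_mem hrV)
      have h3 := hfV n hnV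
      rw [e2]
      calc f * (r⁻¹ * (n * κ)) = (f * r⁻¹) * (n * κ) := by group
        _ = r⁻¹ * (f * n) * κ := by rw [h2]; group
        _ = r⁻¹ * n * (f * κ) := by rw [h3]; group
        _ = r⁻¹ * (n * κ) * f := by rw [hfκ]; group
  calc pr M x (x.1, 0) * (g * n * g⁻¹) = w * (f * (w⁻¹ * (g * n * g⁻¹) * w)) * w⁻¹ := by rw [hf]; group
    _ = w * (f * (x₀ * κ * x₀⁻¹)) * w⁻¹ := by rw [e1]
    _ = w * (x₀ * κ * x₀⁻¹ * f) * w⁻¹ := by rw [hfc]
    _ = w * (w⁻¹ * (g * n * g⁻¹) * w * f) * w⁻¹ := by rw [e1]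
    _ = g * n * g⁻¹ * pr M x (x.1, 0) := by rw [hf]; group

omit hw hdT F hx in
/-- `DD M ≤ Ω₁Z(O₂(C(n)))` -/
theorem DD_le_zc {p q : _root_.Cfsg.Agent.Omega.Half.SymA.Pt k m} (hpq : p.1 = q.1) (hne : p ≠ q) :
    d ∈ zc (o2 (centralizer ({pr M p q} : Set G))) := by
  have hs := SD.of_fr h
  refine hs.Ctr_qz ⟨RD.DD_sq hd, (mem_zc.1 (mem_DD.1 hd).1).2.1, fun p q hpq hne g hg => ?_⟩ hpq hne
  have hgq := hs.KK_le hpq hne hg
  refine (mem_DD.1 hd).2 g (h.Qle hpq hne hgq) fun r => ?_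
  rcases h.Qpp hpq hne hgq with e1 | e1
  · rw [e1]; rfl
  · rw [e1]; exact swap_fst hpq r

/-- no `w` -/
theorem caseB (zv : zc (o2 P) ≤ V ⊔ DD M) {c c' : _root_.Cfsg.Agent.Omega.Half.SymA.Pt k m} (hc : c.2 ≠ 0) (h1 : c ≠ x) (h2 : c ≠ μ x)
    (hc' : c'.2 ≠ 0) (h1' : c' ≠ x) (h2' : c' ≠ μ x) (h3 : c ≠ c') (h4 : c ≠ μ c') {Ξ : Subgroup G}
    (hKΞ : centralizer ({pr M x (μ x)} : Set G) ≤ normalizer (Ξ : Set G)) (hnΞ : pr M x (μ x) ∈ Ξ) (hdΞ : d ∈ Ξ)
    (hΞm : ∀ l ∈ Ξ, (∀ y ∈ h.X3 (h.tri F hx), y * l = l * y) ∨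
      (∀ y ∈ h.X3 (h.tri F hx), y * (pr M x (μ x) * l) = pr M x (μ x) * l * y)) : False := by
  have t := h.tri F hx
  have hs := SD.of_fr h
  have δm := swp h F hx hd hdT hw zv hc h1 h2 hc' h1' h2' h3 h4
  have δm' : w * pr M x (μ x) * w⁻¹ ∈ DD M := by rw [swp_eq h F hx hd hdT hw]; exact δm
  obtain ⟨K, hK⟩ : ∃ K : Subgroup G, K = Ξ ⊓ zc (o2 (centralizer ({pr M x (μ x)} : Set G))) := ⟨_, rfl⟩
  have hKle : K ≤ Ξ := by rw [hK]; exact inf_le_left
  have hKz : K ≤ zc (o2 (centralizer ({pr M x (μ x)} : Set G))) := by rw [hK]; exact inf_le_right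
  have hnK : pr M x (μ x) ∈ K := by
    rw [hK]
    refine ⟨hnΞ, h.perp t.pq t.n1 (pr_mem M _ _) ?_⟩
    rw [E_pr_left M t.pq t.n1, E_pr_right M t.pq t.n1]
  have hdK : d ∈ K := by rw [hK]; exact ⟨hdΞ, DD_le_zc h hd t.pq t.n1⟩
  have hKn : centralizer ({pr M x (μ x)} : Set G) ≤ normalizer (K : Set G) := by
    intro g hg
    have k1 := hKΞ hg
    have k2 : g ∈ normalizer (zc (o2 (centralizer ({pr M x (μ x)} : Set G))) : Set G) :=
      normalizer_le_normalizer_zc _ (le_normalizer_o2 _ hg)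
    rw [hK, ← cj_eq_self_iff, cj_inf, cj_eq_self_iff.2 k1, cj_eq_self_iff.2 k2]
  obtain ⟨m1, m2⟩ := memK h F hx hd hdT hw hKn hnK hdK δm'
  have δm'' : w⁻¹ * pr M x (μ x) * w⁻¹⁻¹ ∈ DD M := by rw [inv_inv]; exact δm
  obtain ⟨m3, m4⟩ := memK h F hx hd hdT hw.inv hKn hnK hdK δm''
  rw [inv_inv] at m3 m4
  -- the partner
  have hnV : pr M x (μ x) ∈ V := pr_mem M _ _
  have heV : pr M x (x.1, 0) ∈ V := pr_mem M _ _
  have hE : E M (pr M x (x.1, 0)) x ≠ E M (pr M x (x.1, 0)) (μ x) := by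
    rw [E_pr_left M t.pr t.n2, E_pr_of_ne M t.pr t.n1.symm t.n3]
    exact one_ne_zero
  obtain ⟨s, hs1, hs2⟩ := h.exists_h t.pq t.n1
  obtain ⟨-, hs3, hs4⟩ := hs2 _ heV hE
  have hsn : s * pr M x (μ x) = pr M x (μ x) * s := mem_centralizer_singleton_iff.1 hs1
  have hnc : pr M x (x.1, 0) * (s⁻¹ * pr M x (x.1, 0) * s) ≠ s⁻¹ * pr M x (x.1, 0) * s * pr M x (x.1, 0) := by
    intro e
    exact hE ((hs.act_iff (h.Qle t.pq t.n1 (h.KK_le t.pq t.n1 hs3)) t.pq t.n1 hs4 heV).1 e.symm)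
  -- `x₀`
  have hex : ∀ i : Fin 3, ∃ y ∈ h.X3 t, y * pr M x (μ x) * y⁻¹ = dd (pr M x (μ x)) (pr M x (x.1, 0)) i := by
    intro i
    obtain ⟨y, hy, e⟩ := (h.bt3 t).trans_X_one 0 i
    refine ⟨y, hy, ?_⟩
    have k1 : y * pr M x (μ x) * y⁻¹ ∈ pts (pr M x (μ x)) (pr M x (x.1, 0)) i := by
      rw [← e]
      exact BTwo.conj_mem_cj ((h.line3 t).mem_pts.2 (Or.inr rfl))
    exact ((h.line3 t).mem_pts.1 k1).resolve_left fun e => h.pr_ne t.pq t.n1 (conj_eq_one_iff.1 e)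
  obtain ⟨y₁, hy₁, ey₁⟩ := hex 1
  obtain ⟨y₂, hy₂, ey₂⟩ := hex 2
  have ey₁' : y₁ * pr M x (μ x) * y₁⁻¹ = pr M x (x.1, 0) := ey₁
  have ey₂' : y₂ * pr M x (μ x) * y₂⁻¹ = pr M x (μ x) * pr M x (x.1, 0) := ey₂
  -- `e` commutes with the conjugates of `n` under `C(q')`: `s q' s⁻¹` is not centralised by `X`
  have hkill : ∀ q' : G, (∀ g, g * q' = q' * g →
      pr M x (x.1, 0) * (g * pr M x (μ x) * g⁻¹) = g * pr M x (μ x) * g⁻¹ * pr M x (x.1, 0)) →
      ¬ ∀ y ∈ h.X3 t, y * (s * q' * s⁻¹) = s * q' * s⁻¹ * y := by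
    intro q' hpi hX
    apply hnc
    have k1 := hpi (s⁻¹ * y₁ * s) (by
      have k2 := hX y₁ hy₁
      calc s⁻¹ * y₁ * s * q' = s⁻¹ * (y₁ * (s * q' * s⁻¹)) * s := by group
        _ = s⁻¹ * (s * q' * s⁻¹ * y₁) * s := by rw [k2]
        _ = q' * (s⁻¹ * y₁ * s) := by group)
    have k3 : s⁻¹ * y₁ * s * pr M x (μ x) * (s⁻¹ * y₁ * s)⁻¹ = s⁻¹ * pr M x (x.1, 0) * s := by
      calc s⁻¹ * y₁ * s * pr M x (μ x) * (s⁻¹ * y₁ * s)⁻¹
          = s⁻¹ * (y₁ * (s * pr M x (μ x) * s⁻¹) * y₁⁻¹) * s := by group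
        _ = s⁻¹ * (y₁ * pr M x (μ x) * y₁⁻¹) * s := by rw [hsn, mul_inv_cancel_right]
        _ = _ := by rw [ey₁']
    rwa [k3] at k1
  -- the three elements
  have pi1 : ∀ g, g * (w * pr M x (μ x) * w⁻¹) = w * pr M x (μ x) * w⁻¹ * g →
      pr M x (x.1, 0) * (g * pr M x (μ x) * g⁻¹) = g * pr M x (μ x) * g⁻¹ * pr M x (x.1, 0) := by
    intro g hg
    have hδ1 : w * pr M x (μ x) * w⁻¹ ≠ 1 := fun e => h.pr_ne t.pq t.n1 (conj_eq_one_iff.1 e)
    obtain ⟨-, k1⟩ := RD.HF_cent h.char2 h.toSit zv δm' hδ1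
    have k2 := k1 (h.VZ heV)
    have k3 : g * pr M x (μ x) * g⁻¹ ∈ zc (o2 (centralizer ({w * pr M x (μ x) * w⁻¹} : Set G))) :=
      (mem_normalizer_iff.1 (normalizer_le_normalizer_zc _ (le_normalizer_o2 _
        (mem_centralizer_singleton_iff.2 hg))) _).1 (k1 (h.VZ hnV))
    exact MinSimple.VModule.zc_comm _ _ k2 _ k3
  have pi2 : ∀ g, g * (w * pr M x (x.1, 0) * w⁻¹) = w * pr M x (x.1, 0) * w⁻¹ * g →
      pr M x (x.1, 0) * (g * pr M x (μ x) * g⁻¹) = g * pr M x (μ x) * g⁻¹ * pr M x (x.1, 0) := fun g hg =>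
    piW h F hx hd hdT hw hKn hKle hKz hΞm δm m2 m1 hy₁ ey₁' heV hg
  have pi3 : ∀ g, g * (w * (pr M x (μ x) * pr M x (x.1, 0)) * w⁻¹) =
      w * (pr M x (μ x) * pr M x (x.1, 0)) * w⁻¹ * g →
      pr M x (x.1, 0) * (g * pr M x (μ x) * g⁻¹) = g * pr M x (μ x) * g⁻¹ * pr M x (x.1, 0) := fun g hg =>
    piW h F hx hd hdT hw hKn hKle hKz hΞm δm m2 m1 hy₂ ey₂' (mul_mem hnV heV) hg
  have m5 : w * (pr M x (μ x) * pr M x (x.1, 0)) * w⁻¹ ∈ K := by
    have k1 := mul_mem m4 m3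
    have e : w * pr M x (μ x) * w⁻¹ * (w * pr M x (x.1, 0) * w⁻¹) = w * (pr M x (μ x) * pr M x (x.1, 0)) * w⁻¹ := by
      group
    rwa [e] at k1
  have hsK : ∀ {q}, q ∈ K → s * q * s⁻¹ ∈ K := fun hq => (mem_normalizer_iff.1 (hKn hs1) _).1 hq
  have hnK' : ∀ {q}, q ∈ K → pr M x (μ x) * q = q * pr M x (μ x) := fun hq =>
    MinSimple.VModule.zc_comm _ _ (hKz hnK) _ (hKz hq)
  have c1 := (hΞm _ (hKle (hsK m4))).resolve_left (hkill _ pi1)
  have c2 := (hΞm _ (hKle (hsK m3))).resolve_left (hkill _ pi2)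
  have c3 := (hΞm _ (hKle (hsK m5))).resolve_left (hkill _ pi3)
  -- `n` is centralised by `X`
  have hprod : pr M x (μ x) * (s * (w * pr M x (μ x) * w⁻¹) * s⁻¹) *
      (pr M x (μ x) * (s * (w * pr M x (x.1, 0) * w⁻¹) * s⁻¹)) *
      (pr M x (μ x) * (s * (w * (pr M x (μ x) * pr M x (x.1, 0)) * w⁻¹) * s⁻¹)) = pr M x (μ x) := by
    have k1 := hnK' (hsK m4)
    have k2 := hnK' (hsK m3)
    have k3 : pr M x (x.1, 0) * pr M x (μ x) = pr M x (μ x) * pr M x (x.1, 0) := h.Vcomm heV hnV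
    have k4 := hnK' (mul_mem (hsK m4) (hsK m3))
    calc pr M x (μ x) * (s * (w * pr M x (μ x) * w⁻¹) * s⁻¹) *
          (pr M x (μ x) * (s * (w * pr M x (x.1, 0) * w⁻¹) * s⁻¹)) *
          (pr M x (μ x) * (s * (w * (pr M x (μ x) * pr M x (x.1, 0)) * w⁻¹) * s⁻¹))
        = pr M x (μ x) * (s * (w * pr M x (μ x) * w⁻¹) * s⁻¹ * pr M x (μ x)) *
          (s * (w * pr M x (x.1, 0) * w⁻¹) * s⁻¹) *
          (pr M x (μ x) * (s * (w * (pr M x (μ x) * pr M x (x.1, 0)) * w⁻¹) * s⁻¹)) := by group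
      _ = pr M x (μ x) * pr M x (μ x) * (s * (w * pr M x (μ x) * w⁻¹) * s⁻¹ *
          (s * (w * pr M x (x.1, 0) * w⁻¹) * s⁻¹) * pr M x (μ x)) *
          (s * (w * (pr M x (μ x) * pr M x (x.1, 0)) * w⁻¹) * s⁻¹) := by rw [← k1]; group
      _ = pr M x (μ x) * (s * w * (pr M x (μ x) * (pr M x (x.1, 0) * pr M x (μ x)) * pr M x (x.1, 0)) *
          w⁻¹ * s⁻¹) := by rw [← k4, h.Vsq hnV]; group
      _ = pr M x (μ x) * (s * w * ((pr M x (μ x) * pr M x (μ x)) * (pr M x (x.1, 0) * pr M x (x.1, 0))) *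
          w⁻¹ * s⁻¹) := by rw [k3]; group
      _ = pr M x (μ x) := by rw [h.Vsq hnV, h.Vsq heV]; group
  have hX : y₁ * pr M x (μ x) = pr M x (μ x) * y₁ := by
    rw [← hprod]
    have hmulc : ∀ {y a b : G}, y * a = a * y → y * b = b * y → y * (a * b) = a * b * y := by
      intro y a b h2 h3
      rw [← mul_assoc, h2, mul_assoc, h3, mul_assoc]
    exact hmulc (hmulc (c1 y₁ hy₁) (c2 y₁ hy₁)) (c3 y₁ hy₁)
  rw [hX, mul_inv_cancel_right] at ey₁'
  apply hE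
  rw [← ey₁', E_pr_left M t.pq t.n1, E_pr_right M t.pq t.n1]

end conf

/-! ### `O₂(C(n d)) ≤ T` -/

section

variable [Finite G] {S : Sylow 2 G} {M : SymK (S : Subgroup G) P V ⊥ k m}

theorem exists_out {μ : Equiv.Perm (_root_.Cfsg.Agent.Omega.Half.SymA.Pt k m)} {x : _root_.Cfsg.Agent.Omega.Half.SymA.Pt k m} {d : G} (hdT : ∀ s ∈ tn S M μ x, s * d = d * s)
    (hnot : ¬ o2 (centralizer ({pr M x (μ x) * d} : Set G)) ≤ tn S M μ x) : ∃ w, Out S M μ x d w := by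
  classical
  have : Fact (Nat.Prime 2) := ⟨Nat.prime_two⟩
  have hTC : tn S M μ x ≤ centralizer ({pr M x (μ x) * d} : Set G) := by
    intro t ht
    rw [mem_centralizer_singleton_iff, ← mul_assoc, mem_centralizer_singleton_iff.1 ht.2, mul_assoc, hdT t ht,
      mul_assoc]
  have hn : tn S M μ x ≤ normalizer (o2 (centralizer ({pr M x (μ x) * d} : Set G)) : Set G) :=
    hTC.trans (le_normalizer_o2 _)
  have hTp : IsPGroup 2 (tn S M μ x) := S.isPGroup'.to_le inf_le_left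
  have hO : IsPGroup 2 (o2 (centralizer ({pr M x (μ x) * d} : Set G))) := o2_isPGroup _
  have hX : IsPGroup 2 (tn S M μ x ⊔ o2 (centralizer ({pr M x (μ x) * d} : Set G)) : Subgroup G) :=
    hTp.to_sup_of_normal_right' hO hn
  have hlt : tn S M μ x < tn S M μ x ⊔ o2 (centralizer ({pr M x (μ x) * d} : Set G)) := by
    refine lt_of_le_of_ne le_sup_left fun h3 => hnot ?_
    rw [h3]
    exact le_sup_right
  obtain ⟨y, hy, hy1, hy2⟩ := Involutions.BaerSuzuki.exists_mem_normalizer_of_lt hX hlt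
  obtain ⟨t, ht, w, hw, rfl⟩ := TwoA.mem_sup_nrm hn hy
  have hwn : w ∈ normalizer (tn S M μ x : Set G) := by
    have h3 : w = t⁻¹ * (t * w) := by group
    rw [h3]
    exact mul_mem (inv_mem (le_normalizer ht)) hy2
  have hwT : w ∉ tn S M μ x := fun h3 => hy1 (mul_mem ht h3)
  have hex : ∃ j : ℕ, w ^ 2 ^ j ∈ tn S M μ x := by
    obtain ⟨j, hj⟩ := hO ⟨w, hw⟩
    refine ⟨j, ?_⟩
    have h4 : w ^ 2 ^ j = 1 := congrArg Subtype.val hj
    rw [h4]
    exact one_mem _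
  obtain ⟨j, hj⟩ : ∃ j, j = Nat.find hex := ⟨_, rfl⟩
  have h1 : w ^ 2 ^ j ∈ tn S M μ x := by rw [hj]; exact Nat.find_spec hex
  have h0 : j ≠ 0 := by
    intro e
    rw [e, pow_zero, pow_one] at h1
    exact hwT h1
  obtain ⟨i, rfl⟩ := Nat.exists_eq_succ_of_ne_zero h0
  refine ⟨w ^ 2 ^ i, pow_mem hw _, pow_mem hwn _, ?_, ?_⟩
  · rw [← pow_add, ← two_mul, ← pow_succ']
    exact h1
  · refine Nat.find_min hex ?_
    rw [← hj]
    exact Nat.lt_succ_self i

end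

/-! ### The theorem -/

section thm

variable [Finite G] {S : Sylow 2 G} {M : SymK (S : Subgroup G) P V ⊥ k m} {D : Subgroup G} (h : Fr S P V D M)
  {μ ν : Equiv.Perm (_root_.Cfsg.Agent.Omega.Half.SymA.Pt k m)} (F : Fours M μ ν) {x : _root_.Cfsg.Agent.Omega.Half.SymA.Pt k m} (hx : x.2 ≠ 0) (zv : zc (o2 P) ≤ V ⊔ DD M)

include h F hx in
/-- two duads `≠ n` of `S` -/
theorem exists_two (hk : 2 ≤ k ∨ 3 ≤ m) : ∃ c c' : _root_.Cfsg.Agent.Omega.Half.SymA.Pt k m, c.2 ≠ 0 ∧ c ≠ x ∧ c ≠ μ x ∧ c'.2 ≠ 0 ∧ c' ≠ x ∧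
    c' ≠ μ x ∧ c ≠ c' ∧ c ≠ μ c' := by
  classical
  have hn1 := h.nu_ne F hx
  have hn2 := F.nne x hx
  have hn3 := F.nmu x hx
  rcases hk with hk | hm
  · obtain ⟨l, hl⟩ : ∃ l : Fin k, l ≠ x.1 := by
      have : Nontrivial (Fin k) := Fin.nontrivial_iff_two_le.2 hk
      exact exists_ne x.1
    obtain ⟨c, hc, hc'⟩ := exists_pt4 h.hm l ({(l, 0)} : Finset (_root_.Cfsg.Agent.Omega.Half.SymA.Pt k m)) (by simp)
    rw [Finset.mem_singleton] at hc'
    refine ⟨ν x, c, hn1, hn2, hn3, fun e => hc' (Prod.ext hc e), fun e => hl ?_, fun e => hl ?_, fun e => hl ?_,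
      fun e => hl ?_⟩
    · rw [← hc, e]
    · rw [← hc, e, F.mfst]
    · rw [← hc, ← e, F.nfst]
    · rw [← hc, ← F.mfst c, ← e, F.nfst]
  · obtain ⟨c, hc, hc'⟩ := exists_pt hm x.1 ({(x.1, 0), x, μ x, ν x, μ (ν x)} : Finset (_root_.Cfsg.Agent.Omega.Half.SymA.Pt k m))
      (Finset.card_le_five.trans (by norm_num))
    simp only [Finset.mem_insert, Finset.mem_singleton, not_or] at hc'
    refine ⟨ν x, c, hn1, hn2, hn3, fun e => hc'.1 (Prod.ext hc e), hc'.2.1, hc'.2.2.1, fun e => hc'.2.2.2.1 e.symm,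
      fun e => hc'.2.2.2.2 ?_⟩
    rw [e, F.msq]

seal _root_.Cfsg.Agent.Omega.IId.SymWrD.pp in
include h F hx zv in
/-- **LEMMA E over `T̂`, `D` arbitrary** -/
theorem le_hat (hk : 2 ≤ k ∨ 3 ≤ m) {T : Subgroup G} (hTT : tn S M μ x ≤ T) (hTp : IsPGroup 2 T)
    (hTN : T ≤ normalizer (ln (h.line3 (h.tri F hx)) : Set G)) (hTa : T ≤ centralizer ({pr M x (μ x)} : Set G))
    (syl : ¬ 2 ∣ T.relIndex (centralizer ({pr M x (μ x)} : Set G))) (j : Fin 3) :
    ThmA.LE (ln (h.line3 (h.tri F hx))) (pts (pr M x (μ x)) (pr M x (x.1, 0))) j := by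
  classical
  have t := h.tri F hx
  have b := h.httT F hx hTT zv hTp hTN hTa syl
  have B := b.toBTS
  refine ThmA.le_all B.toBT (i := 0) (fun Λ hΛ hN => ?_) j
  by_contra hΛR
  set L := ln (h.line3 (h.tri F hx)) with hL
  set R := pts (pr M x (μ x)) (pr M x (x.1, 0)) with hR
  set r := pr M x (μ x) with hr
  have hrV : r ∈ V := pr_mem M x (μ x)
  have hrr : r * r = 1 := h.Vsq hrV
  have h0 : R 0 = zpowers (pr M x (μ x)) := rfl
  have h1 : R 1 = zpowers (pr M x (x.1, 0)) := rfl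
  have h2 : R 2 = zpowers (pr M (μ x) (x.1, 0)) := by
    show zpowers (dd (pr M x (μ x)) (pr M x (x.1, 0)) 2) = _
    rw [show dd (pr M x (μ x)) (pr M x (x.1, 0)) 2 = pr M (μ x) (x.1, 0) from h.dd_two t]
  have hr1 : r ≠ 1 := h.pr_ne t.pq t.n1
  have hRK : ∀ y ∈ R 0, y = 1 ∨ y = r := fun y hy => (HT.LineOf.mem_zp h.pr_sq).1 hy
  have hrR : r ∈ R 0 := by rw [h0]; exact mem_zpowers r
  -- the normaliser of the point
  have hNr : normalizer (R 0 : Set G) = centralizer ({r} : Set G) := by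
    rw [h0, MinSimple.Basic.normalizer_zpowers_eq (by rw [pow_two]; exact hrr)]
  set! K := centralizer ({r} : Set G) with hK; rewrite [← hK] at hNr syl hTa
  have hKr : ∀ g ∈ K, g * r = r * g := fun g hg => mem_centralizer_singleton_iff.1 hg
  have hTK : T ≤ K := hTa
  have hTL : T ≤ normalizer (L : Set G) := hTN
  have hLV : L ≤ V := h.ln_le t
  -- `Ξ = R 0 Λ`
  set! Ξ := R 0 ⊔ Λ with hΞ
  have hKΞ : K ≤ normalizer (Ξ : Set G) := by
    intro g hg
    have hgR : g ∈ normalizer (R 0 : Set G) := by rw [hNr]; exact hg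
    rw [← cj_eq_self_iff, hΞ, cj_sup, cj_eq_self_iff.2 hgR, cj_eq_self_iff.2 (hN hgR)]
  have hΞm : ∀ l ∈ Ξ, ∃ a' ∈ R 0, a' * l ∈ CenX L R := by
    intro l hl
    have h3 : Ξ ≤ RC B.toBT 0 := by
      refine sup_le (fun a' ha => ⟨a'⁻¹, inv_mem ha, ?_⟩) hΛ
      rw [inv_mul_cancel]
      exact one_mem _
    exact h3 hl
  have hE0 : Ξ ⊓ CenX L R ≠ ⊥ := by
    intro h'
    apply hΛR
    intro y hy
    obtain ⟨a', ha, hm⟩ := hΛ y hy
    have h3 : a' * y ∈ Ξ ⊓ CenX L R :=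
      ⟨mul_mem ((le_sup_left : R 0 ≤ Ξ) ha) ((le_sup_right : Λ ≤ Ξ) hy), hm⟩
    rw [h', mem_bot, mul_eq_one_iff_eq_inv] at h3
    have h4 : y = a'⁻¹ := by rw [h3, inv_inv]
    rw [h4]; exact inv_mem ha
  have hTΞ : T ≤ normalizer ((Ξ ⊓ CenX L R : Subgroup G) : Set G) := by
    intro s hs
    have h3 := B.toBT.NV_le_NCenX (hTL hs)
    rw [← cj_eq_self_iff, cj_inf, cj_eq_self_iff.2 (hKΞ (hTK hs)), cj_eq_self_iff.2 h3]
  have hQT : o2 K ≤ T := HT.LemE.le_of_odd hTp hTa syl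
      (o2_isPGroup _) (o2_le _) (hTK.trans (le_normalizer_o2 _))
  have hCT : Ξ ⊓ CenX L R ≤ T := by
    have h3 : CenX L R ≤ QQ (R 0) := (B.CenX_le_C).trans (iInf_le _ 0)
    have h4 : QQ (R 0) = o2 K := by
      change o2 (normalizer (R 0 : Set G)) = o2 K
      rw [hNr]
    rw [h4] at h3
    exact inf_le_right.trans (h3.trans hQT)
  obtain ⟨f, hf, hf1, hff, hfT⟩ := HT.LemE.exists_inv hTp hE0 hCT hTΞ
  have hfz : f ∈ zc T := mem_zc.2 ⟨hCT hf, fun g hg => (hfT g hg).symm, by rw [pow_two]; exact hff⟩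
  obtain ⟨v, hv, d, hd, hvT, hdT, e⟩ := h.zc_tn_dec F hx zv (h.zcT_le F hx hTT hfz)
  have hfX : f ∈ CenX L R := hf.2
  -- `v = 1`
  by_cases hv1 : v = 1
  · rw [hv1, one_mul] at e
    subst e
    have hff' : f * f = 1 := hff
    have hrf : r * f = f * r := Sit.zz_comm (h.VZ hrV) (mem_DD.1 hd).1
    -- `O₂(C(n d)) ≤ T`
    have hO : o2 (centralizer ({pr M x (μ x) * f} : Set G)) ≤ tn S M μ x := by
      by_contra hcon
      obtain ⟨w, hw⟩ := exists_out hdT hcon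
      obtain ⟨c, c', k1, k2, k3, k4, k5, k6, k7, k8⟩ := exists_two h F hx hk
      refine caseB h F hx hd hdT hw zv k1 k2 k3 k4 k5 k6 k7 k8 hKΞ ((le_sup_left : R 0 ≤ Ξ) hrR) hf.1
        fun l hl => ?_
      obtain ⟨a', ha', hm'⟩ := hΞm l hl
      rcases hRK a' ha' with rfl | rfl
      · left
        rw [one_mul] at hm'
        exact fun y hy => mem_centralizer_iff.1 hm' y hy
      · right
        exact fun y hy => mem_centralizer_iff.1 hm' y hy
    have g1 : GoodA r f := by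
      refine goodA_of h.char2 hff' hf1 hrf fun g hg => ?_
      exact (mem_zc.1 (h.VZ hrV)).2.1 g ((RD.HF_cent h.char2 h.toSit zv hd hf1).1 hg)
    have g2 : GoodA r (r * f) := by
      refine goodA_of h.char2 ?_ ?_ ?_ fun g hg => ?_
      · calc r * f * (r * f) = r * (f * r) * f := by group
          _ = (r * r) * (f * f) := by rw [← hrf]; group
          _ = 1 := by rw [hrr, hff', one_mul]
      · intro e1
        have e2 : r = f⁻¹ := eq_inv_of_mul_eq_one_left e1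
        exact hr1 (h.eq_one_of_DD hrV (by rw [e2]; exact inv_mem hd))
      · rw [← mul_assoc, mul_assoc r f r, ← hrf, ← mul_assoc]
      · exact mem_centralizer_singleton_iff.1 (hO hg).2
    have hi10 : (1 : Fin 3) ≠ 0 := by decide
    have hi20 : (2 : Fin 3) ≠ 0 := by decide
    have hi12 : (1 : Fin 3) ≠ 2 := by decide
    refine bip B.toBT hRK (fun g hg => hKr g (by rwa [hNr] at hg)) hTL (by rw [hNr]; exact syl) ?_
      (by rw [hNr]; exact hKΞ) hΞm hf.1 g1 g2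
    obtain ⟨g, hgN, hgt⟩ := B.toBT.mt 0
    obtain ⟨⟨w, hwL, hw⟩, -⟩ := hgt 1 2 hi10 hi20
    by_contra hcon
    push Not at hcon
    have h3 : pr M x (x.1, 0) ∈ R 2 := by
      have h4 : g * w * g⁻¹ * pr M x (x.1, 0) * (g * w * g⁻¹)⁻¹ = pr M x (x.1, 0) := by
        have h5 := hcon g hgN (pr M x (x.1, 0)) (B.toBT.R_le 1 (by rw [h1]; exact mem_zpowers _)) (g * w * g⁻¹)
          (conj_mem_cj hwL)
        rw [← h5, mul_inv_cancel_right]
      rw [← hw, ← h4]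
      exact conj_mem_cj (by rw [h1]; exact mem_zpowers _)
    have h4 := B.toBT.eq_one hi12 (by rw [h1]; exact mem_zpowers _ : pr M x (x.1, 0) ∈ R 1) h3
    exact h.pr_ne t.pr t.n2 h4
  -- `v ≠ 1`
  have hdX : ∀ y ∈ XX L R, y * d = d * y := fun y hy => h.X_DD t hd hy
  have hvX : ∀ y ∈ XX L R, y * v = v * y := by
    intro y hy
    have h3 := mem_centralizer_iff.1 hfX y hy
    rw [e] at h3
    have h4 : y * v * d = v * y * d := by
      calc y * v * d = y * (v * d) := by group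
        _ = v * d * y := h3
        _ = v * (y * d) := by rw [hdX y hy]; group
        _ = v * y * d := by group
    exact mul_right_cancel h4
  obtain ⟨g, hgN, hgt⟩ := B.toBT.mt 0
  obtain ⟨⟨w0, hw0L, hw0⟩, -⟩ := hgt 1 2 (by decide) (by decide)
  obtain ⟨hx1, hx1P, hx1s⟩ := exists_sw h t.pq t.pr t.n1 t.n2 B.toBT h0 h1 h2 hgN hw0L hw0
  obtain ⟨g', hgN', hgt'⟩ := B.toBT.mt 2
  obtain ⟨⟨w', hw'L, hw'⟩, -⟩ := hgt' 1 0 (by decide) (by decide)
  have h2' : R 2 = zpowers (pr M (x.1, 0) (μ x)) := by rw [h2, pr_comm M t.qr]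
  have h1' : R 1 = zpowers (pr M (x.1, 0) x) := by rw [h1, pr_comm M t.pr]
  have h0' : R 0 = zpowers (pr M (μ x) x) := by rw [h0, pr_comm M t.pq]
  obtain ⟨hx2, hx2P, hx2s⟩ := exists_sw h t.qr.symm t.pr.symm t.n3.symm t.n2.symm B.toBT h2' h1' h0' hgN' hw'L hw'
  have hEf : ∀ y ∈ XX L R, y ∈ P → ∀ p, E M v (pp M y p) = E M v p := fun y hy hyP =>
    (h.comm_iff hyP hv).1 (hvX y hy)
  have hE1 : E M v x = E M v (μ x) := by
    have := hEf _ hx1 hx1P (μ x)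
    rwa [hx1s, Equiv.swap_apply_right] at this
  have hE2 : E M v (μ x) = E M v (x.1, 0) := by
    have := hEf _ hx2 hx2P (x.1, 0)
    rwa [hx2s, Equiv.swap_apply_left] at this
  obtain ⟨p, q, hpq, hpa, hpb, hqa, hqb, hne⟩ := exists_sep (M := M) h.hm1 t.pq t.pr t.n2 t.n3 hv hv1 hE1
    (hE1.trans hE2)
  have npq : p ≠ q := fun e => hne (by rw [e])
  obtain ⟨w, hwp, hwa, hwb, hwp', hwq⟩ := exists_third h.hm (a := x) (b := μ x) (p := p) (q := q)
  -- three duads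
  have m1 : pr M p q ∈ Ξ := by
    refine pr_mem_of h t.pq hpq hpa hpb hqa hqb hKΞ hv hd ?_ hne
    rw [← e]; exact hf.1
  have m2 : pr M q w ∈ Ξ := by
    refine pr_mem_of h t.pq (hpq.symm.trans hwp.symm) hqa hqb hwa hwb hKΞ (pr_mem M p q) (one_mem (DD M)) ?_ ?_
    · rw [mul_one]; exact m1
    · rw [E_pr_right M hpq npq, E_pr_of_ne M hpq hwp' hwq]
      exact one_ne_zero
  have m3 : pr M p w ∈ Ξ := by
    rw [← pr_mul M hpq (hpq.symm.trans hwp.symm)]
    exact mul_mem m1 m2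
  have hgK : g ∈ K := by rw [← hNr]; exact hgN
  have hgr : g * r * g⁻¹ = r := by rw [hKr g hgK, mul_inv_cancel_right]
  have hcase : ∀ y ∈ Ξ, g * y * g⁻¹ ∈ CenX L R ∨ r * (g * y * g⁻¹) ∈ CenX L R := by
    intro y hy
    obtain ⟨a', ha', hm'⟩ := hΞm _ (conj_mem_of_normalizer (hKΞ hgK) hy)
    rcases hRK a' ha' with rfl | rfl
    · rw [one_mul] at hm'; exact Or.inl hm'
    · exact Or.inr hm'
  have hkill : ∀ p q : _root_.Cfsg.Agent.Omega.Half.SymA.Pt k m, p.1 = q.1 → p ≠ q → p ≠ x → p ≠ μ x → q ≠ x → q ≠ μ x →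
      g * pr M p q * g⁻¹ ∈ CenX L R → False := fun p q e1 e2 e3 e4 e5 e6 e7 =>
    kill h t.pq e1 e2 e3 e4 e5 e6 B.toBT hLV (by decide : (1 : Fin 3) ≠ 2) hr1 hgr hrR hw0L hw0 e7
  have hrc : ∀ y ∈ V, r * (g * y * g⁻¹) = g * y * g⁻¹ * r := by
    intro y hy
    calc r * (g * y * g⁻¹) = (g * r * g⁻¹) * (g * y * g⁻¹) := by rw [hgr]
      _ = g * (r * y) * g⁻¹ := by group
      _ = g * (y * r) * g⁻¹ := by rw [h.Vcomm hrV hy]
      _ = g * y * g⁻¹ * (g * r * g⁻¹) := by group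
      _ = g * y * g⁻¹ * r := by rw [hgr]
  rcases hcase _ m1 with c1 | c1
  · exact hkill p q hpq npq hpa hpb hqa hqb c1
  rcases hcase _ m2 with c2 | c2
  · exact hkill q w (hpq.symm.trans hwp.symm) hwq.symm hqa hqb hwa hwb c2
  rcases hcase _ m3 with c3 | c3
  · exact hkill p w hwp.symm hwp'.symm hpa hpb hwa hwb c3
  -- `r ∈ C_X`
  have hrX : r ∈ CenX L R := by
    have h3 := mul_mem (mul_mem c1 c2) c3
    have h4 : r * (g * pr M p q * g⁻¹) * (r * (g * pr M q w * g⁻¹)) * (r * (g * pr M p w * g⁻¹)) = r := by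
      have h5 : pr M p q * pr M q w * pr M p w = 1 := by
        rw [pr_mul M hpq (hpq.symm.trans hwp.symm)]
        exact h.Vsq (pr_mem M p w)
      calc r * (g * pr M p q * g⁻¹) * (r * (g * pr M q w * g⁻¹)) * (r * (g * pr M p w * g⁻¹))
          = r * ((g * pr M p q * g⁻¹) * r) * (g * pr M q w * g⁻¹) * (r * (g * pr M p w * g⁻¹)) := by group
        _ = r * (r * (g * pr M p q * g⁻¹)) * (g * pr M q w * g⁻¹) * (r * (g * pr M p w * g⁻¹)) := by
            rw [hrc _ (pr_mem M p q)]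
        _ = (r * r) * (g * (pr M p q * pr M q w) * g⁻¹) * (r * (g * pr M p w * g⁻¹)) := by group
        _ = (g * (pr M p q * pr M q w) * g⁻¹ * r) * (g * pr M p w * g⁻¹) := by rw [hrr]; group
        _ = r * (g * (pr M p q * pr M q w) * g⁻¹) * (g * pr M p w * g⁻¹) := by
            rw [hrc _ (mul_mem (pr_mem M p q) (pr_mem M q w))]
        _ = r * (g * (pr M p q * pr M q w * pr M p w) * g⁻¹) := by group
        _ = r := by rw [h5]; group
    rwa [h4] at h3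
  obtain ⟨y, hy, hyR⟩ := B.toBT.trans_X_one 0 1
  have h3 : y * r * y⁻¹ = r := by rw [mem_centralizer_iff.1 hrX y hy, mul_inv_cancel_right]
  have h4 : r ∈ R 1 := by
    rw [← hyR, ← h3]
    exact conj_mem_cj hrR
  exact hr1 (B.toBT.eq_one (by decide : (0 : Fin 3) ≠ 1) hrR h4)

end thm

end Cfsg.Agent.Omega.IId.SymWrD.Ht.LEHat

end
end
end

-- part: Mrg/Omega/IId/SwCv/SylHatFin
section
prune_inst 0x800020044022000000000000800000000000010000200000e14000040008014200000900000001020020220000040000024c00400000000000000000000004010000000080080000200000000000000000000000000000000000000000000000000000000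
set_option linter.all false
open scoped Cfsg.Agent.FastGrp

-- merged: Cfsg.Agent.Mrg.Omega.HTwo.Exit
section

/-!
# II.0h1, `q = 2`: the exit for every leaf

* `PosStmt0 K` : the statement on the position `HTwo.Entry.Pos` without `AllSingle`, `AllSplit`;
* `exists_pos0` : a non-free mutual pair of one type `(P, P)`, one natural factor, `q = 2`, gives `Pos`;
* `exit_of` : a non-free mutual pair, both members with one natural factor and `q = 2`, gives `IsKnownSimple' G`.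
-/

set_option autoImplicit false
set_option linter.unusedSectionVars false

namespace Cfsg.Agent.Omega.HTwo.Exit

open Subgroup Cfsg Cfsg.Agent.ZN Cfsg.Agent.Omega.MinPar
open Cfsg.Agent.MinSimple.VModule (oddGen zc_le_zl zc_sq le_normalizer_zl)
open Cfsg.Agent.Omega.NatPair (NatMod exists_ap ap)
open Cfsg.Agent.Omega.BTwo Cfsg.Agent.Omega.HOneTwo
open Cfsg.Agent.Omega.FrameFF (cv NatOver)
open Cfsg.Agent.Omega.HOne
open Cfsg.Agent.Omega.HOne.Main (vx SplitPar NonFree)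
open Cfsg.Agent.Omega.MixOne (Spl exists_spl exists_move noSame_of MixedW)
open Cfsg.Agent.Omega.Mix (RMod RMutual)
open Cfsg.Agent.Omega.Frame
open Cfsg.Agent.Omega.FrameLE (AllIn)
open Cfsg.Agent.Omega.HTwo.Entry (Pos)
open scoped Pointwise commutatorElement

universe u

/-- The statement on the position `Pos`, without `AllSingle` and `AllSplit`. -/
def PosStmt0 (K : Cls.{u}) : Prop :=
  ∀ (G : Type u) [Group G] [Finite G], _root_.Cfsg.Agent.Omega.Frame.Ctx G → K G → ∀ (S : Sylow 2 G), Full (S : Subgroup G) →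
    AllIn (S : Subgroup G) →
    ∀ (P V : Subgroup G) (ι : Type u) (R : ι → Subgroup G) (o : ι) (r z : G), Pos S P V R o r z →
      IsParS (S : Subgroup G) P →
      zl (S : Subgroup G) P = V ⊔ (zc (S : Subgroup G) ⊓ centralizer (P : Set G)) → IsKnownSimple' G

variable {G : Type u} [Group G]

/-- `HOne.Main.Same` without minimality -/
structure Sm (S P : Subgroup G) (g : G) {F : Type} [Field F] {N : Subgroup G} (M : NatMod F N) : Prop where
  star : IsParS S P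
  N_eq : N = vx S P
  inf : N ⊓ cv S P = ⊥
  sup : N ⊔ cv S P = zl S P
  ne : cv S P ≠ ⊥
  cen : P ≤ centralizer (cv S P : Set G)
  le : P ≤ normalizer (N : Set G)
  lift : ∀ A : Matrix.SpecialLinearGroup (Fin 2) F, ∃ h ∈ P, M.Ind h A
  pair : NatPair.Mutual N (NatPair.cj g N)
  VQ : N ≤ QQ (N ⊓ NatPair.cj g N)

variable [Finite G] {S : Sylow 2 G} {P : Subgroup G} {g : G} {F : Type} [Field F]

/-- **the normal form**, `q = 2` -/
theorem exists_sm [Finite F] [CharP F 2] (hc : IsCharacteristicTwoType G) (hnf : NonFree (S : Subgroup G) P P g)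
    (M : NatOver F P (zl (S : Subgroup G) P) (cv (S : Subgroup G) P)) (h2 : Nat.card F = 2) :
    ∃ (y : G) (N : Subgroup G) (M' : NatMod F N), Sm (S : Subgroup G) P y M' := by
  have h : IsParS (S : Subgroup G) P := hnf.mp.star₁
  have hsp : SplitPar (S : Subgroup G) P := splitPar_of_two hc S h M h2
  obtain ⟨y, hy1, hy2, v, hv, w, hw, hvw⟩ := _root_.Cfsg.Agent.Omega.MixOne.exists_move S hc hnf.mp
  obtain ⟨K₁, M₁, s₁⟩ := exists_spl hc h M hsp
  have s₂ := s₁.conj y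
  have hSP : (S : Subgroup G) ≤ P := h.le
  have hSP' : ((y • S : Sylow 2 G) : Subgroup G) ≤ cj y P := by
    rw [Mix.coe_smul_eq]; exact cj_mono hSP
  -- `N`, `N^y` do not commute
  obtain ⟨n, hn, d, hd, rfl⟩ := s₁.dec v hv
  obtain ⟨n', hn', d', hd', rfl⟩ := s₂.dec w hw
  have c1 : ∀ z ∈ cj y (zl (S : Subgroup G) P), ∀ d ∈ cv (S : Subgroup G) P, d * z = z * d := fun z hz d hd =>
    mem_centralizer_iff.1 (s₁.cen (hSP (hy1 hz))) d hd
  have c2 : ∀ z ∈ zl (S : Subgroup G) P, ∀ d ∈ cj y (cv (S : Subgroup G) P), d * z = z * d := fun z hz d hd => by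
    refine mem_centralizer_iff.1 (s₂.cen (hSP' ?_)) d hd
    rw [Mix.coe_smul_eq]; exact hy2 hz
  have hnn : n * n' ≠ n' * n := by
    intro h
    apply hvw
    have e1 := c1 _ hw d hd
    have e2 := c2 n (s₁.NV hn) d' hd'
    calc n * d * (n' * d') = n * (d * (n' * d')) := by group
      _ = n * (n' * d' * d) := by rw [e1]
      _ = n * n' * d' * d := by group
      _ = n' * (n * d') * d := by rw [h]; group
      _ = n' * (d' * n) * d := by rw [e2]
      _ = n' * d' * (n * d) := by group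
  rcases (preMod M hsp).dich S (hSP.trans (le_normalizer_vx _ _)) (fun s hs' => nm_of_mem M hsp (hSP hs')) with
    hgood | hexc
  · refine ⟨y, vx (S : Subgroup G) P, (preMod M hsp).toNatMod hgood, ?_⟩
    have hmut : RMutual (vx (S : Subgroup G) P) (cj y (vx (S : Subgroup G) P)) K₁ (cj y K₁) :=
      ⟨(s₂.NV.trans hy1).trans (hSP.trans s₁.PK), (s₁.NV.trans hy2).trans (by
        have := hSP'.trans s₂.PK
        rwa [Mix.coe_smul_eq] at this), n, hn, n', hn', hnn⟩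
    obtain ⟨-, u, u', hu, -, hl, -⟩ := Mix.pair M₁ (M₁.conj y) hmut
    obtain ⟨T₁, hT₁P, hT₁R⟩ := s₁.exists_sylow S hSP hu.ne
    rw [← hl] at hT₁R
    have hR2 : IsPGroup 2 ↥(vx (S : Subgroup G) P ⊓ cj y (vx (S : Subgroup G) P)) :=
      s₁.N_pGroup.to_le inf_le_left
    have hR1 : vx (S : Subgroup G) P ⊓ cj y (vx (S : Subgroup G) P) ≠ ⊥ := by
      have h1 := M₁.line_ne_bot hu.ne
      rw [← hl] at h1
      exact h1
    have hVQ := s₁.V_le_Q hT₁P hu.ne (R := vx (S : Subgroup G) P ⊓ cj y (vx (S : Subgroup G) P)) hl hT₁R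
      (Mix.char2_normalizer hc hR2 hR1)
    exact
      { star := h
        N_eq := rfl
        inf := hsp
        sup := sup_eq M
        ne := hnf.ne₁
        cen := le_centralizer_cv hc S h M hsp
        le := le_normalizer_vx _ _
        lift := rmod_lift M hsp
        pair := ⟨((s₂.NV.trans hy1).trans hSP).trans (le_normalizer_vx _ _), by
          change _ ≤ normalizer (cj y _ : Set G)
          rw [BTwo.normalizer_cj]
          exact ((vx_le _ _).trans hy2).trans ((cj_mono hSP).trans (cj_mono (le_normalizer_vx _ _))),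
          n, hn, n', hn', hnn⟩
        VQ := (vx_le _ _).trans hVQ }
  · exfalso
    obtain ⟨w₀, r, E⟩ := excD_of S M hsp hexc
    have := E.card
    omega

namespace Sm

variable {N : Subgroup G} {M : NatMod F N} (h : Sm (S : Subgroup G) P g M)
include h

theorem S_le : (S : Subgroup G) ≤ P := h.star.le

theorem S_norm : (S : Subgroup G) ≤ normalizer (N : Set G) := h.S_le.trans h.le

theorem cv_le_zc (hG : IsCharacteristicTwoType G) : cv (S : Subgroup G) P ≤ zc (S : Subgroup G) := by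
  have hloc := h.star.isLoc
  have h1 : zl (S : Subgroup G) P ≤ (S : Subgroup G) :=
    ((hloc.zl_le S hG).trans (zc_le _)).trans (hloc.o2_le S)
  intro d hd
  have hd' : d ∈ zl (S : Subgroup G) P := hd.1
  rw [mem_zc]
  refine ⟨h1 hd', fun s hs => ?_, zc_sq _ _ (hloc.zl_le S hG hd')⟩
  exact (mem_centralizer_iff.1 (h.cen (h.S_le hs)) d hd).symm

/-- `V_P = N C_{V_P}(O²(P))` -/
theorem exists_mul_cv [Finite F] [CharP F 2] {v : G} (hv : v ∈ zl (S : Subgroup G) P) :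
    ∃ n ∈ N, ∃ d ∈ cv (S : Subgroup G) P, v = n * d := by
  rw [← h.sup] at hv
  have h3 : cv (S : Subgroup G) P ≤ normalizer (N : Set G) := by
    intro d hd
    have h4 : N ≤ P := by
      intro n hn
      exact h.S_le (HOneQ.V_le_S M S h.S_norm hn)
    refine centralizer_le_normalizer _ ?_
    rw [mem_centralizer_iff]
    exact fun n hn => (mem_centralizer_iff.1 (h.cen (h4 hn)) d hd).symm
  rw [← SetLike.mem_coe, coe_mul_of_right_le_normalizer_left _ _ h3] at hv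
  obtain ⟨n, hn, d, hd, rfl⟩ := hv
  exact ⟨n, hn, d, hd, rfl⟩

/-- `[P, Z] ≤ N` -/
theorem comm_zc [Finite F] [CharP F 2] {x z : G} (hx : x ∈ P) (hz : z ∈ zc (S : Subgroup G)) :
    x * z * x⁻¹ * z⁻¹ ∈ N := by
  obtain ⟨n, hn, d, hd, rfl⟩ := h.exists_mul_cv (_root_.Cfsg.Agent.MinSimple.VModule.zc_le_zl _ _ hz)
  have h1 : x * d = d * x := (mem_centralizer_iff.1 (h.cen hx) d hd).symm
  have h2 : x * (n * d) * x⁻¹ * (n * d)⁻¹ = x * n * x⁻¹ * n⁻¹ := by
    calc x * (n * d) * x⁻¹ * (n * d)⁻¹ = x * n * (d * x⁻¹) * d⁻¹ * n⁻¹ := by group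
      _ = x * n * (x⁻¹ * (x * d) * x⁻¹) * d⁻¹ * n⁻¹ := by group
      _ = x * n * (x⁻¹ * (d * x) * x⁻¹) * d⁻¹ * n⁻¹ := by rw [h1]
      _ = x * n * x⁻¹ * n⁻¹ := by group
  rw [h2]
  exact mul_mem (conj_mem_of_normalizer (h.le hx) hn) (inv_mem hn)

/-- **the entry to `HT`** -/
theorem exists_ht [Finite F] [CharP F 2] (hG : IsCharacteristicTwoType G) (hF : Nat.card F = 2) :
    ∃ o : Pt M, HT S P N (pt M) o := by
  obtain ⟨o, ho⟩ := HOneQ.exists_pt M S h.S_norm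
  refine ⟨o, { HOneQ.bts M S h.S_norm hG h.pair h.VQ with
    card_R := ?_, char2 := hG, S_V := h.S_norm, S_R := ho, S_P := h.S_le, P_V := h.le,
    P_trans := ?_, P_Z := fun x hx z hz => h.comm_zc hx hz }⟩
  · rintro ⟨_, w, hw, rfl⟩
    change Nat.card (M.line w) = 2
    rw [M.card_line hw, hF]
  · obtain ⟨_, w, hw, rfl⟩ := o
    rintro ⟨_, u, hu, rfl⟩
    obtain ⟨A, hA⟩ := exists_ap hw hu
    obtain ⟨l, hl, hlA⟩ := h.lift A
    refine ⟨l, hl, ?_⟩
    have := M.cj_line_of_ind hlA w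
    rw [hA] at this
    exact this

/-- `C_{V_P}(O²(P)) ≤ C_Z(P)` -/
theorem cv_le_cz (hG : IsCharacteristicTwoType G) :
    cv (S : Subgroup G) P ≤ zc (S : Subgroup G) ⊓ centralizer (P : Set G) :=
  le_inf (h.cv_le_zc hG) (le_centralizer_iff.1 h.cen)

/-- `C_Z(P) = C_{V_P}(O²(P))` -/
theorem cz_eq (hG : IsCharacteristicTwoType G) :
    zc (S : Subgroup G) ⊓ centralizer (P : Set G) = cv (S : Subgroup G) P := by
  refine le_antisymm ?_ (h.cv_le_cz hG)
  refine le_inf (inf_le_left.trans (_root_.Cfsg.Agent.MinSimple.VModule.zc_le_zl _ _)) (inf_le_right.trans (centralizer_le ?_))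
  exact Cfsg.Agent.MinSimple.VModule.oddGen_le P

theorem cz_ne (hG : IsCharacteristicTwoType G) :
    zc (S : Subgroup G) ⊓ centralizer (P : Set G) ≠ ⊥ := by
  rw [h.cz_eq hG]
  exact h.ne

/-- **the position** -/
theorem exists_pos [Finite F] [CharP F 2] (hG : IsCharacteristicTwoType G) (hF : Nat.card F = 2) :
    ∃ (o : Pt M) (r z : G), Pos S P N (pt M) o r z := by
  obtain ⟨o, b⟩ := h.exists_ht hG hF
  obtain ⟨r, h1, h2, h3⟩ := b.exists_gen o
  obtain ⟨⟨z, hz⟩, hz1⟩ := (Subgroup.ne_bot_iff_exists_ne_one).1 (h.cz_ne hG)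
  exact ⟨o, r, z, { b with r_ne := h1, r_sq := h2, r_iff := h3, z_mem := hz, z_ne := fun e => hz1 (Subtype.ext e) }⟩

end Sm

/-- **Exit for a pair of one type.** -/
theorem exit_same {K : Cls.{u}} (H : PosStmt0 K) (hG : _root_.Cfsg.Agent.Omega.Frame.Ctx G) (hK : K G) (hF : Full (S : Subgroup G))
    (hI : AllIn (S : Subgroup G)) (hnf : NonFree (S : Subgroup G) P P g) [Finite F] [CharP F 2]
    (M : NatOver F P (zl (S : Subgroup G) P) (cv (S : Subgroup G) P)) (h2 : Nat.card F = 2) :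
    IsKnownSimple' G := by
  obtain ⟨y, N, M', h⟩ := exists_sm hG.char2 hnf M h2
  obtain ⟨o, r, z, p⟩ := h.exists_pos hG.char2 h2
  refine H G hG hK S hF hI P N (Pt M') (pt M') o r z p h.star ?_
  rw [h.cz_eq hG.char2, h.sup]

end Cfsg.Agent.Omega.HTwo.Exit

end

-- merged: Cfsg.Agent.Mrg.Omega.IId.SwCv.Cut
section

section


/-!
# II.d, `SwCv K`: the cut (helper79)

`P` has `k ≥ 2` factors `S_{2^m+1}`, `V_P = A × D`, `D = C_V(O²(P)) ≠ 1`; F1 (`FOne`, helper573) and the entry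
`[V, V'] = ⟨n⟩`, `n` a duad (`TT`, helper971; `TN`, helper714) are plugged.  `Pure V n` : `V` does not commute with all its
conjugates under `C_G(n)`.  Sockets:

* `SwTT` : `Pure V n` (the core, T-T), over helper916's frame `SymWrD.Ht.Fr`; `swTT_of` : from `SwTTSyl` (`C_S(n)` is a
  Sylow 2-subgroup of `C_G(n)`) and `SwTTNon` (it is not, for any duad `n`);
* `SwMixNatOne`, `SwMixNat` : `P'` natural, `k' = 1`, `k' ≥ 2`, both sides mixed;
* `SwMixSymOne`, `SwMixSym` : `P'` of type `S_{2^m'+1}`, `k' = 1`, `k' ≥ 2`, both sides mixed;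
* `TTPair K`, `PosExit`, the unmixed sockets of `WrCvN` (`q = 2`), `FreeFour K`.

`freeFour_of` : `FreeFour K` (there is a `Free` pair with `k ≥ 2` natural factors, `|Z(S)| ≥ 4`) from the sockets of
`LeafWr` (natural factors).
-/

set_option autoImplicit false
set_option linter.unusedSectionVars false

namespace Cfsg.Agent.Omega.IId.SwCvC

open Subgroup Pointwise Cfsg
open Cfsg.Agent.ZN.ChoiceBase hiding mem_zc
open Cfsg.Agent.ZN (o2 zc zl)
open Cfsg.Agent.Omega.MinPar Cfsg.Agent.Omega.Frame Cfsg.Agent.Omega.FFThm Cfsg.Agent.Omega.FrameMulti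
open Cfsg.Agent.Omega.FrameFF (cv Free)
open Cfsg.Agent.Omega.FrameLE (AllIn)
open Cfsg.Agent.Omega.HOne.Main (vx SplitPar NonFree)
open Cfsg.Agent.Omega.Half.SymA (Pt E)
open Cfsg.Agent.Omega.IId.SwCv (Lb du FOne TT TN)
open Cfsg.Agent.Omega.IId.Cv (NoFree HypN UnM TTPair)
open Cfsg.Agent.Omega.IId.SymWrD (pr pp Fours SitD)
open Cfsg.Agent.MinSimple.VModule (mem_zc le_normalizer_o2 o2_isPGroup o2_le le_normalizer_zl)

universe u

/-- `V` does not commute with all its conjugates under `C_G(n)`. -/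
def Pure {G : Type u} [Group G] (V : Subgroup G) (n : G) : Prop :=
  ∃ t ∈ centralizer ({n} : Set G), ∃ v ∈ V, ∃ w ∈ V, v * (t * w * t⁻¹) ≠ t * w * t⁻¹ * v

/-! ### The sockets -/

section sockets

variable (K : Cls.{u})

/-- **T-T** (the core). -/
def SwTT : Prop :=
  ∀ (G : Type u) [Group G] [Finite G] (S : Sylow 2 G), HypN K S → ∀ (P : Subgroup G) (k m : ℕ)
    (M : SymK (S : Subgroup G) P (zl (S : Subgroup G) P) (cv (S : Subgroup G) P) k m)
    (ε : Fin k → (Fin (2 ^ m + 1) → ZMod 2) → G) (hL : Lb M ε), 2 ≤ k → 2 ≤ m → IsParS (S : Subgroup G) P →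
      FOne M ε → cv (S : Subgroup G) P ≠ ⊥ →
      SymWrD.Ht.Fr S P hL.A (cv (S : Subgroup G) P) hL.toBot → IsKnownSimple' G

/-- Natural partner, `k' = 1`, mixed. (helper48 #20133) -/
def SwMixNatOne : Prop :=
  ∀ (G : Type u) [Group G] [Finite G] (S S' : Sylow 2 G), HypN K S → ∀ (P P' : Subgroup G) (k m : ℕ)
    (M : SymK (S : Subgroup G) P (zl (S : Subgroup G) P) (cv (S : Subgroup G) P) k m)
    (ε : Fin k → (Fin (2 ^ m + 1) → ZMod 2) → G), Lb M ε → 2 ≤ k → 2 ≤ m → FOne M ε →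
      cv (S : Subgroup G) P ≠ ⊥ → cv (S' : Subgroup G) P' ≠ ⊥ →
      ∀ (F' : Type) [Field F'] [Finite F'] [CharP F' 2]
        (N : NatD F' S' P' (vx (S' : Subgroup G) P') (cv (S' : Subgroup G) P') 1) (i : Fin k) (a b : Fin (2 ^ m + 1))
        (i' : Fin 1), TN S S' P P' M ε N i a b i' → ¬ Pure (zl (S : Subgroup G) P) (du ε i a b) → ¬ UnM N i' →
          IsKnownSimple' G

/-- Natural partner, `k' ≥ 2`, mixed. (helper639 #20226) -/
def SwMixNat : Prop :=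
  ∀ (G : Type u) [Group G] [Finite G] (S S' : Sylow 2 G), HypN K S → ∀ (P P' : Subgroup G) (k m : ℕ)
    (M : SymK (S : Subgroup G) P (zl (S : Subgroup G) P) (cv (S : Subgroup G) P) k m)
    (ε : Fin k → (Fin (2 ^ m + 1) → ZMod 2) → G), Lb M ε → 2 ≤ k → 2 ≤ m → FOne M ε →
      cv (S : Subgroup G) P ≠ ⊥ → cv (S' : Subgroup G) P' ≠ ⊥ →
      ∀ (F' : Type) [Field F'] [Finite F'] [CharP F' 2] (k' : ℕ)
        (N : NatD F' S' P' (vx (S' : Subgroup G) P') (cv (S' : Subgroup G) P') k'), 2 ≤ k' →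
        (∀ l, NV.QL N l ≤ (S' : Subgroup G)) → ∀ (i : Fin k) (a b : Fin (2 ^ m + 1))
        (i' : Fin k'), TN S S' P P' M ε N i a b i' → ¬ Pure (zl (S : Subgroup G) P) (du ε i a b) → ¬ UnM N i' →
          IsKnownSimple' G

/-- Partner of type `S_{2^m'+1}`, one factor, mixed. -/
def SwMixSymOne : Prop :=
  ∀ (G : Type u) [Group G] [Finite G] (S S' : Sylow 2 G), HypN K S → ∀ (P P' : Subgroup G) (k m m' : ℕ)
    (M : SymK (S : Subgroup G) P (zl (S : Subgroup G) P) (cv (S : Subgroup G) P) k m)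
    (M' : SymK (S' : Subgroup G) P' (zl (S' : Subgroup G) P') (cv (S' : Subgroup G) P') 1 m')
    (ε : Fin k → (Fin (2 ^ m + 1) → ZMod 2) → G) (ε' : Fin 1 → (Fin (2 ^ m' + 1) → ZMod 2) → G), Lb M ε → Lb M' ε' →
      2 ≤ k → 2 ≤ m → 2 ≤ m' → FOne M ε → FOne M' ε' → cv (S : Subgroup G) P ≠ ⊥ → cv (S' : Subgroup G) P' ≠ ⊥ →
      ∀ (i : Fin k) (a b : Fin (2 ^ m + 1)) (i' : Fin 1) (a' b' : Fin (2 ^ m' + 1)),
        TT S S' P P' M M' ε ε' i a b i' a' b' → ¬ Pure (zl (S : Subgroup G) P) (du ε i a b) →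
        ¬ Pure (zl (S' : Subgroup G) P') (du ε i a b) → IsKnownSimple' G

/-- Partner of type `S_{2^m'+1}`, `k' ≥ 2` factors, mixed. -/
def SwMixSym : Prop :=
  ∀ (G : Type u) [Group G] [Finite G] (S S' : Sylow 2 G), HypN K S → ∀ (P P' : Subgroup G) (k m k' m' : ℕ)
    (M : SymK (S : Subgroup G) P (zl (S : Subgroup G) P) (cv (S : Subgroup G) P) k m)
    (M' : SymK (S' : Subgroup G) P' (zl (S' : Subgroup G) P') (cv (S' : Subgroup G) P') k' m')
    (ε : Fin k → (Fin (2 ^ m + 1) → ZMod 2) → G) (ε' : Fin k' → (Fin (2 ^ m' + 1) → ZMod 2) → G), Lb M ε →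
      Lb M' ε' → 2 ≤ k → 2 ≤ m → 2 ≤ k' → 2 ≤ m' → FOne M ε → FOne M' ε' → cv (S : Subgroup G) P ≠ ⊥ →
      cv (S' : Subgroup G) P' ≠ ⊥ →
      ∀ (i : Fin k) (a b : Fin (2 ^ m + 1)) (i' : Fin k') (a' b' : Fin (2 ^ m' + 1)),
        TT S S' P P' M M' ε ε' i a b i' a' b' → ¬ Pure (zl (S : Subgroup G) P) (du ε i a b) →
        ¬ Pure (zl (S' : Subgroup G) P') (du ε i a b) → IsKnownSimple' G

/-- `|Ω₁Z(S)| ≥ 4`, there is a mutual pair with a member with `k ≥ 2` natural factors, both members `Free`. -/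
def FreeFour : Prop :=
  ∀ (G : Type u) [Group G] [Finite G] (S : Sylow 2 G), Hyp K S → 4 ≤ Nat.card (zc (S : Subgroup G)) →
    ¬ NoFree (S : Subgroup G) → IsKnownSimple' G

/-- `V'_{i'}` unmixed, `q = 2`, `k' ≥ 1`, `D' ≠ 1`. -/
def NatUn : Prop :=
  ∀ (G : Type u) [Group G] [Finite G] (S : Sylow 2 G), HypN K S →
    ∀ (P : Subgroup G) (F : Type) [Field F] [Finite F] [CharP F 2] (k : ℕ)
      (M₀ : NatK F (S : Subgroup G) P (zl (S : Subgroup G) P) (cv (S : Subgroup G) P) k)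
      (M : NatD F S P (vx (S : Subgroup G) P) (cv (S : Subgroup G) P) k), 1 ≤ k → Nat.card F = 2 →
      cv (S : Subgroup G) P ≠ ⊥ → ∀ i, UnM M i → IsKnownSimple' G

end sockets

/-! ### The counts -/

section count

variable {G : Type u} [Group G] [Finite G] {S : Sylow 2 G} {P : Subgroup G} {k m : ℕ}
  {M : SymK (S : Subgroup G) P (zl (S : Subgroup G) P) (cv (S : Subgroup G) P) k m}
  {ε : Fin k → (Fin (2 ^ m + 1) → ZMod 2) → G}

theorem cv_le_zc (hL : Lb M ε) : cv (S : Subgroup G) P ≤ zc (S : Subgroup G) := by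
  intro d hd
  exact mem_zc.2 ⟨hL.VT (hL.DV hd), fun s hs => hL.cen s (hL.TH hs) d hd, hL.sq d (hL.DV hd)⟩

/-- `|Ω₁Z(S)| ≤ 2` if `D = 1` -/
theorem zc_le_two (hG : IsCharacteristicTwoType G) (hP : IsParS (S : Subgroup G) P) (hL : Lb M ε) (hk : 0 < k)
    (hm : 2 ≤ m) (hD : cv (S : Subgroup G) P = ⊥) : Nat.card (zc (S : Subgroup G)) ≤ 2 := by
  have h := SymWrD.sitD_of_lb hG hP hL hk hm
  have hA : zc (S : Subgroup G) ≤ hL.A := by
    intro z hz
    obtain ⟨d, hd, e⟩ := hL.dec (Cfsg.Agent.ZN.ChoiceSit.zc_le_zl _ _ hz)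
    rw [hD, mem_bot] at hd
    rw [e, hd, one_mul]
    exact hL.pl_mem_A _
  have hm1 : 1 ≤ m := by omega
  have h01 : (1 : Fin (2 ^ m + 1)) ≠ 0 := by
    have : Nontrivial (Fin (2 ^ m + 1)) := Fin.nontrivial_iff_two_le.2 (by
      have := Nat.one_le_two_pow (n := m); omega)
    exact one_ne_zero
  have hconst : ∀ z ∈ zc (S : Subgroup G), ∀ p q : Pt k m, p.2 ≠ 0 → q.2 ≠ 0 →
      E hL.toBot z p = E hL.toBot z q := by
    intro z hz p q hp hq
    obtain ⟨s, hs, h1⟩ := h.toSit.trans hp hq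
    have h2 := SymWrD.E_conj (M := hL.toBot) (h.toSit.SP hs) (hA hz) p
    rw [(mem_zc.1 hz).2.1 s hs, mul_inv_cancel_right, h1] at h2
    exact h2.symm
  let p₀ : Pt k m := (⟨0, hk⟩, 1)
  have hinj : Function.Injective fun z : zc (S : Subgroup G) => E hL.toBot (z : G) p₀ := by
    intro z w hzw
    apply Subtype.ext
    refine Half.SymA.inj hL.toBot (hA z.2) (hA w.2) ?_
    have h2 : ∀ p : Pt k m, p.2 ≠ 0 → E hL.toBot z p = E hL.toBot w p := fun p hp => by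
      rw [hconst z z.2 p p₀ hp h01, hconst w w.2 p p₀ hp h01]
      exact hzw
    intro p
    by_cases hp : p.2 = 0
    · have h3 := Half.SymA.even0 hL.toBot hm1 (hA z.2) (i := p.1) (c := E hL.toBot (z : G) p₀) fun x hx =>
        hconst z z.2 (p.1, x) p₀ hx h01
      have h3' := Half.SymA.even0 hL.toBot hm1 (hA w.2) (i := p.1) (c := E hL.toBot (w : G) p₀) fun x hx =>
        hconst w w.2 (p.1, x) p₀ hx h01
      have h4 : p = (p.1, 0) := Prod.ext rfl hp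
      rw [h4, h3, h3']
    · exact h2 p hp
  have h2 := Nat.card_le_card_of_injective _ hinj
  rwa [Nat.card_eq_fintype_card (α := ZMod 2), ZMod.card] at h2

/-- `|Ω₁Z(S)| ≥ 4` if `D ≠ 1` -/
theorem four_le_zc (hL : Lb M ε) (hk : 0 < k) (hD : cv (S : Subgroup G) P ≠ ⊥) :
    4 ≤ Nat.card (zc (S : Subgroup G)) := by
  classical
  have h01 : (1 : Fin (2 ^ m + 1)) ≠ 0 := by
    have : Nontrivial (Fin (2 ^ m + 1)) := Fin.nontrivial_iff_two_le.2 (by
      have := Nat.one_le_two_pow (n := m); omega)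
    exact one_ne_zero
  -- all letters except `0`
  let y : Fin k → Fin (2 ^ m + 1) → ZMod 2 := fun _ => 1 + Pi.single 0 1
  have hfix : ∀ s ∈ (S : Subgroup G), s * hL.pl y * s⁻¹ = hL.pl y := by
    intro s hs
    obtain ⟨σ, τ, ha⟩ := M.perm s (hL.TH hs)
    have h0 := M.fix0 s hs σ τ ha
    rw [hL.conj_pl (hL.TH hs) ha]
    congr 1
    funext j
    funext x
    change (1 + Pi.single 0 1 : Fin (2 ^ m + 1) → ZMod 2) ((τ (σ.symm j)).symm x) =
      (1 + Pi.single 0 1 : Fin (2 ^ m + 1) → ZMod 2) x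
    have h1 : (τ (σ.symm j)).symm x = 0 ↔ x = 0 := by
      rw [Equiv.symm_apply_eq, h0]
    simp only [Pi.add_apply, Pi.one_apply, Pi.single_apply, h1]
  have hz : hL.pl y ∈ zc (S : Subgroup G) := by
    refine mem_zc.2 ⟨hL.VT (hL.pl_mem y), fun s hs => ?_, hL.sq _ (hL.pl_mem y)⟩
    have := hfix s hs
    exact mul_inv_eq_iff_eq_mul.1 this
  have hne : hL.pl y ∉ cv (S : Subgroup G) P := by
    intro h1
    have h2 := (M.ker _ (hL.pl_mem y)).2 h1
    rw [hL.e_pl] at h2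
    have h3 := congrFun (congrFun h2 ⟨0, hk⟩) 1
    have hsum : ∑ x, (y ⟨0, hk⟩) x = 0 := by
      change ∑ x, (1 + Pi.single 0 1 : Fin (2 ^ m + 1) → ZMod 2) x = 0
      simp only [Pi.add_apply, Pi.one_apply, Finset.sum_add_distrib, Finset.sum_const, Finset.card_univ,
        Fintype.card_fin, Finset.sum_pi_single', Finset.mem_univ, if_true]
      have h5 : 1 ≤ m := hL.hm
      obtain ⟨r, rfl⟩ : ∃ r, m = r + 1 := ⟨m - 1, by omega⟩
      have h6 : (2 : ZMod 2) = 0 := by decide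
      have h7 : ((2 ^ (r + 1) + 1) • (1 : ZMod 2)) + 1 = (2 : ZMod 2) * (2 ^ r + 1) := by
        rw [nsmul_eq_mul, mul_one]; push_cast; ring
      rw [h7, h6, zero_mul]
    rw [Lb.hat_even hsum] at h3
    have h4 : (1 + Pi.single 0 1 : Fin (2 ^ m + 1) → ZMod 2) 1 = 0 := h3
    rw [Pi.add_apply, Pi.one_apply, Pi.single_eq_of_ne h01, add_zero] at h4
    exact one_ne_zero h4
  have h1 : Nat.card (cv (S : Subgroup G) P) ∣ Nat.card (zc (S : Subgroup G)) :=
    Subgroup.card_dvd_of_le (cv_le_zc hL)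
  have h2 : 1 < Nat.card (cv (S : Subgroup G) P) := (Subgroup.one_lt_card_iff_ne_bot _).2 hD
  obtain ⟨c, hc⟩ := h1
  have h3 : c ≠ 1 := by
    rintro rfl
    rw [mul_one] at hc
    have h4 := Subgroup.eq_of_le_of_card_ge (cv_le_zc hL) (by rw [hc])
    exact hne (h4.ge hz)
  have h5 : c ≠ 0 := by
    rintro rfl
    rw [mul_zero] at hc
    exact absurd hc Nat.card_pos.ne'
  rw [hc]
  have h6 : 2 ≤ c := by omega
  nlinarith only [h2, h6]

end count

/-! ### Mutual pairs from `Pure` -/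

section pure

variable {G : Type u} [Group G] [Finite G] {S : Sylow 2 G} {P : Subgroup G} {k m : ℕ}
  {M : SymK (S : Subgroup G) P (zl (S : Subgroup G) P) (cv (S : Subgroup G) P) k m}
  {ε : Fin k → (Fin (2 ^ m + 1) → ZMod 2) → G}

theorem o2_le_P (hG : IsCharacteristicTwoType G) (hP : IsParS (S : Subgroup G) P) (hL : Lb M ε) (hk : 0 < k)
    (hm : 2 ≤ m) {i : Fin k} {a b : Fin (2 ^ m + 1)} (hab : a ≠ b) :
    o2 (centralizer ({du ε i a b} : Set G)) ≤ P := by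
  intro x hx
  rw [SymWrD.du_eq_pr hL i a b] at hx
  have hne : ((i, a) : Pt k m) ≠ (i, b) := fun h0 => hab (congrArg Prod.snd h0)
  exact (SymWrD.L_dat (SymWrD.sitD_of_lb hG hP hL hk hm) (p := (i, a)) (q := (i, b)) rfl hne x hx).1

theorem conj_mem_o2 {n g x : G} (hg : g ∈ centralizer ({n} : Set G)) (hx : x ∈ o2 (centralizer ({n} : Set G))) :
    g * x * g⁻¹ ∈ o2 (centralizer ({n} : Set G)) :=
  (mem_normalizer_iff.1 (le_normalizer_o2 _ hg) x).1 hx

/-- `Pure V n` : a mutual pair -/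
theorem mutual_of_pure (hG : IsCharacteristicTwoType G) (hP : IsParS (S : Subgroup G) P) (hL : Lb M ε) (hk : 0 < k)
    (hm : 2 ≤ m) (hF : FOne M ε) {i : Fin k} {a b : Fin (2 ^ m + 1)} (hab : a ≠ b)
    (hp : Pure (zl (S : Subgroup G) P) (du ε i a b)) : ∃ g, Mutual (S : Subgroup G) P P g := by
  obtain ⟨t, ht, v, hv, w, hw, hne⟩ := hp
  have hle := hF.le i a b hab
  have hQ := o2_le_P hG hP hL hk hm (i := i) hab
  have hz : P ≤ normalizer (zl (S : Subgroup G) P : Set G) := le_normalizer_zl _ _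
  have hgQ : cj t (o2 (centralizer ({du ε i a b} : Set G))) = o2 (centralizer ({du ε i a b} : Set G)) :=
    cj_eq_of_mem_normalizer (le_normalizer_o2 _ ht)
  refine ⟨t, hP, hP, ?_, ?_, ?_⟩
  · change _ ≤ normalizer ((cj t (zl (S : Subgroup G) P) : Subgroup G) : Set G)
    rw [← cj_normalizer]
    refine hle.trans ?_
    rw [← hgQ]
    exact cj_mono t (hQ.trans hz)
  · change cj t (zl (S : Subgroup G) P) ≤ _
    have := cj_mono t hle
    rw [hgQ] at this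
    exact this.trans (hQ.trans hz)
  · intro h0
    rw [commutator_eq_bot_iff_le_centralizer] at h0
    have h1 : t * w * t⁻¹ ∈ cj t (zl (S : Subgroup G) P) := by
      rw [mem_cj_iff]
      have e : t⁻¹ * (t * w * t⁻¹) * t = w := by group
      rw [e]
      exact hw
    exact hne (mem_centralizer_iff.1 (h0 hv) _ h1).symm

/-- the frame of helper916 from `Pure V n` -/
theorem fr_of_pure (hG : IsCharacteristicTwoType G) (hP : IsParS (S : Subgroup G) P) (hL : Lb M ε) (hk : 0 < k)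
    (hm : 2 ≤ m) (hF : FOne M ε) {i : Fin k} {a b : Fin (2 ^ m + 1)} (hab : a ≠ b)
    (hp : Pure (zl (S : Subgroup G) P) (du ε i a b)) :
    SymWrD.Ht.Fr S P hL.A (cv (S : Subgroup G) P) hL.toBot := by
  refine SymWrD.Ht.Fr.of_sitD (SymWrD.sitD_of_lb hG hP hL hk hm) hG
    ⟨(i, a), (i, b), rfl, fun h0 => hab (congrArg Prod.snd h0), ?_⟩
  rw [← SymWrD.du_eq_pr hL i a b]
  obtain ⟨t, ht, v, hv, w, hw, hne⟩ := hp
  have hle := hF.le i a b hab
  have hQ := o2_le_P hG hP hL hk hm (i := i) hab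
  obtain ⟨d, hd, e⟩ := hL.dec hv
  obtain ⟨d', hd', e'⟩ := hL.dec hw
  refine ⟨t, ht, _, hL.pl_mem_A (M.e v), _, hL.pl_mem_A (M.e w), fun hcon => hne ?_⟩
  set x := hL.pl (M.e v) with hx
  set y := hL.pl (M.e w) with hy
  have hxV : x ∈ zl (S : Subgroup G) P := hL.pl_mem _
  have hyV : y ∈ zl (S : Subgroup G) P := hL.pl_mem _
  -- `d` commutes with `t w t⁻¹`
  have h1 : d * (t * w * t⁻¹) = t * w * t⁻¹ * d := (hL.cen _ (hQ (conj_mem_o2 ht (hle hw))) d hd).symm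
  -- `x` commutes with `t d' t⁻¹`
  have h2 : x * (t * d' * t⁻¹) = t * d' * t⁻¹ * x := by
    have h3 := hL.cen _ (hQ (conj_mem_o2 (inv_mem ht) (hle hxV))) d' hd'
    rw [inv_inv] at h3
    calc x * (t * d' * t⁻¹) = t * (t⁻¹ * x * t * d') * t⁻¹ := by group
      _ = t * (d' * (t⁻¹ * x * t)) * t⁻¹ := by rw [h3]
      _ = t * d' * t⁻¹ * x := by group
  have e1 : t * w * t⁻¹ = t * d' * t⁻¹ * (t * y * t⁻¹) := by rw [e']; group
  calc v * (t * w * t⁻¹) = d * (x * (t * w * t⁻¹)) := by rw [e, mul_assoc]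
    _ = d * (x * (t * d' * t⁻¹) * (t * y * t⁻¹)) := by rw [e1, ← mul_assoc x]
    _ = d * (t * d' * t⁻¹ * (x * (t * y * t⁻¹))) := by rw [h2, mul_assoc]
    _ = d * (t * w * t⁻¹) * x := by rw [hcon, e1]; group
    _ = t * w * t⁻¹ * v := by rw [h1, e, mul_assoc]

end pure

/-! ### The unmixed natural side -/

theorem natUn_of {K : Cls.{u}} (hX : F4Leaf.Cen.Main.PosExit.{u}) (h1 : Cv.CvOneA2 K) (h3 : Cv.CvTwoA K)
    (h4 : Cv.CvTwoB K) (hB : Cv.BigIn K) : NatUn K := by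
  intro G _ _ S hHN P F _ _ _ k M₀ M hk hF hD i hu
  have hH := hHN.toHyp
  have hPS : HTwo.Exit.PosStmt0 K := fun G _ _ hG _ S hF hI P V ι R o r z p _ _ => hX G hG S hF hI P V ι R o r z p
  rcases Nat.lt_or_ge k 2 with h | h
  · obtain rfl : k = 1 := by omega
    obtain ⟨g, hg⟩ := Cv.mutual_big M (fun l => NV.hC_one M l) hu
    exact HTwo.Exit.exit_same hPS hH.ctx hH.cls hH.full hH.allIn ⟨hg, hD, hD⟩ M₀.natOver hF
  rcases Nat.lt_or_ge 2 k with h' | h'
  · exact Cv.unM_big hB hHN M h' (fun l => Cv.SymD.hC_two M hF l) i hD hu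
  obtain rfl : k = 2 := le_antisymm h' h
  by_cases hd : 2 ∣ (NV.stab M.toNatV i).relIndex (normalizer (NV.line M.toNatV i : Set G))
  · by_cases hT : ∃ T₁ : Sylow 2 G, NV.stab M.toNatV i ≤ T₁ ∧
        (T₁ : Subgroup G) ≤ normalizer (NV.fac M.toNatV i : Set G) ⊓ normalizer (NV.line M.toNatV i : Set G)
    · obtain ⟨T₁, h5, h6⟩ := hT
      exact h4 G S hHN P F _ _ M i hD hu T₁ h5 h6
    · exact (h3 G S hHN P F _ _ M i hD hu hd hT).elim
  · exact (h1 G S hHN P F _ _ M i hD hu hd hF).elim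

/-! ### A `Free` pair with `k ≥ 2` natural factors -/

/-- `FreeFour K` from the sockets of `LeafWr` for natural factors, `q ≥ 4`. -/
theorem freeFour_of {K : Cls.{u}} (h3 : WrTwo K) (h4 : WrBig K) (h5 : WrTri K) (h7 : Cv.WrMain4N K) :
    FreeFour K := by
  intro G _ _ S hH hz hnf
  have hG := hH.ctx
  unfold Cv.NoFree at hnf
  push Not at hnf
  obtain ⟨P₁, P₂, x, hm, k, hk, hN, f1, f2'⟩ := hnf
  obtain ⟨y, hm', hp⟩ := exists_pair hG.char2 S hm
  have f2 : Free ((sy y S : Sylow 2 G) : Subgroup G) (cj y P₂) := by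
    rw [sy_coe]
    exact (Cv.free_cj y).2 f2'
  have hT2 : Typed (S : Subgroup G) P₂ := (hH.typed P₁ P₂ x hm).2
  have hT2' : Typed ((sy y S : Sylow 2 G) : Subgroup G) (cj y P₂) := by
    rw [sy_coe]
    exact typed_cj hT2 y
  rcases hT2'.cases with ⟨k', hk', hN'⟩ | ⟨k', m', hk', hm', ⟨M'⟩⟩
  · obtain ⟨F, i1, i2, i3, ⟨M⟩⟩ := hN
    obtain ⟨F', i1', i2', i3', ⟨M'⟩⟩ := hN'
    rw [show cv (S : Subgroup G) P₁ = ⊥ from f1] at M
    rw [show cv ((sy y S : Sylow 2 G) : Subgroup G) (cj y P₂) = ⊥ from f2] at M'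
    have hq : 4 ≤ Nat.card F := hz.trans (Cv.card_zc_le M ⟨0, by omega⟩)
    by_cases hc : Nat.card ↥⁅zl (S : Subgroup G) P₁, zl ((sy y S : Sylow 2 G) : Subgroup G) (cj y P₂)⁆ =
        Nat.card F
    · by_cases hb : 2 < k ∨ 2 < k'
      · exact h4 G S (sy y S) hH P₁ (cj y P₂) hp F F' k k' M M' hk hk' hb hc
      · push Not at hb
        obtain rfl : k = 2 := le_antisymm hb.1 hk
        obtain ⟨I, hI⟩ := IId.exists_ind M hp.le (hp.off hG.char2 hT2'.noOver)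
        obtain ⟨i, -, hi⟩ := hI.eq_line (hp.le.trans hm.star₁.le) hc
        by_cases hd : 2 ∣ (IId.stab M i).relIndex (normalizer (IId.line M i : Set G))
        · exact h5 G S (sy y S) hH P₁ (cj y P₂) hp F F' k' M M' hk' hb.2 i hi hd
        · exact (h7 G S (sy y S) hH P₁ (cj y P₂) hp F F' k' M M' hk' hb.2 i hi hd hq).elim
    · exact (h3 G S (sy y S) hH P₁ (cj y P₂) hp F F' k k' M M' hk hk' hc).elim
  · exfalso
    obtain ⟨ε, hL⟩ := SwCv.exists_lb hG.char2 (sy y S) hp.star' (by omega) (by omega) M'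
    have h1 := zc_le_two hG.char2 hp.star' hL (by omega) hm' f2
    have h2 : Nat.card (zc ((sy y S : Sylow 2 G) : Subgroup G)) = Nat.card (zc (S : Subgroup G)) := by
      refine Half.card_zc_of_card_eq S (sy y S).isPGroup' ?_
      rw [S.card_eq_multiplicity, (sy y S).card_eq_multiplicity]
    omega

/-! ### The cut -/

/-- **`SwCv K` from its sockets.** -/
theorem swCv_of {K : Cls.{u}} (hTT : SwTT K) (hN1 : SwMixNatOne K) (hN2 : SwMixNat K) (hS1 : SwMixSymOne K)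
    (hS2 : SwMixSym K) (hPair : TTPair K) (hU : NatUn K) (hFr : FreeFour K) : SwCv K := by
  intro G _ _ S S' hH₀ P P' hp k m hk hm ⟨M⟩ hf
  have hG := hH₀.ctx
  have hc := hG.char2
  obtain ⟨t, t'⟩ := hH₀.typed' hp
  obtain ⟨ε, hL⟩ := SwCv.exists_lb hc S hp.star (by omega) (by omega) M
  have hF := SymWrD.fOne_all hc hp.star hL (by omega) hm
  have hzz : Nat.card (zc (S' : Subgroup G)) = Nat.card (zc (S : Subgroup G)) := by
    refine Half.card_zc_of_card_eq S S'.isPGroup' ?_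
    rw [S.card_eq_multiplicity, S'.card_eq_multiplicity]
  rcases t'.cases with ⟨k', hk', F', _, _, _, ⟨N₀⟩⟩ | ⟨k', m', hk', hm', ⟨M'⟩⟩
  · -- natural partner
    obtain ⟨N, -, i, a, b, i', tn⟩ := SwCv.exists_tn hc hp t.noOver t'.noOver hL hF N₀ (by omega)
    have hD : cv (S : Subgroup G) P ≠ ⊥ ∧ cv (S' : Subgroup G) P' ≠ ⊥ := by
      by_cases h0 : cv (S : Subgroup G) P = ⊥
      · exfalso
        have h1 := zc_le_two hc hp.star hL (by omega) hm h0
        have h2 : cv (S' : Subgroup G) P' ≠ ⊥ := fun h => hf ⟨h0, h⟩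
        have h3 := NV.four_le_zc N i' h2
        omega
      · refine ⟨h0, fun h1 => ?_⟩
        have h2 := four_le_zc hL (by omega) h0
        rw [h1] at N₀
        have h3 := Cv.card_zc_le N₀ ⟨0, by omega⟩
        rw [tn.cardF] at h3
        omega
    obtain ⟨hD, hD'⟩ := hD
    by_cases hnf : NoFree (S : Subgroup G)
    swap
    · exact hFr G S hH₀ (four_le_zc hL (by omega) hD) hnf
    have hH : HypN K S := { hH₀ with nf := hnf }
    have hH' := hH.conj S'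
    by_cases hu : UnM N i'
    · exact hU G S' hH' P' F' k' N₀ N hk' tn.cardF hD' i' hu
    by_cases hpu : Pure (zl (S : Subgroup G) P) (du ε i a b)
    · exact hTT G S hH P k m M ε hL hk hm hp.star hF hD (fr_of_pure hc hp.star hL (by omega) hm hF tn.ne hpu)
    rcases Nat.lt_or_ge k' 2 with h2 | h2
    · obtain rfl : k' = 1 := by omega
      exact hN1 G S S' hH P P' k m M ε hL hk hm hF hD hD' F' N i a b i' tn hpu hu
    · exact hN2 G S S' hH P P' k m M ε hL hk hm hF hD hD' F' k' N h2 (fun l => Cv.SymD.hC_two N tn.cardF l) i a b i' tn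
        hpu hu
  · -- partner of type `S_{2^m'+1}`
    obtain ⟨ε', hL'⟩ := SwCv.exists_lb hc S' hp.star' (by omega) (by omega) M'
    have hF' := SymWrD.fOne_all hc hp.star' hL' (by omega) hm'
    obtain ⟨i, a, b, i', a', b', tt⟩ := SwCv.exists_tt' hc hp t.noOver t'.noOver hL hL' hF hF'
    have hD : cv (S : Subgroup G) P ≠ ⊥ ∧ cv (S' : Subgroup G) P' ≠ ⊥ := by
      by_cases h0 : cv (S : Subgroup G) P = ⊥
      · exfalso
        have h1 := zc_le_two hc hp.star hL (by omega) hm h0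
        have h2 : cv (S' : Subgroup G) P' ≠ ⊥ := fun h => hf ⟨h0, h⟩
        have h3 := four_le_zc hL' (by omega) h2
        omega
      · refine ⟨h0, fun h1 => ?_⟩
        have h2 := four_le_zc hL (by omega) h0
        have h3 := zc_le_two hc hp.star' hL' (by omega) hm' h1
        omega
    obtain ⟨hD, hD'⟩ := hD
    by_cases hnf : NoFree (S : Subgroup G)
    swap
    · exact hFr G S hH₀ (four_le_zc hL (by omega) hD) hnf
    have hH : HypN K S := { hH₀ with nf := hnf }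
    have hH' := hH.conj S'
    by_cases hpu : Pure (zl (S : Subgroup G) P) (du ε i a b)
    · exact hTT G S hH P k m M ε hL hk hm hp.star hF hD (fr_of_pure hc hp.star hL (by omega) hm hF tt.ne hpu)
    by_cases hpu' : Pure (zl (S' : Subgroup G) P') (du ε i a b)
    · rw [tt.eq] at hpu'
      rcases Nat.lt_or_ge k' 2 with h2 | h2
      · obtain rfl : k' = 1 := by omega
        obtain ⟨g, hg⟩ := mutual_of_pure hc hp.star' hL' (by omega) hm' hF' tt.ne' hpu'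
        exact hPair G hH'.ctx hH'.cls S' hH'.full hH'.allIn hH'.typed P' P' g hg (fun hf' => hD' hf'.1) m' m' hm' hm'
          ⟨M'⟩ ⟨M'⟩
      · exact hTT G S' hH' P' k' m' M' ε' hL' h2 hm' hp.star' hF' hD'
          (fr_of_pure hc hp.star' hL' (by omega) hm' hF' tt.ne' hpu')
    rcases Nat.lt_or_ge k' 2 with h2 | h2
    · obtain rfl : k' = 1 := by omega
      exact hS1 G S S' hH P P' k m m' M M' ε ε' hL hL' hk hm hm' hF hF' hD hD' i a b i' a' b' tt hpu hpu'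
    · exact hS2 G S S' hH P P' k m k' m' M M' ε ε' hL hL' hk hm h2 hm' hF hF' hD hD' i a b i' a' b' tt hpu hpu'

end Cfsg.Agent.Omega.IId.SwCvC

end

section


/-!
# II.d, `SwCv K`: the mixed sockets from ONE statement `SwMixW` (helper48's MIX-W) (helper79)

`SwMixW K` : `P` over `S` with `k ≥ 2` factors `S_{2^m+1}`, `D ≠ 1`, F1, `n = {a,b}` a duad, `W₀ ≤ S` a four-group with
`n ∈ W₀ ≤ O₂(C_G(n))`, `[O₂(C_G(n)), W₀] ≤ ⟨n⟩`, `N_G(W₀)` transitive on `W₀#`, an element of `W₀` acts on `V_P` as `(a b)`,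
`W₀` and `V_P` commute with all their conjugates under `C_G(n)`.

* natural partner (any `k'`): `W₀ = fac N i'` : `mixNatOne_of`, `mixNat_of`;
* partner of type `S_{2^m'+1}` (any `k'`): `W₀ = {1, n, a'0, b'0}` : `mixSymOne_of`, `mixSym_of`.
-/

set_option autoImplicit false
set_option linter.unusedSectionVars false

namespace Cfsg.Agent.Omega.IId.SwCvC

open Subgroup Pointwise Cfsg
open Cfsg.Agent.ZN.ChoiceBase hiding mem_zc
open Cfsg.Agent.ZN (o2 zc zl)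
open Cfsg.Agent.Omega.MinPar Cfsg.Agent.Omega.Frame Cfsg.Agent.Omega.FFThm Cfsg.Agent.Omega.FrameMulti
open Cfsg.Agent.Omega.FrameFF (cv Free)
open Cfsg.Agent.Omega.HOne.Main (vx)
open Cfsg.Agent.Omega.IId.SwCv (Lb du FOne TT TN)
open Cfsg.Agent.Omega.IId.SwCv.Lb (SwA)
open Cfsg.Agent.Omega.IId.Cv (HypN UnM)
open Cfsg.Agent.Omega.HT.LineOf (Ln dd ln)
open scoped commutatorElement

universe u

/-- **MIX-W** (helper48): the mixed case, any partner. -/
def SwMixW (K : Cls.{u}) : Prop :=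
  ∀ (G : Type u) [Group G] [Finite G] (S : Sylow 2 G), HypN K S → ∀ (P : Subgroup G) (k m : ℕ)
    (M : SymK (S : Subgroup G) P (zl (S : Subgroup G) P) (cv (S : Subgroup G) P) k m)
    (ε : Fin k → (Fin (2 ^ m + 1) → ZMod 2) → G), Lb M ε → 2 ≤ k → 2 ≤ m → IsParS (S : Subgroup G) P →
      FOne M ε → cv (S : Subgroup G) P ≠ ⊥ →
      ∀ (i : Fin k) (a b : Fin (2 ^ m + 1)), a ≠ b → ∀ W₀ : Subgroup G, Nat.card W₀ = 4 → W₀ ≤ (S : Subgroup G) →
        du ε i a b ∈ W₀ → W₀ ≤ o2 (centralizer ({du ε i a b} : Set G)) →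
        (∀ x ∈ o2 (centralizer ({du ε i a b} : Set G)), ∀ w ∈ W₀, ⁅x, w⁆ = 1 ∨ ⁅x, w⁆ = du ε i a b) →
        (∀ u ∈ W₀, ∀ v ∈ W₀, u ≠ 1 → v ≠ 1 → ∃ g ∈ normalizer (W₀ : Set G), g * u * g⁻¹ = v) →
        (∃ w ∈ W₀, SwA M w i a b) →
        (∀ g ∈ centralizer ({du ε i a b} : Set G), ∀ u ∈ W₀, ∀ v ∈ W₀, u * (g * v * g⁻¹) = g * v * g⁻¹ * u) →
        ¬ Pure (zl (S : Subgroup G) P) (du ε i a b) → IsKnownSimple' G

/-! ### Natural partners -/

section nat

variable {K : Cls.{u}} {G : Type u} [Group G] [Finite G] {S S' : Sylow 2 G} {P P' : Subgroup G} {k m : ℕ}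
  {M : SymK (S : Subgroup G) P (zl (S : Subgroup G) P) (cv (S : Subgroup G) P) k m}
  {ε : Fin k → (Fin (2 ^ m + 1) → ZMod 2) → G} {F' : Type} [Field F'] [Finite F'] [CharP F' 2] {V' D' : Subgroup G}
  {k' : ℕ} {N : NatD F' S' P' V' D' k'} {i : Fin k} {a b : Fin (2 ^ m + 1)} {i' : Fin k'}

theorem nat_known (hW : SwMixW K) (hH : HypN K S) (hL : Lb M ε) (hk : 2 ≤ k) (hm : 2 ≤ m) (hF : FOne M ε)
    (hD : cv (S : Subgroup G) P ≠ ⊥) (hC : ∀ l, NV.QL N l ≤ (S' : Subgroup G)) (t : TN S S' P P' M ε N i a b i')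
    (hp : ¬ Pure (zl (S : Subgroup G) P) (du ε i a b)) (hu : ¬ UnM N i') : IsKnownSimple' G := by
  have hN := t.normalizer_line hL
  have hQ : NV.QL N i' = o2 (centralizer ({du ε i a b} : Set G)) := by rw [NV.QL, hN]
  have hfV : NV.fac N.toNatV i' ≤ zl (S' : Subgroup G) P' := (NV.fac_le _ _).trans N.V_le
  have hline := t.mem_line
  refine hW G S hH P k m M ε hL hk hm t.pair.star hF hD i a b t.ne (NV.fac N.toNatV i') ?_ (hfV.trans t.pair.le)
    (NV.line_le _ _ ((hline _).2 (Or.inr rfl))) ?_ ?_ ?_ ?_ ?_ hp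
  · rw [NV.card_fac, t.cardF]; norm_num
  · rw [← hQ]
    exact NV.fac_le_QL_self N hC i'
  · intro x hx w hw
    rw [← hQ] at hx
    have h1 := NV.comm_QL N hC hx (hfV hw)
    exact (hline _).1 h1
  · intro u hu v hv hu1 hv1
    obtain ⟨g, hg, e⟩ := NV.exists_grp N.toNatV hu hv hu1 hv1
    exact ⟨g, NV.grp_normalizes N.toNatV {i'} {i'} hg, e⟩
  · obtain ⟨w, hw, he⟩ := NV.exists_fac N.toNatV i' ![0, 1]
    exact ⟨w, hw, t.sw w hw (by rw [he]; exact one_ne_zero)⟩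
  · intro g hg u hu' v hv
    by_contra hne
    rw [← hN] at hg
    exact hu ⟨g, hg, u, hu', v, hv, hne⟩

end nat

theorem mixNatOne_of {K : Cls.{u}} (hW : SwMixW K) : SwMixNatOne K := by
  intro G _ _ S S' hH P P' k m M ε hL hk hm hF hD _ F' _ _ _ N i a b i' t hp hu
  exact nat_known hW hH hL hk hm hF hD (fun l => NV.hC_one N l) t hp hu

theorem mixNat_of {K : Cls.{u}} (hW : SwMixW K) : SwMixNat K := by
  intro G _ _ S S' hH P P' k m M ε hL hk hm hF hD _ F' _ _ _ k' N _ hC i a b i' t hp hu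
  exact nat_known hW hH hL hk hm hF hD hC t hp hu

/-! ### Partners of type `S_{2^m'+1}` -/

section gen

variable {G : Type u} [Group G] {a b : G}

theorem card_ln (h : Ln a b) : Nat.card (ln h) = 4 := by
  have h1 : (ln h : Set G) = {1, a, b, a * b} := by
    ext x
    constructor
    · rintro (rfl | ⟨i, rfl⟩)
      · simp
      · (revert i; simp only [dd, _root_.Fin.forall_fin_succ, _root_.Set.mem_insert_iff, _root_.Set.mem_singleton_iff, Fin.isValue, _root_.Matrix.cons_val_zero, _root_.left_eq_mul, _root_.true_or, _root_.or_true, _root_.Matrix.cons_val_succ, _root_.right_eq_mul, _root_.Matrix.cons_val_fin_one, _root_.mul_eq_left, _root_.mul_eq_right, _root_.implies_true, _root_.and_self])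
    · rintro (rfl | rfl | rfl | rfl)
      · exact one_mem _
      · exact h.dd_mem 0
      · exact h.dd_mem 1
      · exact h.dd_mem 2
  have h2 : Nat.card (ln h) = (ln h : Set G).ncard := Nat.card_coe_set_eq _
  rw [h2, h1]
  rw [Set.ncard_insert_of_notMem, Set.ncard_insert_of_notMem, Set.ncard_pair h.b_ab]
  · rintro (e | e)
    · exact h.ne e
    · exact h.a_ab e
  · rintro (e | e | e)
    · exact h.a1 e.symm
    · exact h.b1 e.symm
    · exact h.ab1 e.symm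

theorem mem_ln_iff (h : Ln a b) {x : G} : x ∈ ln h ↔ x = 1 ∨ x = a ∨ x = b ∨ x = a * b := by
  constructor
  · rintro (rfl | ⟨i, rfl⟩)
    · simp
    · (revert i; simp only [dd, _root_.Fin.forall_fin_succ, Fin.isValue, _root_.Matrix.cons_val_zero, _root_.left_eq_mul, _root_.true_or, _root_.or_true, _root_.Matrix.cons_val_succ, _root_.right_eq_mul, _root_.Matrix.cons_val_fin_one, _root_.mul_eq_left, _root_.mul_eq_right, _root_.implies_true, _root_.and_self])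
  · rintro (rfl | rfl | rfl | rfl)
    · exact one_mem _
    · exact h.dd_mem 0
    · exact h.dd_mem 1
    · exact h.dd_mem 2

end gen

section sym

variable {K : Cls.{u}} {G : Type u} [Group G] [Finite G] {S S' : Sylow 2 G} {P P' : Subgroup G} {k m k' m' : ℕ}
  {M : SymK (S : Subgroup G) P (zl (S : Subgroup G) P) (cv (S : Subgroup G) P) k m}
  {M' : SymK (S' : Subgroup G) P' (zl (S' : Subgroup G) P') (cv (S' : Subgroup G) P') k' m'}
  {ε : Fin k → (Fin (2 ^ m + 1) → ZMod 2) → G} {ε' : Fin k' → (Fin (2 ^ m' + 1) → ZMod 2) → G}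
  {i : Fin k} {a b : Fin (2 ^ m + 1)} {i' : Fin k'} {a' b' : Fin (2 ^ m' + 1)}

/-- `{a,c}`, `{b,c}` as two distinct involutions -/
theorem ln_du (hL : Lb M ε) {a b c : Fin (2 ^ m + 1)} (hab : a ≠ b) (hac : a ≠ c) (hbc : b ≠ c) :
    Ln (du ε i a c) (du ε i b c) where
  aa := hL.du_mul_self i a c
  bb := hL.du_mul_self i b c
  comm := hL.comm _ (hL.du_mem i a c) _ (hL.du_mem i b c)
  a1 := hL.du_ne_one hac
  b1 := hL.du_ne_one hbc
  ne := fun e => by
    have h1 := hL.du_mul i a b c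
    rw [e, hL.du_mul_self] at h1
    exact hL.du_ne_one hab h1.symm

/-- the permutations of `{a, b, c}` -/
theorem nor_ln (hL : Lb M ε) {a b c : Fin (2 ^ m + 1)} (hab : a ≠ b) (hac : a ≠ c) (hbc : b ≠ c)
    {τ : Equiv.Perm (Fin (2 ^ m + 1))} (hτ : ∀ x, x = a ∨ x = b ∨ x = c → τ x = a ∨ τ x = b ∨ τ x = c) :
    ∃ g ∈ normalizer (ln (ln_du (i := i) hL hab hac hbc) : Set G), ∀ x y,
      g * du ε i x y * g⁻¹ = du ε i (τ x) (τ y) := by
  classical
  obtain ⟨g, hg, hact, -⟩ := M.lift (Function.update 1 i τ)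
  have key : ∀ x y, g * du ε i x y * g⁻¹ = du ε i (τ x) (τ y) := by
    intro x y
    have h1 := hL.conj_du hg hact i x y
    rw [Function.update_self] at h1
    exact h1
  refine ⟨g, ?_, key⟩
  have hmem : ∀ x y, (x = a ∨ x = b ∨ x = c) → (y = a ∨ y = b ∨ y = c) →
      du ε i x y ∈ ln (ln_du (i := i) hL hab hac hbc) := by
    have e1 := hL.du_mul i a b c
    have hself : ∀ x, du ε i x x = 1 := fun x => by
      have h2 := hL.du_mul i x x c
      rw [hL.du_mul_self] at h2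
      exact h2.symm
    rintro x y (rfl | rfl | rfl) (rfl | rfl | rfl) <;> rw [mem_ln_iff]
    · left; exact hself _
    · right; right; right; exact e1.symm
    · right; left; rfl
    · right; right; right; rw [Lb.du_comm]; exact e1.symm
    · left; exact hself _
    · right; right; left; rfl
    · right; left; exact Lb.du_comm _ _ _
    · right; right; left; exact Lb.du_comm _ _ _
    · left; exact hself _
  refine Cfsg.Agent.Omega.BTwo.mem_normalizer_of_conj fun x hx => ?_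
  rcases (mem_ln_iff _).1 hx with rfl | rfl | rfl | rfl
  · rw [mul_one, mul_inv_cancel]; exact one_mem _
  · rw [key]
    exact hmem _ _ (hτ _ (Or.inl rfl)) (hτ _ (Or.inr (Or.inr rfl)))
  · rw [key]
    exact hmem _ _ (hτ _ (Or.inr (Or.inl rfl))) (hτ _ (Or.inr (Or.inr rfl)))
  · rw [hL.du_mul, key]
    exact hmem _ _ (hτ _ (Or.inl rfl)) (hτ _ (Or.inr (Or.inl rfl)))

theorem sym_known (hW : SwMixW K) (hH : HypN K S) (hL : Lb M ε) (hL' : Lb M' ε') (hk : 2 ≤ k) (hm : 2 ≤ m)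
    (hF : FOne M ε) (hF' : FOne M' ε') (hD : cv (S : Subgroup G) P ≠ ⊥)
    (t : TT S S' P P' M M' ε ε' i a b i' a' b') (hp : ¬ Pure (zl (S : Subgroup G) P) (du ε i a b))
    (hp' : ¬ Pure (zl (S' : Subgroup G) P') (du ε i a b)) : IsKnownSimple' G := by
  classical
  have hVS' : zl (S : Subgroup G) P ≤ (S' : Subgroup G) := t.pair.le'
  obtain ⟨v₀, hv₀, hs⟩ := t.sw'
  -- `0` is none of `a'`, `b'`
  have h0 : Equiv.swap a' b' 0 = 0 := by
    have h1 := M'.fix0 v₀ (hVS' hv₀) _ _ hs i'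
    rwa [Function.update_self] at h1
  have ha0 : a' ≠ 0 := by
    intro e
    rw [e, Equiv.swap_apply_left] at h0
    exact t.ne' (e.trans h0.symm)
  have hb0 : b' ≠ 0 := by
    intro e
    rw [e, Equiv.swap_apply_right] at h0
    exact t.ne' (h0.trans e.symm)
  have hln := ln_du (i := i') hL' t.ne' ha0 hb0
  have hWV : ln hln ≤ zl (S' : Subgroup G) P' := by
    intro x hx
    rcases (mem_ln_iff _).1 hx with rfl | rfl | rfl | rfl
    · exact one_mem _
    · exact hL'.du_mem _ _ _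
    · exact hL'.du_mem _ _ _
    · exact mul_mem (hL'.du_mem _ _ _) (hL'.du_mem _ _ _)
  have hn : du ε i a b ∈ ln hln := by
    rw [t.eq, mem_ln_iff]
    right; right; right
    exact (hL'.du_mul i' a' b' 0).symm
  refine hW G S hH P k m M ε hL hk hm t.pair.star hF hD i a b t.ne (ln hln) (card_ln _) (hWV.trans t.pair.le) hn
    ?_ ?_ ?_ ?_ ?_ hp
  · rw [t.eq]
    exact hWV.trans (hF'.le i' a' b' t.ne')
  · rw [t.eq]
    intro x hx w hw
    exact hF'.comm i' a' b' t.ne' x hx w (hWV hw)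
  · -- transitivity
    have hm1 : ∀ {x y z : Fin (2 ^ m' + 1)}, (x = a' ∨ x = b' ∨ x = 0) → (y = a' ∨ y = b' ∨ y = 0) →
        (z = a' ∨ z = b' ∨ z = 0) → Equiv.swap x y z = a' ∨ Equiv.swap x y z = b' ∨ Equiv.swap x y z = 0 := by
      intro x y z hx hy hz
      rcases eq_or_ne z x with e | e
      · rw [e, Equiv.swap_apply_left]; exact hy
      rcases eq_or_ne z y with e' | e'
      · rw [e', Equiv.swap_apply_right]; exact hx
      · rw [Equiv.swap_apply_of_ne_of_ne e e']; exact hz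
    obtain ⟨g₁, hg₁, e₁⟩ := nor_ln (i := i') hL' t.ne' ha0 hb0 (τ := Equiv.swap a' b') fun x hx =>
      hm1 (Or.inl rfl) (Or.inr (Or.inl rfl)) hx
    obtain ⟨g₂, hg₂, e₂⟩ := nor_ln (i := i') hL' t.ne' ha0 hb0 (τ := Equiv.swap 0 b') fun x hx =>
      hm1 (Or.inr (Or.inr rfl)) (Or.inr (Or.inl rfl)) hx
    obtain ⟨g₃, hg₃, e₃⟩ := nor_ln (i := i') hL' t.ne' ha0 hb0 (τ := Equiv.swap 0 a') fun x hx =>
      hm1 (Or.inr (Or.inr rfl)) (Or.inl rfl) hx
    -- the three points: `A = {a',0}`, `B = {b',0}`, `C = {a',b'}`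
    have eab : g₁ * du ε' i' a' 0 * g₁⁻¹ = du ε' i' b' 0 := by
      rw [e₁, Equiv.swap_apply_left, h0]
    have eac : g₂ * du ε' i' a' 0 * g₂⁻¹ = du ε' i' a' b' := by
      rw [e₂, Equiv.swap_apply_left, Equiv.swap_apply_of_ne_of_ne ha0 t.ne']
    have ebc : g₃ * du ε' i' b' 0 * g₃⁻¹ = du ε' i' a' b' := by
      rw [e₃, Equiv.swap_apply_left, Equiv.swap_apply_of_ne_of_ne hb0 t.ne'.symm, Lb.du_comm]
    have hback : ∀ {g u v : G}, g ∈ normalizer (ln hln : Set G) → g * u * g⁻¹ = v →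
        ∃ g ∈ normalizer (ln hln : Set G), g * v * g⁻¹ = u := by
      intro g u v hg e
      exact ⟨g⁻¹, inv_mem hg, by rw [← e]; group⟩
    have hone : ∀ u : G, ∃ g ∈ normalizer (ln hln : Set G), g * u * g⁻¹ = u := fun u => ⟨1, one_mem _, by group⟩
    have hC := hL'.du_mul i' a' b' 0
    intro u hu v hv hu1 hv1
    rcases (mem_ln_iff _).1 hu with rfl | rfl | rfl | rfl
    · exact absurd rfl hu1
    · rcases (mem_ln_iff _).1 hv with rfl | rfl | rfl | rfl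
      · exact absurd rfl hv1
      · exact hone _
      · exact ⟨g₁, hg₁, eab⟩
      · exact ⟨g₂, hg₂, eac.trans hC.symm⟩
    · rcases (mem_ln_iff _).1 hv with rfl | rfl | rfl | rfl
      · exact absurd rfl hv1
      · exact hback hg₁ eab
      · exact hone _
      · exact ⟨g₃, hg₃, ebc.trans hC.symm⟩
    · rcases (mem_ln_iff _).1 hv with rfl | rfl | rfl | rfl
      · exact absurd rfl hv1
      · exact hback hg₂ (eac.trans hC.symm)
      · exact hback hg₃ (ebc.trans hC.symm)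
      · exact hone _
  · refine ⟨du ε' i' a' 0, (mem_ln_iff _).2 (Or.inr (Or.inl rfl)), ?_⟩
    refine (t.act _ (hL'.du_mem _ _ _)).resolve_left fun hcon => ?_
    -- `v₀` moves `{a', 0}`
    have h1 := hL'.conj_du (hL'.TH (hVS' hv₀)) hs i' a' 0
    rw [Function.update_self, Equiv.swap_apply_left, h0] at h1
    have h2 : v₀ * du ε' i' a' 0 * v₀⁻¹ = du ε' i' a' 0 := by
      rw [← hcon v₀ hv₀]; group
    exact hln.ne (h2.symm.trans h1)
  · intro g hg u hu v hv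
    by_contra hne
    exact hp' ⟨g, hg, u, hWV hu, v, hWV hv, hne⟩

end sym

theorem mixSymOne_of {K : Cls.{u}} (hW : SwMixW K) : SwMixSymOne K := by
  intro G _ _ S S' hH P P' k m m' M M' ε ε' hL hL' hk hm _ hF hF' hD _ i a b i' a' b' t hp hp'
  exact sym_known hW hH hL hL' hk hm hF hF' hD t hp hp'

theorem mixSym_of {K : Cls.{u}} (hW : SwMixW K) : SwMixSym K := by
  intro G _ _ S S' hH P P' k m k' m' M M' ε ε' hL hL' hk hm _ _ hF hF' hD _ i a b i' a' b' t hp hp'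
  exact sym_known hW hH hL hL' hk hm hF hF' hD t hp hp'

/-- **`SwCv K` from T-T and MIX-W.** -/
theorem swCv_of' {K : Cls.{u}} (hTT : SwTT K) (hW : SwMixW K) (hPair : Cv.TTPair K) (hU : NatUn K)
    (hFr : FreeFour K) : SwCv K :=
  swCv_of hTT (mixNatOne_of hW) (mixNat_of hW) (mixSymOne_of hW) (mixSym_of hW) hPair hU hFr

end Cfsg.Agent.Omega.IId.SwCvC

end

end

-- merged: Cfsg.Agent.Mrg.Omega.IId.SwCv.NatM.Blk
section

/-!
# `u` commutes with the stabiliser of the block `i` (helper48 #20133 (7), first half)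

`n = {a, b}`, `u` is centralised by `C_H(n)` and by elements inducing `(a o)` and `(b o)` : then by every element of
`H` fixing the block `i`.
-/

set_option autoImplicit false
set_option linter.unusedSectionVars false

namespace Cfsg.Agent.Omega.IId.SwCv.NatM

open Subgroup Cfsg Cfsg.Agent.Omega.FFThm
open Lb (SwA)

universe u

variable {G : Type u} [Group G] {T H V D : Subgroup G} {k m : ℕ} {M : SymK T H V D k m}
  {ε : Fin k → (Fin (2 ^ m + 1) → ZMod 2) → G} (h : Lb M ε)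
include h

/-- the image of a duad under a transposition -/
theorem sw_du {y : G} (hy : y ∈ H) {i : Fin k} {c d : Fin (2 ^ m + 1)} (hs : SwA M y i c d)
    (x z : Fin (2 ^ m + 1)) :
    y * du ε i x z * y⁻¹ = du ε i (Equiv.swap c d x) (Equiv.swap c d z) := by
  have h1 := h.conj_du hy hs i x z
  rw [Function.update_self] at h1
  exact h1

/-- a duad determines its block and its points -/
theorem du_inj {j i : Fin k} {x y c d : Fin (2 ^ m + 1)} (hxy : x ≠ y) (hcd : c ≠ d)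
    (he : du ε j x y = du ε i c d) : j = i ∧ ((x = c ∧ y = d) ∨ (x = d ∧ y = c)) := by
  have h1 := h.e_du j x y
  rw [he, h.e_du] at h1
  have hji : j = i := by
    by_contra hne
    have h2 := congrFun (congrFun h1 i) c
    rw [Pi.single_eq_same, Pi.single_eq_of_ne (Ne.symm hne), Pi.add_apply, Pi.single_eq_same,
      Pi.single_eq_of_ne hcd, add_zero] at h2
    exact one_ne_zero h2
  subst hji
  refine ⟨rfl, ?_⟩
  have h2 : ∀ z, (Pi.single c 1 + Pi.single d 1 : Fin (2 ^ m + 1) → ZMod 2) z =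
      (Pi.single x 1 + Pi.single y 1 : Fin (2 ^ m + 1) → ZMod 2) z := by
    intro z
    have h3 := congrFun (congrFun h1 j) z
    rwa [Pi.single_eq_same, Pi.single_eq_same] at h3
  have key : ∀ p q r s : Fin (2 ^ m + 1), p ≠ q → (∀ z, (Pi.single p 1 + Pi.single q 1 : Fin (2 ^ m + 1) → ZMod 2) z =
      (Pi.single r 1 + Pi.single s 1 : Fin (2 ^ m + 1) → ZMod 2) z) → p = r ∨ p = s := by
    intro p q r s hpq hh
    by_contra hcon
    push Not at hcon
    have h4 := hh p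
    rw [Pi.add_apply, Pi.add_apply, Pi.single_eq_same, Pi.single_eq_of_ne hpq, Pi.single_eq_of_ne hcon.1,
      Pi.single_eq_of_ne hcon.2, add_zero, add_zero] at h4
    exact one_ne_zero h4
  have hx := key x y c d hxy fun z => (h2 z).symm
  have hy := key y x c d (Ne.symm hxy) fun z => by rw [h2 z, add_comm]
  rcases hx with hx | hx <;> rcases hy with hy | hy
  · exact absurd (hx.trans hy.symm) hxy
  · exact Or.inl ⟨hx, hy⟩
  · exact Or.inr ⟨hx, hy⟩
  · exact absurd (hx.trans hy.symm) hxy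

end Cfsg.Agent.Omega.IId.SwCv.NatM

end

-- merged: Cfsg.Agent.Mrg.Omega.IId.SwCv.NatM.MixW
section

/-!
# THEOREM MIX-W (helper48): the mixed case for a member of type `(S_{2^m+1})^k`, every partner

`M : SymK T H V D k m` with labels and F1 (`FOne`), `n = {a, b}` a duad of the summand `i`, `C = C_G(n)`, `Q = O₂(C)`.
`V₁ ≤ Q` a four-group, `n ∈ V₁`, `N_G(V₁)` transitive on `V₁#`, some element of `V₁` acts on `V` as `(a b)`.
If some 2-group `T'` of odd index in `C` satisfies `[b₀, T'] ≤ ⟨n⟩`, `b₀ = {a, o}`, then `⟨V₁^C⟩` and `⟨V^C⟩` are not both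
abelian: `mix_w`.
-/

set_option autoImplicit false
set_option linter.unusedSectionVars false

namespace Cfsg.Agent.Omega.IId.SwCv.NatM

open Subgroup Cfsg Cfsg.Agent.Omega.FFThm
open Cfsg.Agent.ZN (o2)
open Lb (SwA)
open Cfsg.Agent.Omega.IId.NV (clC le_clC clC_conj clC_le clC_comm clC_sq conj_mem_clC)
open Cfsg.Agent.Omega.IId.One (Kk mem_Kk le_normalizer_Kk)
open Cfsg.Agent.MinSimple.VModule (o2_isPGroup o2_le le_normalizer_o2)
open scoped commutatorElement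

universe u

variable {G : Type u} [Group G] [Finite G] {T H V D : Subgroup G} {k m : ℕ} {M : SymK T H V D k m}
  {ε : Fin k → (Fin (2 ^ m + 1) → ZMod 2) → G} (h : Lb M ε) (hF : FOne M ε)
include h hF

omit [Finite G] in
/-- `V ≤ K_n` -/
theorem V_le_Kk {i : Fin k} {a b : Fin (2 ^ m + 1)} (hab : a ≠ b) : V ≤ Kk (du ε i a b) := by
  intro v hv
  refine mem_Kk.2 ⟨o2_le _ (hF.le i a b hab hv), fun x hx => ?_⟩
  have h1 := hF.comm i a b hab x hx v hv
  have h2 : v * x * v⁻¹ * x⁻¹ = ⁅x, v⁆⁻¹ := by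
    rw [commutatorElement_def]; group
  rw [h2]
  apply inv_mem
  rcases h1 with h1 | h1
  · rw [h1]; exact one_mem _
  · rw [h1]; exact mem_zpowers _

/-- **THEOREM MIX-W** -/
theorem mix_w {i : Fin k} {a b o : Fin (2 ^ m + 1)} (hab : a ≠ b) (hoa : o ≠ a) (hob : o ≠ b) (hm : 2 ≤ m)
    {V₁ : Subgroup G} (hV4 : Nat.card V₁ = 4) (hVsq : ∀ v ∈ V₁, v * v = 1) (hnV : du ε i a b ∈ V₁)
    (hVt : ∀ v ∈ V₁, v ≠ 1 → ∃ g ∈ normalizer (V₁ : Set G), g * du ε i a b * g⁻¹ = v)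
    (hVQ : V₁ ≤ o2 (centralizer ({du ε i a b} : Set G))) (hmove : ∃ v ∈ V₁, v ∈ H ∧ SwA M v i a b)
    (hW₁ : ∀ g ∈ centralizer ({du ε i a b} : Set G), ∀ v ∈ V₁, ∀ w ∈ V₁, v * (g * w * g⁻¹) = g * w * g⁻¹ * v)
    (hW : ∀ g ∈ centralizer ({du ε i a b} : Set G), ∀ v ∈ V, ∀ w ∈ V, v * (g * w * g⁻¹) = g * w * g⁻¹ * v)
    {T' : Subgroup G} (hT : T' ≤ centralizer ({du ε i a b} : Set G))
    (hodd : ¬ 2 ∣ T'.relIndex (centralizer ({du ε i a b} : Set G)))
    (hbT : ∀ t ∈ T', du ε i a o * t * (du ε i a o)⁻¹ * t⁻¹ ∈ zpowers (du ε i a b)) : False := by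
  set n := du ε i a b with hn
  set C := centralizer ({n} : Set G) with hC
  have hnn : n * n = 1 := h.du_mul_self i a b
  have hn1 : n ≠ 1 := h.du_ne_one hab
  have hVle : V ≤ o2 C := hF.le i a b hab
  have hCn : ∀ g : G, g * n = n * g → g ∈ C := fun g hg => mem_centralizer_singleton_iff.2 hg
  set W₁ := clC C V₁ with hW₁def
  set W' := clC C V with hW'def
  have hCQ : C ≤ normalizer (o2 C : Set G) := le_normalizer_o2 _
  have hW₁Q : W₁ ≤ o2 C := clC_le hCQ hVQ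
  have hW'Q : W' ≤ o2 C := clC_le hCQ hVle
  have hW'K : W' ≤ Kk n := clC_le (le_normalizer_Kk n) (V_le_Kk h hF hab)
  have W₁_comm : ∀ x ∈ W₁, ∀ y ∈ W₁, x * y = y * x := clC_comm hW₁
  have W₁_sq : ∀ x ∈ W₁, x * x = 1 := clC_sq hW₁ hVsq
  have W'_comm : ∀ x ∈ W', ∀ y ∈ W', x * y = y * x := clC_comm hW
  have W'_sq : ∀ x ∈ W', x * x = 1 := clC_sq hW fun v hv => h.mul_self hv
  have hV₁W : V₁ ≤ W₁ := le_clC
  have hVW : V ≤ W' := le_clC
  have hmemR : ∀ g, g ∈ zpowers n ↔ g = 1 ∨ g = n := fun g => MixAny.mem_zp hnn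
  have comm1 : ∀ c ∈ o2 C, ∀ y ∈ W', c * y * c⁻¹ * y⁻¹ = 1 ∨ c * y * c⁻¹ * y⁻¹ = n := by
    intro c hc y hy
    rw [← hmemR]
    have h1 := (mem_Kk.1 (hW'K hy)).2 c hc
    have e : c * y * c⁻¹ * y⁻¹ = (y * c * y⁻¹ * c⁻¹)⁻¹ := by group
    rw [e]; exact inv_mem h1
  obtain ⟨v₀, hv₀, hv₀H, hvs⟩ := hmove
  -- duads `{a, c}` move `V₁`
  have move : ∀ c, c ≠ a → c ≠ b → ¬ ∀ v ∈ V₁, du ε i a c * v = v * du ε i a c := by
    intro c hca hcb hall
    have h1 := hall v₀ hv₀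
    have h2 := sw_du h hv₀H hvs a c
    rw [← h1, mul_inv_cancel_right, Equiv.swap_apply_left, Equiv.swap_apply_of_ne_of_ne hca hcb] at h2
    rcases (du_inj h (Ne.symm hca) (Ne.symm hcb) h2).2 with ⟨h3, -⟩ | ⟨h3, -⟩
    · exact hab h3
    · exact hca h3.symm
  have hdW' : ∀ x y, du ε i x y ∈ W' := fun x y => hVW (h.du_mem i x y)
  -- the node at `V₁`
  have N1 : MixAny.Node V₁ W' W₁ n :=
    { card := hV4
      sq := hVsq
      n_mem := hnV
      n_ne := hn1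
      trans := hVt
      nA := fun g hg y hy => clC_conj (hCn g hg) hy
      nC := fun g hg y hy => clC_conj (hCn g hg) hy
      A_comm := W'_comm
      A_sq := W'_sq
      C_comm := W₁_comm
      C_sq := W₁_sq
      n_A := hdW' a b
      V_C := hV₁W
      CA := fun c hc y hy => comm1 c (hW₁Q hc) y hy
      move := by
        by_contra hcon
        push Not at hcon
        exact move o hoa hob fun v hv => hcon _ (hdW' a o) v hv }
  have s := N1.side
  let i₀ : MixAny.Pt V₁ := ⟨n, hnV, hn1⟩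
  have hB : MixAny.tr W' n n = W' := N1.tr_n
  have hC₁ : MixAny.tr W₁ n n = W₁ := N1.tr_n'
  have hzn : normalizer (zpowers n : Set G) = C := N1.norm_zp
  set B₀ := ⨅ x : MixAny.Pt V₁, MixAny.tr W' n x.1 with hB₀
  -- letters
  obtain ⟨x, y, z, hxa, hxb, hya, hyb, hza, hzb, hxy, hxz, hyz⟩ : ∃ x y z : Fin (2 ^ m + 1),
      x ≠ a ∧ x ≠ b ∧ y ≠ a ∧ y ≠ b ∧ z ≠ a ∧ z ≠ b ∧ x ≠ y ∧ x ≠ z ∧ y ≠ z := by
    have hc : 2 < (Finset.univ \ {a, b} : Finset (Fin (2 ^ m + 1))).card := by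
      have h1 : (Finset.univ \ {a, b} : Finset (Fin (2 ^ m + 1))).card = 2 ^ m + 1 - ({a, b} : Finset _).card := by
        rw [Finset.card_sdiff_of_subset (Finset.subset_univ _), Finset.card_univ, Fintype.card_fin]
      have h2 : ({a, b} : Finset (Fin (2 ^ m + 1))).card ≤ 2 := Finset.card_le_two
      have h3 : 4 ≤ 2 ^ m := by
        calc 4 = 2 ^ 2 := by norm_num
          _ ≤ 2 ^ m := Nat.pow_le_pow_right (by norm_num) hm
      omega
    obtain ⟨x, hx, y, hy, z, hz, h1, h2, h3⟩ := Finset.two_lt_card.1 hc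
    simp only [Finset.mem_sdiff, Finset.mem_univ, true_and, Finset.mem_insert, Finset.mem_singleton, not_or] at hx hy hz
    exact ⟨x, y, z, hx.1, hx.2, hy.1, hy.2, hz.1, hz.2, h1, h2, h3⟩
  -- duads off `n` lie in `I`
  have hI : ∀ c d, c ≠ a → c ≠ b → d ≠ a → d ≠ b →
      du ε i c d ∈ MixAny.tr W' n n ⊓ Mix.YY (MixAny.tr W' n n) (MixAny.tr W₁ n n) := by
    intro c d hca hcb hda hdb
    rw [hB, hC₁]
    have hcen : ∀ q ∈ o2 C, du ε i c d * q = q * du ε i c d := by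
      intro q hq
      refine (hF.perp i a b hab q hq _ (h.du_mem i c d) ?_).symm
      rw [h.e_du, Pi.single_eq_same, Pi.add_apply, Pi.add_apply, Pi.single_eq_of_ne (Ne.symm hca),
        Pi.single_eq_of_ne (Ne.symm hda), Pi.single_eq_of_ne (Ne.symm hcb), Pi.single_eq_of_ne (Ne.symm hdb)]
    refine mem_inf.2 ⟨hdW' c d, ?_⟩
    rw [Mix.mem_YY]
    exact ⟨fun y hy => hcen y (hW'Q hy), fun y hy => hcen y (hW₁Q hy)⟩
  -- good elements
  have good : ∀ c d e, c ≠ a → c ≠ b → d ≠ a → d ≠ b → e ≠ a → e ≠ b → c ≠ d → e ≠ c → e ≠ d → du ε i c d ∉ B₀ := by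
    intro c d e hca hcb hda hdb hea heb hcd hec hed hz
    refine MixAny.false_of_goodPt s (i := i₀) hmemR (b := du ε i a e) (z := du ε i c d) (hB.symm ▸ hdW' a e)
      (move e hea heb) hz (hF.le i c d hcd (h.du_mem i a b)) fun q hq => ?_
    refine (hF.perp i c d hcd q hq _ (h.du_mem i a e) ?_).symm
    rw [h.e_du, Pi.single_eq_same, Pi.add_apply, Pi.add_apply, Pi.single_eq_of_ne hca,
      Pi.single_eq_of_ne (Ne.symm hec), Pi.single_eq_of_ne hda, Pi.single_eq_of_ne (Ne.symm hed)]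
  -- the count
  obtain ⟨j₁, hj₁, -⟩ := s.third i₀ i₀
  have hidx : B₀.relIndex (MixAny.tr W' n n ⊓ Mix.YY (MixAny.tr W' n n) (MixAny.tr W₁ n n)) ≤ 2 ^ (0 + 1) := by
    refine MixAny.relIndex_B0_le s (i := i₀) (j := j₁) hj₁.symm ?_ (T := T') ?_ (d := 0) ?_ (b := du ε i a o)
      (hB.symm ▸ hdW' a o) (move o hoa hob) hbT
    · change Nat.card (zpowers j₁.1) = 2
      rw [Nat.card_zpowers]
      exact orderOf_eq_prime (by rw [pow_two]; exact hVsq _ j₁.2.1) j₁.2.2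
    · change T' ≤ normalizer (zpowers n : Set G)
      rw [hzn]; exact hT
    · change ¬ 2 ^ (0 + 1) ∣ T'.relIndex (normalizer (zpowers n : Set G))
      rw [hzn, zero_add, pow_one]; exact hodd
  let f : Fin 3 → G := ![1, du ε i x y, du ε i x z]
  have hfI : ∀ t, f t ∈ MixAny.tr W' n n ⊓ Mix.YY (MixAny.tr W' n n) (MixAny.tr W₁ n n) := by
    intro t
    fin_cases t
    · exact one_mem _
    · exact hI x y hxa hxb hya hyb
    · exact hI x z hxa hxb hza hzb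
  obtain ⟨s', t', hst, hq⟩ := MixAny.exists_pigeon (B₀ := B₀) f hfI (by
    refine lt_of_le_of_lt hidx ?_
    rw [Nat.card_eq_fintype_card, Fintype.card_fin]
    norm_num)
  have inv_xy : (du ε i x y)⁻¹ = du ε i x y := h.inv_eq (h.du_mem i x y)
  have inv_xz : (du ε i x z)⁻¹ = du ε i x z := h.inv_eq (h.du_mem i x z)
  have h1 : du ε i x y ∉ B₀ := good x y z hxa hxb hya hyb hza hzb hxy (Ne.symm hxz) (Ne.symm hyz)
  have h2 : du ε i x z ∉ B₀ := good x z y hxa hxb hza hzb hya hyb hxz (Ne.symm hxy) hyz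
  have h3 : du ε i y z ∉ B₀ := good y z x hya hyb hza hzb hxa hxb hyz hxy hxz
  have e3 : du ε i x y * du ε i x z = du ε i y z := by
    rw [Lb.du_comm i x y, Lb.du_comm i x z]
    exact h.du_mul i y z x
  have e4 : du ε i x z * du ε i x y = du ε i y z := by
    rw [h.comm _ (h.du_mem i x z) _ (h.du_mem i x y), e3]
  fin_cases s' <;> fin_cases t'
  · exact hst rfl
  · refine h1 ?_
    have : (f 0)⁻¹ * f 1 = du ε i x y := by change (1 : G)⁻¹ * du ε i x y = _; group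
    rw [← this]; exact hq
  · refine h2 ?_
    have : (f 0)⁻¹ * f 2 = du ε i x z := by change (1 : G)⁻¹ * du ε i x z = _; group
    rw [← this]; exact hq
  · refine h1 ?_
    have : (f 1)⁻¹ * f 0 = du ε i x y := by change (du ε i x y)⁻¹ * 1 = _; rw [inv_xy, mul_one]
    rw [← this]; exact hq
  · exact hst rfl
  · refine h3 ?_
    have : (f 1)⁻¹ * f 2 = du ε i y z := by change (du ε i x y)⁻¹ * du ε i x z = _; rw [inv_xy, e3]
    rw [← this]; exact hq
  · refine h2 ?_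
    have : (f 2)⁻¹ * f 0 = du ε i x z := by change (du ε i x z)⁻¹ * 1 = _; rw [inv_xz, mul_one]
    rw [← this]; exact hq
  · refine h3 ?_
    have : (f 2)⁻¹ * f 1 = du ε i y z := by change (du ε i x z)⁻¹ * du ε i x y = _; rw [inv_xz, e4]
    rw [← this]; exact hq
  · exact hst rfl

end Cfsg.Agent.Omega.IId.SwCv.NatM

end

-- merged: Cfsg.Agent.Mrg.Omega.IId.SwCv.CutHat
section

section


/-!
# II.d, `SwCv K`: `SwMixW K` from SYL^ (helper79)

`SylHat` (helper916, bb OMEGA #21666, partner-free form): `n = {a,b}` a duad whose transposition is induced by an element of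
`S` and by an element of `K_n = {g ∈ C_G(n) : [O₂(C_G(n)), g] ≤ ⟨n⟩}`; then a subgroup of odd index in `C_G(n)`
normalises `{a,0}⟨n⟩`.

`swMixW_of : SylHat → SwMixW K` over helper48's `mix_w`.
-/

set_option autoImplicit false
set_option linter.unusedSectionVars false

namespace Cfsg.Agent.Omega.IId.SwCvC

open Subgroup Pointwise Cfsg
open Cfsg.Agent.ZN.ChoiceBase hiding mem_zc
open Cfsg.Agent.ZN (o2 zc zl)
open Cfsg.Agent.Omega.MinPar Cfsg.Agent.Omega.Frame Cfsg.Agent.Omega.FFThm Cfsg.Agent.Omega.FrameMulti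
open Cfsg.Agent.Omega.FrameFF (cv)
open Cfsg.Agent.Omega.IId.SwCv (Lb du FOne)
open Cfsg.Agent.Omega.IId.SwCv.Lb (SwA)
open Cfsg.Agent.Omega.IId.Cv (HypN)
open Cfsg.Agent.Omega.IId.Triangle (KK mem_KK)
open scoped commutatorElement

universe u

/-- **SYL^** (helper916), partner-free. -/
def SylHat : Prop :=
  ∀ (G : Type u) [Group G] [Finite G] (S : Sylow 2 G) (P : Subgroup G) (k m : ℕ)
    (M : SymK (S : Subgroup G) P (zl (S : Subgroup G) P) (cv (S : Subgroup G) P) k m)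
    (ε : Fin k → (Fin (2 ^ m + 1) → ZMod 2) → G), Lb M ε → IsCharacteristicTwoType G → 2 ≤ k → 2 ≤ m →
      IsParS (S : Subgroup G) P → FOne M ε → cv (S : Subgroup G) P ≠ ⊥ →
      ∀ (i : Fin k) (a b : Fin (2 ^ m + 1)), a ≠ b → (∃ s ∈ (S : Subgroup G), SwA M s i a b) →
        (∃ w ∈ KK (du ε i a b), SwA M w i a b) →
        ∃ T' ≤ centralizer ({du ε i a b} : Set G), ¬ 2 ∣ T'.relIndex (centralizer ({du ε i a b} : Set G)) ∧
          ∀ t ∈ T', du ε i a 0 * t * (du ε i a 0)⁻¹ * t⁻¹ ∈ zpowers (du ε i a b)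

/-- **MIX-W from SYL^.** -/
theorem swMixW_of (h : SylHat.{u}) (K : Cls.{u}) : SwMixW K := by
  classical
  intro G _ _ S hH P k m M ε hL hk hm hP hF hD i a b hab W₀ h4 hWS hn hWQ hcomm htr hmv hc hp
  exfalso
  obtain ⟨w, hw, hs⟩ := hmv
  have hwS := hWS hw
  have hSP := hP.isLoc.le
  -- `0` is none of `a`, `b`
  have h0 : Equiv.swap a b 0 = 0 := by
    have h1 := M.fix0 w hwS _ _ hs i
    rwa [Function.update_self] at h1
  have ha0 : (0 : Fin (2 ^ m + 1)) ≠ a := by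
    intro e
    rw [← e, Equiv.swap_apply_left] at h0
    exact hab (e.symm.trans h0.symm)
  have hb0 : (0 : Fin (2 ^ m + 1)) ≠ b := by
    intro e
    rw [← e, Equiv.swap_apply_right] at h0
    exact hab (h0.trans e)
  have hnn := hL.du_mul_self i a b
  have hn1 : du ε i a b ≠ 1 := hL.du_ne_one hab
  have hwK : w ∈ KK (du ε i a b) := by
    have hwn : w * du ε i a b = du ε i a b * w := by
      have h1 := hWQ hw
      exact mem_centralizer_singleton_iff.1 (MinSimple.VModule.o2_le _ h1)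
    refine mem_KK.2 ⟨hwn, fun x hx => ?_⟩
    have h1 := hcomm x hx w hw
    have e : w * x * w⁻¹ * x⁻¹ = (⁅x, w⁆)⁻¹ := by
      rw [commutatorElement_inv, commutatorElement_def]
    rw [e]
    rcases h1 with h1 | h1
    · rw [h1, inv_one]; exact one_mem _
    · rw [h1]; exact inv_mem (mem_zpowers _)
  obtain ⟨T', hT, hodd, hbT⟩ := h G S P k m M ε hL hH.ctx.char2 hk hm hP hF hD i a b hab ⟨w, hwS, hs⟩ ⟨w, hwK, hs⟩
  refine SwCv.NatM.mix_w hL hF hab ha0 hb0 hm h4 ?_ hn ?_ hWQ ⟨w, hw, hSP hwS, hs⟩ hc ?_ hT hodd hbT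
  · intro v hv
    by_cases hv1 : v = 1
    · rw [hv1, mul_one]
    · obtain ⟨g, -, e⟩ := htr _ hn v hv hn1 hv1
      rw [← e]
      calc g * du ε i a b * g⁻¹ * (g * du ε i a b * g⁻¹) = g * (du ε i a b * du ε i a b) * g⁻¹ := by group
        _ = 1 := by rw [hnn]; group
  · intro v hv hv1
    exact htr _ hn v hv hn1 hv1
  · intro g hg v hv w' hw'
    by_contra hne
    exact hp ⟨g, hg, v, hv, w', hw', hne⟩

/-- **`SwCv K` from T-T and SYL^.** -/
theorem swCv_of'' {K : Cls.{u}} (hTT : SwTT K) (hW : SylHat.{u}) (hPair : Cv.TTPair K) (hU : NatUn K)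
    (hFr : FreeFour K) : SwCv K :=
  swCv_of' hTT (swMixW_of hW K) hPair hU hFr

end Cfsg.Agent.Omega.IId.SwCvC

end

section


/-!
# II.d, `SwCv K`: SYL^ over `SymWrD.SitD` (helper79)

`SylHatD` : SYL^ (helper916, bb OMEGA #21666) over helper573's `SitD`; `sylHat_of : SylHatD → SylHat`.
-/

set_option autoImplicit false
set_option linter.unusedSectionVars false

namespace Cfsg.Agent.Omega.IId.SwCvC

open Subgroup Pointwise Cfsg
open Cfsg.Agent.ZN.ChoiceBase hiding mem_zc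
open Cfsg.Agent.ZN (o2 zc zl)
open Cfsg.Agent.Omega.MinPar Cfsg.Agent.Omega.Frame Cfsg.Agent.Omega.FFThm Cfsg.Agent.Omega.FrameMulti
open Cfsg.Agent.Omega.FrameFF (cv)
open Cfsg.Agent.Omega.Half.SymA (Pt E Mv)
open Cfsg.Agent.Omega.IId.SwCv (Lb du FOne)
open Cfsg.Agent.Omega.IId.SwCv.Lb (SwA)
open Cfsg.Agent.Omega.IId.SymWrD (pr pp Fours SitD)
open Cfsg.Agent.Omega.IId.Triangle (KK mem_KK)
open Cfsg.Agent.Omega.HT.LineOf (Ln dd ln)
open scoped commutatorElement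

universe u

section bridge

variable {G : Type u} [Group G] [Finite G] {S : Sylow 2 G} {P : Subgroup G} {k m : ℕ}
  {M : SymK (S : Subgroup G) P (zl (S : Subgroup G) P) (cv (S : Subgroup G) P) k m}
  {ε : Fin k → (Fin (2 ^ m + 1) → ZMod 2) → G}

theorem pp_swap (hL : Lb M ε) (hG : IsCharacteristicTwoType G) (hP : IsParS (S : Subgroup G) P) (hk : 0 < k)
    (hm : 2 ≤ m) {w : G} (hw : w ∈ P) {i : Fin k} {a b : Fin (2 ^ m + 1)} (hs : SwA M w i a b) :
    pp hL.toBot w = Equiv.swap ((i, a) : Pt k m) (i, b) := by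
  classical
  have h := SymWrD.sitD_of_lb hG hP hL hk hm
  refine SymWrD.pp_eq h.toSit.amb h.toSit.hm1 hw ?_
  intro v hv p
  obtain ⟨j, x⟩ := p
  have h1 := hs v (hL.A_le hv) j x
  have h2 : Equiv.swap ((i, a) : Pt k m) (i, b) (j, x) =
      (j, (Function.update (1 : Fin k → Equiv.Perm (Fin (2 ^ m + 1))) i (Equiv.swap a b)) j x) := by
    by_cases hj : j = i
    · subst hj
      rw [Function.update_self]
      by_cases hxa : x = a
      · subst hxa
        rw [Equiv.swap_apply_left, Equiv.swap_apply_left]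
      · by_cases hxb : x = b
        · subst hxb
          rw [Equiv.swap_apply_right, Equiv.swap_apply_right]
        · rw [Equiv.swap_apply_of_ne_of_ne hxa hxb, Equiv.swap_apply_of_ne_of_ne]
          · exact fun e => hxa (congrArg Prod.snd e)
          · exact fun e => hxb (congrArg Prod.snd e)
    · rw [Function.update_of_ne hj, Equiv.swap_apply_of_ne_of_ne]
      · rfl
      · exact fun e => hj (congrArg Prod.fst e)
      · exact fun e => hj (congrArg Prod.fst e)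
  rw [h2]
  exact h1

/-- a duad whose transposition is induced by `S` -/
theorem mu_eq (hL : Lb M ε) (hG : IsCharacteristicTwoType G) (hP : IsParS (S : Subgroup G) P) (hk : 0 < k)
    (hm : 2 ≤ m) {μ ν : Equiv.Perm (Pt k m)} (F : Fours hL.toBot μ ν) {s : G} (hs : s ∈ (S : Subgroup G))
    {i : Fin k} {a b : Fin (2 ^ m + 1)} (hab : a ≠ b) (ha : a ≠ 0) (hsw : SwA M s i a b) :
    μ ((i, a) : Pt k m) = (i, b) := by
  have h1 := pp_swap hL hG hP hk hm (hL.TH hs) hsw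
  have h2 := F.meqv s hs (i, a)
  rw [h1, Equiv.swap_apply_left] at h2
  by_contra hne
  have h3 : μ ((i, a) : Pt k m) ≠ (i, a) := F.mne _ ha
  rw [Equiv.swap_apply_of_ne_of_ne h3 hne] at h2
  exact hab (congrArg Prod.snd (μ.injective h2))

end bridge

end Cfsg.Agent.Omega.IId.SwCvC

end

end

-- merged: Cfsg.Agent.Mrg.Omega.IId.SwCv.SdOf
section

/-!
# II.d, SwCv: the frame `SymWrD.SD` for a member with labels, from ANY partner (helper747)

* `pp_of_swA` : `SwA M u i a b` implies `pp hL.toBot u = swap (i, a) (i, b)`;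
* `sd_of` : `SD S P hL.A hL.toBot` from F1 and ONE element `w ∈ K_n` which acts as the transposition of the duad `n`;
* `TT.mem_KK`, `TT.sd` : the case of a partner of type T.
-/

set_option autoImplicit false
set_option linter.unusedSectionVars false

namespace Cfsg.Agent.Omega.IId.SwCv

open Subgroup Cfsg Cfsg.Agent.ZN Cfsg.Agent.Omega.FFThm Cfsg.Agent.Omega.MinPar
open Cfsg.Agent.Omega.FrameFF (cv)
open Cfsg.Agent.Omega.Half.SymA (Pt E Mv pm Amb0)
open Cfsg.Agent.Omega.IId.SymWrD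
open Cfsg.Agent.Omega.IId.Triangle (KK mem_KK KK_conj mem_zpowers_iff_of_sq)
open Lb (SwA)
open scoped commutatorElement Classical

universe u

variable {G : Type u} [Group G] [Finite G] {S : Sylow 2 G} {P : Subgroup G} {k m : ℕ}
  {M : SymK (S : Subgroup G) P (zl (S : Subgroup G) P) (cv (S : Subgroup G) P) k m}
  {ε : Fin k → (Fin (2 ^ m + 1) → ZMod 2) → G}

theorem pm_swap (i : Fin k) (a b : Fin (2 ^ m + 1)) :
    pm (1 : Equiv.Perm (Fin k)) (Function.update 1 i (Equiv.swap a b)) = Equiv.swap ((i, a) : Pt k m) (i, b) := by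
  ext1 ⟨j, x⟩
  change ((j, (Function.update (1 : Fin k → Equiv.Perm (Fin (2 ^ m + 1))) i (Equiv.swap a b) j) x) : Pt k m) = _
  by_cases hj : j = i
  · subst hj
    rw [Function.update_self]
    by_cases hx : x = a
    · subst hx
      rw [Equiv.swap_apply_left, Equiv.swap_apply_left]
    by_cases hx' : x = b
    · subst hx'
      rw [Equiv.swap_apply_right, Equiv.swap_apply_right]
    · rw [Equiv.swap_apply_of_ne_of_ne hx hx', Equiv.swap_apply_of_ne_of_ne]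
      · exact fun h => hx (congrArg Prod.snd h)
      · exact fun h => hx' (congrArg Prod.snd h)
  · rw [Function.update_of_ne hj, Equiv.swap_apply_of_ne_of_ne]
    · rfl
    · exact fun h => hj (congrArg Prod.fst h)
    · exact fun h => hj (congrArg Prod.fst h)

theorem pp_of_swA (hL : Lb M ε) (hA : Amb0 (S : Subgroup G) P hL.A) (hm : 1 ≤ m) {u : G} (hu : u ∈ P) {i : Fin k}
    {a b : Fin (2 ^ m + 1)} (hs : SwA M u i a b) : pp hL.toBot u = Equiv.swap ((i, a) : Pt k m) (i, b) := by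
  rw [← pm_swap]
  refine pp_eq hA hm hu (Half.SymA.mv_pm hL.toBot ?_)
  intro v hv j x
  exact hs v (hL.A_le hv) j x

/-- **The frame `SD`.** -/
theorem sd_of (hG : IsCharacteristicTwoType G) (hP : IsParS (S : Subgroup G) P) (hL : Lb M ε) (hk : 0 < k)
    (hm : 2 ≤ m) {i : Fin k} {a b : Fin (2 ^ m + 1)} (hab : a ≠ b) {w : G} (hw : w ∈ KK (du ε i a b)) (hwP : w ∈ P)
    (hs : SwA M w i a b) : SD S P hL.A hL.toBot := by
  have hD := sitD_of_lb hG hP hL hk hm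
  have h := hD.toSit
  have hF := fOne_all hG hP hL hk hm
  have hLd : ∀ {p q : Pt k m}, p.1 = q.1 → p ≠ q → ∀ g ∈ o2 (centralizer ({pr hL.toBot p q} : Set G)),
      g ∈ P ∧ (pp hL.toBot g = 1 ∨ pp hL.toBot g = Equiv.swap p q) := fun hpq hne => L_dat hD hpq hne
  have hne0 : ((i, a) : Pt k m) ≠ (i, b) := fun h0 => hab (congrArg Prod.snd h0)
  have hdu := du_eq_pr hL i a b
  refine { toSit := h, c2 := hG, QP := fun p q hpq hne x hx => (hLd hpq hne x hx).1,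
           Qpp := fun p q hpq hne x hx => (hLd hpq hne x hx).2, VQ := ?_, par := ?_ }
  · rintro ⟨j, x⟩ ⟨j', y⟩ hpq hne
    change j = j' at hpq
    subst hpq
    have h1 := du_eq_pr hL j x y
    have h2 := hF.le j x y fun h0 => hne (by rw [h0])
    rw [h1] at h2
    exact hL.A_le.trans h2
  · intro p q hpq hne
    obtain ⟨g, hg, h1⟩ := exists_conj_pr h (x := ((i, a) : Pt k m)) (y := (i, b)) rfl hne0 hpq hne
    refine ⟨g * w * g⁻¹, ?_, ?_⟩
    · have h2 := KK_conj (h := g) hw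
      rwa [hdu, h1] at h2
    · have h3 := pp_of_swA hL h.amb (by omega) hwP hs
      rw [h.conj hg hwP, h3, ← Equiv.swap_apply_apply]
      have h4 : pr hL.toBot (pp hL.toBot g (i, a)) (pp hL.toBot g (i, b)) = pr hL.toBot p q := by
        rw [← h.conj_pr hg (p := ((i, a) : Pt k m)) (q := (i, b)) rfl, h1]
      exact swap_eq_of_pr (h.fst hg (p := ((i, a) : Pt k m)) (q := (i, b)) rfl)
        (fun h0 => hne0 ((pp hL.toBot g).injective h0)) hpq hne h4

/-- `u ∈ K_n` from `[O₂(C_G(n)), u] ≤ ⟨n⟩` -/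
theorem mem_KK_of {n u : G} (hn : n * n = 1) (hu : u * n = n * u)
    (hc : ∀ x ∈ o2 (centralizer ({n} : Set G)), ⁅x, u⁆ = 1 ∨ ⁅x, u⁆ = n) : u ∈ KK n := by
  refine mem_KK.2 ⟨hu, fun x hx => ?_⟩
  have e : u * x * u⁻¹ * x⁻¹ = (⁅x, u⁆)⁻¹ := by rw [commutatorElement_def]; group
  rw [e, mem_zpowers_iff_of_sq hn]
  rcases hc x hx with h | h
  · left; rw [h, inv_one]
  · right; rw [h]; exact inv_eq_of_mul_eq_one_left hn

section tt

variable {S' : Sylow 2 G} {P' : Subgroup G} {k' m' : ℕ}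
  {M' : SymK (S' : Subgroup G) P' (zl (S' : Subgroup G) P') (cv (S' : Subgroup G) P') k' m'}
  {ε' : Fin k' → (Fin (2 ^ m' + 1) → ZMod 2) → G}
  {i : Fin k} {a b : Fin (2 ^ m + 1)} {i' : Fin k'} {a' b' : Fin (2 ^ m' + 1)}

/-- `V' ≤ K_n` -/
theorem TT.mem_KK (t : TT S S' P P' M M' ε ε' i a b i' a' b') (h' : Lb M' ε') (hF' : FOne M' ε') {u : G}
    (hu : u ∈ zl (S' : Subgroup G) P') : u ∈ KK (du ε i a b) := by
  rw [t.eq]
  refine mem_KK_of (h'.du_mul_self i' a' b') (h'.comm u hu _ (h'.du_mem i' a' b')) fun x hx => ?_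
  exact hF'.comm i' a' b' t.ne' x hx u hu

/-- **The frame `SD` for a pair of types T, T.** -/
theorem TT.sd (t : TT S S' P P' M M' ε ε' i a b i' a' b') (hG : IsCharacteristicTwoType G) (h : Lb M ε)
    (h' : Lb M' ε') (hk : 0 < k) (hm : 2 ≤ m) (hF' : FOne M' ε') : SD S P h.A h.toBot := by
  obtain ⟨u, hu, hs⟩ := t.sw
  exact sd_of hG t.pair.star h hk hm t.ne (t.mem_KK h' hF' hu) (t.pair.star.isLoc.le (t.pair.le hu)) hs

end tt

end Cfsg.Agent.Omega.IId.SwCv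

end

-- merged: Cfsg.Agent.Mrg.Omega.IId.SwCv.SylHatOf
section

/-!
# II.d, `SwCv K`: `SylHat` from helper916's frame `Hw.Fw` (helper79)

`ExHat` : `Fw.exists_hat` (bb OMEGA #22794) as a proposition; `sylHat_of_fw : ExHat → SylHat`.
-/

set_option autoImplicit false
set_option linter.unusedSectionVars false

namespace Cfsg.Agent.Omega.IId.SwCvC

open Subgroup Pointwise Cfsg
open Cfsg.Agent.ZN.ChoiceBase hiding mem_zc
open Cfsg.Agent.ZN (o2 zc zl)
open Cfsg.Agent.Omega.MinPar Cfsg.Agent.Omega.Frame Cfsg.Agent.Omega.FFThm Cfsg.Agent.Omega.FrameMulti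
open Cfsg.Agent.Omega.FrameFF (cv)
open Cfsg.Agent.Omega.Half.SymA (Pt E Mv)
open Cfsg.Agent.Omega.IId.SwCv (Lb du FOne)
open Cfsg.Agent.Omega.IId.SwCv.Lb (SwA)
open Cfsg.Agent.Omega.IId.SymWrD (pr pp Fours SitD)
open Cfsg.Agent.Omega.IId.SymWrD.Ht (DD mem_DD)
open Cfsg.Agent.Omega.IId.Triangle (KK mem_KK)

universe u

/-- `Fw.exists_hat` (helper916). -/
def ExHat : Prop :=
  ∀ (G : Type u) [Group G] [Finite G] (S : Sylow 2 G) (P V D : Subgroup G) (k m : ℕ)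
    (M : SymK (S : Subgroup G) P V ⊥ k m), SymWrD.Hw.Fw S P V D M →
      ∀ (μ ν : Equiv.Perm (Pt k m)) (_ : Fours M μ ν) (x : Pt k m), x.2 ≠ 0 → zc (o2 P) ≤ V ⊔ DD M →
        4 ≤ Nat.card (zc (S : Subgroup G)) →
        ∃ T ≤ centralizer ({pr M x (μ x)} : Set G), ¬ 2 ∣ T.relIndex (centralizer ({pr M x (μ x)} : Set G)) ∧
          ∀ t ∈ T, t * pr M x (x.1, 0) * t⁻¹ = pr M x (x.1, 0) ∨
            t * pr M x (x.1, 0) * t⁻¹ = pr M x (x.1, 0) * pr M x (μ x)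

/-- (ZV_D) in the form used -/
theorem zv_of {G : Type u} [Group G] [Finite G] {S : Sylow 2 G} {P V D : Subgroup G} {k m : ℕ}
    {M : SymK (S : Subgroup G) P V ⊥ k m} (hG : IsCharacteristicTwoType G) (h : SitD S P V D M)
    (hw : ∃ p q : Pt k m, p.1 = q.1 ∧ p ≠ q ∧ ∃ w ∈ KK (pr M p q), pp M w = Equiv.swap p q) :
    zc (o2 P) ≤ V ⊔ DD M := by
  intro z hz
  obtain ⟨v, hv, d, hd, e, h1, -⟩ := (SymWrD.Ht.TD.of_sitD hG h hw).zvD hz
  rw [e]
  exact mul_mem (mem_sup_left hv) (mem_sup_right (mem_DD.2 ⟨hd, h1⟩))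

/-- **SYL^ in the labels.** -/
theorem sylHat_of_fw (h : ExHat.{u}) : SylHat.{u} := by
  classical
  intro G _ _ S P k m M ε hL hG hk hm hP hF hD i a b hab ⟨s, hs, hsw⟩ ⟨w, hw, hww⟩
  have hk0 : 0 < k := by omega
  have hsit := SymWrD.sitD_of_lb hG hP hL hk0 hm
  obtain ⟨μ, ν, F⟩ := SymWrD.exists_fours hsit.toSit
  -- `0` is not `a`
  have h0 : Equiv.swap a b 0 = 0 := by
    have h1 := M.fix0 s hs _ _ hsw i
    rwa [Function.update_self] at h1
  have ha0 : a ≠ 0 := by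
    intro e
    rw [e, Equiv.swap_apply_left] at h0
    exact hab (e.trans h0.symm)
  have hmu := mu_eq hL hG hP hk0 hm F hs hab ha0 hsw
  have hn : du ε i a b = pr hL.toBot ((i, a) : Pt k m) (μ (i, a)) := by
    rw [hmu]; exact SymWrD.du_eq_pr hL i a b
  have hb0 : du ε i a 0 = pr hL.toBot ((i, a) : Pt k m) (i, 0) := SymWrD.du_eq_pr hL i a 0
  have hwP : w ∈ P := by
    have h1 : w ∈ o2 (centralizer ({du ε i a b} : Set G)) :=
      MinSimple.Geo.mem_o2_of_stab hG (hL.du_mul_self i a b) (hL.du_ne_one hab)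
        (mem_centralizer_singleton_iff.2 (mem_KK.1 hw).1) (mem_KK.1 hw).2
    exact o2_le_P hG hP hL hk0 hm hab h1
  have hpar : ∃ p q : Pt k m, p.1 = q.1 ∧ p ≠ q ∧ ∃ w ∈ KK (pr hL.toBot p q), pp hL.toBot w = Equiv.swap p q :=
    ⟨(i, a), (i, b), rfl, fun e => hab (congrArg Prod.snd e), w, by rwa [← SymWrD.du_eq_pr hL i a b],
      pp_swap hL hG hP hk0 hm hwP hww⟩
  have hsd := SwCv.sd_of hG hP hL hk0 hm hab hw hwP hww
  obtain ⟨T, hT, hodd, ht⟩ := h G S P hL.A (cv (S : Subgroup G) P) k m hL.toBot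
    (SymWrD.Hw.Fw.of_sd hsit hsd) μ ν F (i, a) ha0 (zv_of hG hsit hpar) (four_le_zc hL hk0 hD)
  rw [← hn] at hT hodd
  refine ⟨T, hT, hodd, fun t htT => ?_⟩
  have h1 := ht t htT
  rw [← hn] at h1
  change t * pr hL.toBot ((i, a) : Pt k m) (i, 0) * t⁻¹ = pr hL.toBot ((i, a) : Pt k m) (i, 0) ∨
    t * pr hL.toBot ((i, a) : Pt k m) (i, 0) * t⁻¹ = pr hL.toBot ((i, a) : Pt k m) (i, 0) * du ε i a b at h1
  rw [← hb0] at h1
  have hbb := hL.du_mul_self i a 0
  have hbi : (du ε i a 0)⁻¹ = du ε i a 0 := inv_eq_of_mul_eq_one_left hbb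
  have e : du ε i a 0 * t * (du ε i a 0)⁻¹ * t⁻¹ = du ε i a 0 * (t * du ε i a 0 * t⁻¹) := by
    rw [hbi]; group
  rw [e]
  rcases h1 with h1 | h1
  · rw [h1, hbb]; exact one_mem _
  · rw [h1, ← mul_assoc, hbb, one_mul]; exact mem_zpowers _

end Cfsg.Agent.Omega.IId.SwCvC

end

-- merged: Cfsg.Agent.Mrg.Omega.IId.SymWrD.Hw.SylEnd
section

section


/-!
# THEOREM SYL^ (bb OMEGA #21666, helper916), steps (4) - (7) (helper48)

`Fw.syl_end` : there is no `1 ≠ κ ∈ Ω₁Z(T) ∩ C(X)` and `g ∈ C(κ)` with `n^g = n κ`, `r₂^g = r₂ κ`.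
-/

set_option autoImplicit false
set_option linter.unusedSectionVars false

namespace Cfsg.Agent.Omega.IId.SymWrD.Hw

open Subgroup Cfsg Cfsg.Agent.Omega.MinPar Cfsg.Agent.Omega.FFThm
open Cfsg.Agent.ZN (o2 zc)
open Cfsg.Agent.Omega.Half.SymA (Pt E Mv pm)
open Cfsg.Agent.Omega.HT.LineOf (Ln ln pts dd)
open Cfsg.Agent.Omega.IId.Triangle (KK mem_KK KK_conj KK_le_o2)
open Cfsg.Agent.MinSimple.VModule (le_normalizer_o2 o2_isPGroup o2_le mem_zc zc_le normalizer_le_normalizer_zc)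
open Cfsg.Agent.MinSimple.Geo (mem_o2_of_stab)
open Ht (DD mem_DD Fr Tri tn)

universe u

variable {G : Type u} [Group G] {k m : ℕ}

namespace Fw

variable {S : Sylow 2 G} {P V D : Subgroup G} {M : SymK (S : Subgroup G) P V ⊥ k m} (h : Fw S P V D M)
  {μ ν : Equiv.Perm (Pt k m)} (F : Fours M μ ν) {x : Pt k m} (hx : x.2 ≠ 0)
include h F hx

/-- `O₂(C_G(n)) ≤ T` -/
theorem Qn_le [Finite G] {T : Subgroup G} (hTT : tn S M μ x ≤ T) (hTp : IsPGroup 2 T)
    (hmax : ∀ R : Subgroup G, IsPGroup 2 R → T ≤ R → R ≤ normalizer (ln (h.line3 (h.tri F hx)) : Set G) → R ≤ T)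
    (hTN : T ≤ normalizer (ln (h.line3 (h.tri F hx)) : Set G)) : o2 (centralizer ({pr M x (μ x)} : Set G)) ≤ T := by
  have t := h.tri F hx
  have hTa := h.T_le_cen F hx hTT hTp hTN
  have hQN : o2 (centralizer ({pr M x (μ x)} : Set G)) ≤ normalizer (ln (h.line3 (h.tri F hx)) : Set G) := by
    intro g hg
    refine BTwo.mem_normalizer_of_conj fun v hv => ?_
    rcases h.comm_mem t.pq t.n1 hg (h.ln_le t hv) with e | e
    · rw [e]; exact hv
    · rw [e]; exact mul_mem hv ((h.line3 t).dd_mem 0)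
  have h1 : IsPGroup 2 (T ⊔ o2 (centralizer ({pr M x (μ x)} : Set G)) : Subgroup G) :=
    IsPGroup.to_sup_of_normal_right' hTp (o2_isPGroup _) (hTa.trans (le_normalizer_o2 _))
  exact le_sup_right.trans (hmax _ h1 le_sup_left (sup_le hTN hQN))

/-- **SYL^, steps (4) - (7)** -/
theorem syl_end [Finite G] (zv : zc (o2 P) ≤ V ⊔ DD M) {T : Subgroup G} (hTT : tn S M μ x ≤ T) (hTp : IsPGroup 2 T)
    (hmax : ∀ R : Subgroup G, IsPGroup 2 R → T ≤ R → R ≤ normalizer (ln (h.line3 (h.tri F hx)) : Set G) → R ≤ T)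
    (hTN : T ≤ normalizer (ln (h.line3 (h.tri F hx)) : Set G)) {κ g : G} (hk : κ ∈ zc T) (hk1 : κ ≠ 1)
    (hkX : ∀ y ∈ h.XK (h.tri F hx), y * κ = κ * y) (hgk : g * κ = κ * g)
    (hga : g * pr M x (μ x) * g⁻¹ = pr M x (μ x) * κ) (hgb : g * pr M x (x.1, 0) * g⁻¹ = pr M x (x.1, 0) * κ) :
    False := by
  classical
  have t := h.tri F hx
  have hTa := h.T_le_cen F hx hTT hTp hTN
  have hQT := h.Qn_le F hx hTT hTp hmax hTN
  have hkT := (mem_zc.1 hk).2.1
  have hk2 : κ * κ = 1 := by rw [← pow_two]; exact (mem_zc.1 hk).2.2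
  have hkt := h.zcT_le F hx hTT hTp hTN hk
  have hn1 := h.pr_ne t.pq t.n1
  obtain ⟨n, hn⟩ : ∃ n, n = pr M x (μ x) := ⟨_, rfl⟩
  obtain ⟨r, hr⟩ : ∃ r, r = pr M x (x.1, 0) := ⟨_, rfl⟩
  have hnn : n * n = 1 := by rw [hn]; exact h.pr_sq
  have hrr : r * r = 1 := by rw [hr]; exact h.pr_sq
  have hnV : n ∈ V := by rw [hn]; exact pr_mem M _ _
  have hrV : r ∈ V := by rw [hr]; exact pr_mem M _ _
  have hVT : V ≤ T := (h.V_le_tn F hx).trans hTT
  have hnk : n * κ = κ * n := hkT n (hVT hnV)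
  have hrk : r * κ = κ * r := hkT r (hVT hrV)
  -- `κ ∈ Ω₁Z(Q_n)`
  have hkQ : κ ∈ zc (o2 (centralizer ({pr M x (μ x)} : Set G))) := by
    refine mem_zc.2 ⟨?_, fun q hq => hkT q (hQT hq), (mem_zc.1 hk).2.2⟩
    refine mem_o2_of_stab h.char2 h.pr_sq hn1 (hTa (zc_le _ hk)) fun q hq => ?_
    have e : κ * q * κ⁻¹ * q⁻¹ = 1 := by rw [← hkT q (hQT hq)]; group
    rw [e]; exact one_mem _
  obtain ⟨p, hp⟩ : ∃ p, p = n * κ := ⟨_, rfl⟩
  have hga' : g * n * g⁻¹ = p := by rw [hn, hga, hp, hn]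
  have hgb' : g * r * g⁻¹ = r * κ := by rw [hr, hgb]
  have hcen : o2 (centralizer ({p} : Set G)) =
      (o2 (centralizer ({pr M x (μ x)} : Set G))).map (MulAut.conj g).toMonoidHom := by
    rw [← hga', hn]; exact Triangle.o2_cent_conj g _
  have hmem : ∀ {a : G}, a ∈ o2 (centralizer ({pr M x (μ x)} : Set G)) → g * a * g⁻¹ ∈ o2 (centralizer ({p} : Set G)) := by
    intro a ha
    rw [hcen]; exact ⟨a, ha, rfl⟩
  have hmem' : ∀ {a : G}, a ∈ zc (o2 (centralizer ({pr M x (μ x)} : Set G))) →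
      g * a * g⁻¹ ∈ zc (o2 (centralizer ({p} : Set G))) := by
    intro a ha
    have h1 := mem_zc.1 ha
    refine mem_zc.2 ⟨hmem h1.1, fun q hq => ?_, ?_⟩
    · rw [hcen] at hq
      obtain ⟨b, hb, rfl⟩ := hq
      have h2 := h1.2.1 b hb
      show g * b * g⁻¹ * (g * a * g⁻¹) = g * a * g⁻¹ * (g * b * g⁻¹)
      calc g * b * g⁻¹ * (g * a * g⁻¹) = g * (b * a) * g⁻¹ := by group
        _ = g * a * g⁻¹ * (g * b * g⁻¹) := by rw [h2]; group
    · have h2 := h1.2.2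
      rw [pow_two] at h2 ⊢
      calc g * a * g⁻¹ * (g * a * g⁻¹) = g * (a * a) * g⁻¹ := by group
        _ = 1 := by rw [h2]; group
  have hkQp : κ ∈ zc (o2 (centralizer ({p} : Set G))) := by
    have h1 := hmem' hkQ
    rwa [hgk, mul_inv_cancel_right] at h1
  have hnQ : n ∈ zc (o2 (centralizer ({pr M x (μ x)} : Set G))) := by
    refine mem_zc.2 ⟨by rw [hn]; exact h.V_le t.pq t.n1 (pr_mem M _ _), fun q hq => ?_, by rw [pow_two]; exact hnn⟩
    rw [hn]; exact mem_centralizer_singleton_iff.1 (o2_le _ hq)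
  have hpQp : p ∈ zc (o2 (centralizer ({p} : Set G))) := by
    have h1 := hmem' hnQ
    rwa [hga'] at h1
  have hnQp : n ∈ zc (o2 (centralizer ({p} : Set G))) := by
    have e : n = p * κ := by rw [hp, mul_assoc, hk2, mul_one]
    rw [e]; exact mul_mem hpQp hkQp
  have hrQp : r ∈ o2 (centralizer ({p} : Set G)) := by
    have e : r = g * r * g⁻¹ * κ := by rw [hgb', mul_assoc, hk2, mul_one]
    have h1 : g * r * g⁻¹ ∈ o2 (centralizer ({p} : Set G)) := by
      refine hmem ?_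
      rw [hr]; exact h.V_le t.pq t.n1 (pr_mem M _ _)
    rw [e]; exact mul_mem h1 (zc_le _ hkQp)
  -- **(4)**
  obtain ⟨N, hN⟩ : ∃ N : Subgroup G, N = _root_.Subgroup.closure {a | ∃ c ∈ centralizer ({p} : Set G), a = c * n * c⁻¹} := ⟨_, rfl⟩
  have hnN : n ∈ N := by
    rw [hN]; exact subset_closure ⟨1, one_mem _, by group⟩
  have hCN : centralizer ({p} : Set G) ≤ normalizer (N : Set G) := by
    intro s hs
    refine BTwo.mem_normalizer_of_conj fun a ha => ?_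
    have hle : N ≤ N.comap (MulAut.conj s).toMonoidHom := by
      nth_rw 1 [hN]
      rw [closure_le]
      rintro _ ⟨c, hc, rfl⟩
      show s * (c * n * c⁻¹) * s⁻¹ ∈ N
      rw [hN]
      exact subset_closure ⟨s * c, mul_mem hs hc, by group⟩
    exact hle ha
  have hNZ : N ≤ zc (o2 (centralizer ({p} : Set G))) := by
    rw [hN, closure_le]
    rintro _ ⟨c, hc, rfl⟩
    exact (mem_normalizer_iff.1 (((le_normalizer_o2 _).trans (normalizer_le_normalizer_zc _)) hc) n).1 hnQp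
  have hNab : ∀ a ∈ N, ∀ b ∈ N, a * b = b * a := fun a ha b hb =>
    (mem_zc.1 (hNZ hb)).2.1 a (zc_le _ (hNZ ha))
  have hTp' : T ≤ centralizer ({p} : Set G) := by
    intro s hs
    rw [mem_centralizer_singleton_iff, hp, ← mul_assoc]
    have h1 : s * n = n * s := by rw [hn]; exact mem_centralizer_singleton_iff.1 (hTa hs)
    rw [h1, mul_assoc, hkT s hs, mul_assoc]
  have hNr : ∀ y ∈ N, y * r = r * y := fun y hy => ((mem_zc.1 (hNZ hy)).2.1 r hrQp).symm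
  have hNn : ∀ y ∈ N, y * n = n * y := fun y hy => hNab y hy n hnN
  have hNL : N ≤ normalizer (ln (h.line3 t) : Set G) := by
    intro y hy
    have h1 := hNr y hy
    have h2 := hNn y hy
    refine BTwo.mem_normalizer_of_conj fun v hv => ?_
    have hc : y * v = v * y := by
      rcases hv with e | ⟨i, e⟩
      · rw [e, mul_one, one_mul]
      · fin_cases i
        · have e' : v = n := by rw [hn]; exact e
          rw [e']; exact h2
        · have e' : v = r := by rw [hr]; exact e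
          rw [e']; exact h1
        · have e' : v = n * r := by rw [hn, hr]; exact e
          rw [e', ← mul_assoc, h2, mul_assoc, h1, mul_assoc]
    rw [hc, mul_inv_cancel_right]; exact hv
  have hNT : N ≤ T := by
    have h1 : IsPGroup 2 (T ⊔ N : Subgroup G) :=
      IsPGroup.to_sup_of_normal_right' hTp ((o2_isPGroup _).to_le (hNZ.trans (zc_le _))) (hTp'.trans hCN)
    exact le_sup_right.trans (hmax _ h1 le_sup_left (sup_le hTN hNL))
  -- the components of `κ`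
  obtain ⟨v₀, hv₀, d₀, hd₀, hvT, hdT, e0⟩ := h.zc_tn_dec F hx zv hkt
  have h00 : E M v₀ x = 0 := by
    obtain ⟨w, hw, hwp⟩ := h.par t.pr t.n2
    have hwQ := h.KK_le t.pr t.n2 hw
    have hwP := h.Qle t.pr t.n2 hwQ
    have hwX : w ∈ h.XK t := le_iSup (fun i => KK (dd (pr M x (μ x)) (pr M x (x.1, 0)) i)) 1 hw
    have h1 := hkX w hwX
    have h2 : w * d₀ = d₀ * w := (mem_DD.1 hd₀).2 w hwP fun q => by rw [hwp]; exact swap_fst_eq t.pr q
    have h3 : w * v₀ = v₀ * w := by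
      rw [e0] at h1
      have h4 : w * v₀ * d₀ = v₀ * w * d₀ := by
        calc w * v₀ * d₀ = w * (v₀ * d₀) := by group
          _ = v₀ * (d₀ * w) := by rw [h1]; group
          _ = v₀ * w * d₀ := by rw [← h2]; group
      exact mul_right_cancel h4
    have h4 := (h.comm_iff hwP hv₀).1 h3 x
    rw [hwp, Equiv.swap_apply_left, h.fix_zero F hx hv₀ hvT x.1] at h4
    exact h4.symm
  -- **(5)**
  have h5 : ∀ y ∈ N, y ∈ tn S M μ x → pp M y = 1 ∨ pp M y = Equiv.swap x (μ x) := by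
    intro y hy hyt
    refine h.syl_five F hx hv₀ hd₀ hvT hdT h00 hNab (fun s hs a ha => ?_) hy hyt
    rw [← e0, ← hn, ← hp] at hs
    exact (mem_normalizer_iff.1 (hCN (mem_centralizer_singleton_iff.2 hs)) a).1 ha
  -- **(6)**
  have h6 : N ≤ tn S M μ x := h.syl_six F hx zv hTT hTp hTa hNT (hTT.trans (hTp'.trans hCN))
    (fun y hy => by rw [← hr]; exact hNr y hy) h5
  -- **(7)**
  have hp' : pr M x (μ x) * κ = p := by rw [hp, hn]
  refine h.syl_seven F hx zv hkt hk1 hkX hkQ hgk hga hgb (N := N) (by rw [← hn]; exact hnN) ?_ ?_ ?_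
  · rw [hp']; exact hNZ.trans ((zc_le _).trans (o2_le _))
  · rw [hp']; exact hCN
  · intro v hv hE d hd y hy
    exact h.comm_perp' F hx (h.SP (h6 hy).1) (h5 y hy (h6 hy)) hv hE hd

end Fw

end Cfsg.Agent.Omega.IId.SymWrD.Hw

end

section


/-!
# THEOREM SYL^ (bb OMEGA #21666, helper916; refereed #21848)

`h : Fw S P V D M` (no partner), `4 ≤ |Ω₁Z(S)|`, `L_0 = {1, n, 10, 20}`, `n = x μ(x)`, `T = C_S(n)`.
* `Fw.syl_hat` : a Sylow 2-subgroup `T^ ≥ T` of `N_G(L_0)` lies in `C_G(n)` and has odd index there;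
* `Fw.exists_hat` : `T^` exists.
-/

set_option autoImplicit false
set_option linter.unusedSectionVars false

namespace Cfsg.Agent.Omega.IId.SymWrD.Hw

open Subgroup Cfsg Cfsg.Agent.Omega.MinPar Cfsg.Agent.Omega.FFThm
open Cfsg.Agent.ZN (o2 zc)
open Cfsg.Agent.Omega.Half.SymA (Pt E Mv pm)
open Cfsg.Agent.Omega.HT.LineOf (Ln ln pts dd)
open Cfsg.Agent.Omega.IId.Triangle (KK mem_KK KK_conj)
open Ht (DD mem_DD Fr Tri tn)

universe u

variable {G : Type u} [Group G] [Finite G] {k m : ℕ}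

namespace Fw

variable {S : Sylow 2 G} {P V D : Subgroup G} {M : SymK (S : Subgroup G) P V ⊥ k m} (h : Fw S P V D M)
  {μ ν : Equiv.Perm (Pt k m)} (F : Fours M μ ν) {x : Pt k m} (hx : x.2 ≠ 0)
  (zv : zc (o2 P) ≤ V ⊔ DD M)
include h F hx zv

/-- **THEOREM SYL^** -/
theorem syl_hat (h4 : 4 ≤ Nat.card (zc (S : Subgroup G))) {T : Subgroup G} (hTT : tn S M μ x ≤ T)
    (hTp : IsPGroup 2 T) (hTN : T ≤ normalizer (ln (h.line3 (h.tri F hx)) : Set G))
    (hodd : ¬ 2 ∣ T.relIndex (normalizer (ln (h.line3 (h.tri F hx)) : Set G))) :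
    T ≤ centralizer ({pr M x (μ x)} : Set G) ∧ ¬ 2 ∣ T.relIndex (centralizer ({pr M x (μ x)} : Set G)) := by
  refine ⟨h.T_le_cen F hx hTT hTp hTN, fun hneg => ?_⟩
  obtain ⟨k, hk, hk1, hkX, g, hgk, hga, hgb⟩ := h.exists_k F hx zv hTT hTp hTN h4 hodd hneg
  have C := h.cf F hx zv hTT hTp hTN hodd
  exact h.syl_end F hx zv hTT hTp (fun R hR hTR hRN => C.max hR hTR hRN) hTN hk hk1 hkX hgk hga hgb

/-- `T^` exists. -/
theorem exists_hat (h4 : 4 ≤ Nat.card (zc (S : Subgroup G))) : ∃ T : Subgroup G, tn S M μ x ≤ T ∧ IsPGroup 2 T ∧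
    T ≤ normalizer (ln (h.line3 (h.tri F hx)) : Set G) ∧ T ≤ centralizer ({pr M x (μ x)} : Set G) ∧
    ¬ 2 ∣ T.relIndex (centralizer ({pr M x (μ x)} : Set G)) ∧
    ∀ t ∈ T, t * pr M x (x.1, 0) * t⁻¹ = pr M x (x.1, 0) ∨
      t * pr M x (x.1, 0) * t⁻¹ = pr M x (x.1, 0) * pr M x (μ x) := by
  obtain ⟨T, hTT, hTN, hTp, hodd⟩ := HT.exists_syl (S := tn S M μ x)
    (P := normalizer (ln (h.line3 (h.tri F hx)) : Set G)) (S.isPGroup'.to_le inf_le_left) (h.tn_norm F hx)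
  obtain ⟨h1, h2⟩ := h.syl_hat F hx zv h4 hTT hTp hTN hodd
  refine ⟨T, hTT, hTp, hTN, h1, h2, fun t ht => ?_⟩
  have C := h.cf F hx zv hTT hTp hTN hodd
  rcases C.act_T ht with e | e
  · exact Or.inl e
  · right; rw [e]; exact (h.line3 (h.tri F hx)).comm

end Fw

end Cfsg.Agent.Omega.IId.SymWrD.Hw

end

end

-- merged: Cfsg.Agent.Mrg.Omega.HT.SylExit
section

/-!
# II.0h1, `q = 2`, over a 2-group `T`: `|Z₀| ≤ 2` implies that `T` is a Sylow 2-subgroup of `G`; the position `Pos`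

`b : HTT T P V R o`, `Z₀ = Ω₁Z(T) ⊓ C(P)`, `S` a Sylow 2-subgroup of `G` with `|Ω₁Z(S)| ≥ 4`.

* `exists_sylow` : `|Z₀| ≤ 2` ⟹ `T` is a Sylow 2-subgroup;
* `ht_of` : `HTT` over a Sylow group gives `HT`; `reindex` : the points indexed by `ULift ι`;
* `exists_pos` : the position `HTwo.Entry.Pos`, indexed by `ULift ι`.
-/

set_option autoImplicit false
set_option linter.unusedSectionVars false

namespace Cfsg.Agent.Omega.HT.SylExit

open Subgroup Cfsg Cfsg.Agent.ZN Cfsg.Agent.Omega.BTwo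
open Cfsg.Agent.Omega.MinPar Cfsg.Agent.Omega.HT
open Cfsg.Agent.Omega.HTwo.Entry (Pos)

universe u v w

variable {G : Type u} [Group G] {ι : Type v} {T P V : Subgroup G} {R : ι → Subgroup G} {o : ι}

/-- `|A ⊔ B| ≤ |A| |B|` for commuting subgroups -/
theorem card_sup_le [Finite G] {A B : Subgroup G} (h : ∀ a ∈ A, ∀ b ∈ B, a * b = b * a) :
    Nat.card (A ⊔ B : Subgroup G) ≤ Nat.card A * Nat.card B := by
  have hn : B ≤ normalizer (A : Set G) := by
    intro b hb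
    refine centralizer_le_normalizer _ (mem_centralizer_iff.2 fun a ha => h a ha b hb)
  have hs : Function.Surjective fun p : A × B => (⟨(p.1 : G) * p.2, mul_mem_sup p.1.2 p.2.2⟩ : (A ⊔ B : Subgroup G)) := by
    rintro ⟨x, hx⟩
    rw [← SetLike.mem_coe, coe_mul_of_right_le_normalizer_left _ _ hn] at hx
    obtain ⟨a, ha, b, hb, rfl⟩ := hx
    exact ⟨(⟨a, ha⟩, ⟨b, hb⟩), rfl⟩
  have h1 := Nat.card_le_card_of_surjective _ hs
  rwa [Nat.card_prod] at h1

/-- **`|Z₀| ≤ 2` : `T` is a Sylow 2-subgroup** -/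
theorem exists_sylow [Finite G] (b : HTT T P V R o)
    (h1 : ∀ x ∈ zc T ⊓ centralizer (P : Set G), ∀ y ∈ zc T ⊓ centralizer (P : Set G), x ≠ 1 → y ≠ 1 → x = y)
    (S : Sylow 2 G) (h4 : 4 ≤ Nat.card (zc (S : Subgroup G))) : ∃ S' : Sylow 2 G, (S' : Subgroup G) = T := by
  classical
  obtain ⟨S', hS'⟩ := b.S_p.exists_le_sylow
  refine ⟨S', ?_⟩
  -- a 2-group containing `T` and normalising `R o` is `T`
  have key : ∀ Y : Subgroup G, IsPGroup 2 Y → T ≤ Y → Y ≤ normalizer (R o : Set G) → T = Y := fun Y hY h2 h3 =>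
    eq_of_le_of_card_ge h2 (Nat.le_of_dvd Nat.card_pos (HT.card_dvd_card b.S_R b.S_odd hY h3))
  -- `Ω₁Z(S') ≤ Ω₁Z(T)`
  have hZ : zc (S' : Subgroup G) ≤ zc T := by
    intro z hz
    have hz' := mem_zc.1 hz
    have e : T = T ⊔ zpowers z := by
      refine key _ (S'.isPGroup'.to_le (sup_le hS' (by rw [zpowers_le]; exact hz'.1))) le_sup_left
        (sup_le b.S_R ?_)
      rw [zpowers_le]
      refine centralizer_le_normalizer _ (mem_centralizer_iff.2 fun r hr => ?_)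
      exact hz'.2.1 r (hS' (b.V_le_S (b.R_le o hr)))
    have hzT : z ∈ T := e.symm.le (mem_sup_right (mem_zpowers z))
    exact mem_zc.2 ⟨hzT, fun s hs => hz'.2.1 s (hS' hs), hz'.2.2⟩
  -- `|Ω₁Z(T)| ≤ 4`
  have hZ0 : Nat.card (zc T ⊓ centralizer (P : Set G) : Subgroup G) ≤ 2 := by
    by_contra hcon
    push Not at hcon
    obtain ⟨x, hx, y, hy, hx1, hy1, hxy⟩ : ∃ x ∈ zc T ⊓ centralizer (P : Set G),
        ∃ y ∈ zc T ⊓ centralizer (P : Set G), x ≠ 1 ∧ y ≠ 1 ∧ x ≠ y := by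
      by_contra hc
      push Not at hc
      have hinj : Function.Injective fun g : (zc T ⊓ centralizer (P : Set G) : Subgroup G) =>
          (if (g : G) = 1 then true else false) := by
        intro g g' hgg
        change (if (g : G) = 1 then true else false) = (if (g' : G) = 1 then true else false) at hgg
        by_cases hg : (g : G) = 1
        · by_cases hg' : (g' : G) = 1
          · exact Subtype.ext (hg.trans hg'.symm)
          · rw [if_pos hg, if_neg hg'] at hgg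
            exact absurd hgg (by decide)
        · by_cases hg' : (g' : G) = 1
          · rw [if_neg hg, if_pos hg'] at hgg
            exact absurd hgg (by decide)
          · exact Subtype.ext (hc _ g.2 _ g'.2 hg hg')
      have h5 := Nat.card_le_card_of_injective _ hinj
      rw [Nat.card_eq_fintype_card (α := Bool), Fintype.card_bool] at h5
      omega
    exact hxy (h1 x hx y hy hx1 hy1)
  have hc4 : Nat.card (zc T) ≤ 4 := by
    rw [b.zc_eq]
    refine (card_sup_le fun a ha c hc => ?_).trans ?_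
    · exact (mem_zc.1 hc.1).2.1 a (b.V_le_S (b.R_le o ha))
    · rw [b.card_R o]
      omega
  have hS4 : 4 ≤ Nat.card (zc (S' : Subgroup G)) := by
    rwa [Half.card_zc_of_card_eq S S'.isPGroup'
      (le_antisymm (Half.card_le_sylow S S'.isPGroup') (Half.card_le_sylow S' S.isPGroup'))]
  have e : zc (S' : Subgroup G) = zc T := eq_of_le_of_card_ge hZ (hc4.trans hS4)
  -- `S' ≤ C(r) ≤ N(R o)`
  have hR : (S' : Subgroup G) ≤ normalizer (R o : Set G) := by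
    intro s hs
    refine centralizer_le_normalizer _ (mem_centralizer_iff.2 fun r hr => ?_)
    have h6 : r ∈ zc (S' : Subgroup G) := by rw [e]; exact b.R_le_zc hr
    exact ((mem_zc.1 h6).2.1 s hs).symm
  exact (key _ S'.isPGroup' hS' hR).symm

/-- `HTT` over a Sylow 2-subgroup gives `HT` -/
theorem ht_of {S : Sylow 2 G} (b : HTT (S : Subgroup G) P V R o) : HOneTwo.HT S P V R o where
  toBT := b.toBT
  card_R := b.card_R
  char2 := b.char2
  S_V := b.S_V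
  S_R := b.S_R
  S_P := b.S_P
  P_V := b.P_V
  P_trans := b.P_trans
  P_Z := b.P_Z

/-- the points indexed by an equivalent type -/
theorem reindex {κ : Type w} (e : κ ≃ ι) (b : BT V R) : BT V (R ∘ e) where
  V_comm := b.V_comm
  V_sq := b.V_sq
  R_le i := b.R_le (e i)
  R_inf i j hij := b.R_inf _ _ (e.injective.ne hij)
  R_sup i j hij := b.R_sup _ _ (e.injective.ne hij)
  R_cov v hv := by
    obtain ⟨i, hi⟩ := b.R_cov v hv
    exact ⟨e.symm i, by rw [Function.comp_apply, Equiv.apply_symm_apply]; exact hi⟩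
  R_ne i := b.R_ne (e i)
  third i j := by
    obtain ⟨k, h1, h2⟩ := b.third (e i) (e j)
    exact ⟨e.symm k, fun h => h1 (by rw [← h, Equiv.apply_symm_apply]),
      fun h => h2 (by rw [← h, Equiv.apply_symm_apply])⟩
  perm g hg i := by
    obtain ⟨j, hj⟩ := b.perm g hg (e i)
    exact ⟨e.symm j, by rw [Function.comp_apply, Function.comp_apply, Equiv.apply_symm_apply]; exact hj⟩
  V_Q i := b.V_Q (e i)
  QV i := b.QV (e i)
  QR i := b.QR (e i)
  mt i := by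
    obtain ⟨h, hh, H⟩ := b.mt (e i)
    exact ⟨h, hh, fun j k hj hk => H (e j) (e k) (e.injective.ne hj) (e.injective.ne hk)⟩

theorem reindexHT {S : Sylow 2 G} {κ : Type w} (e : κ ≃ ι) {o' : κ} (ho : e o' = o) (b : HOneTwo.HT S P V R o) :
    HOneTwo.HT S P V (R ∘ e) o' where
  toBT := reindex e b.toBT
  card_R i := b.card_R (e i)
  char2 := b.char2
  S_V := b.S_V
  S_R := by rw [Function.comp_apply, ho]; exact b.S_R
  S_P := b.S_P
  P_V := b.P_V
  P_trans i := by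
    rw [Function.comp_apply, Function.comp_apply, ho]
    exact b.P_trans (e i)
  P_Z := b.P_Z

/-- **the position**, indexed by `ULift ι` -/
theorem exists_pos [Finite G] {S' : Sylow 2 G} (b : HTT (S' : Subgroup G) P V R o) (S : Sylow 2 G)
    (h4 : 4 ≤ Nat.card (zc (S : Subgroup G))) :
    ∃ (κ : Type (max w v)) (R' : κ → Subgroup G) (o' : κ) (r z : G), Pos S' P V R' o' r z := by
  have hS4 : 4 ≤ Nat.card (zc (S' : Subgroup G)) := by
    rwa [Half.card_zc_of_card_eq S S'.isPGroup'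
      (le_antisymm (Half.card_le_sylow S S'.isPGroup') (Half.card_le_sylow S' S.isPGroup'))]
  obtain ⟨r, hr1, hrr, hr⟩ := b.exists_gen o
  have hne : zc (S' : Subgroup G) ⊓ centralizer (P : Set G) ≠ ⊥ := by
    intro h0
    rw [b.zc_eq, h0, sup_bot_eq, b.card_R o] at hS4
    omega
  obtain ⟨⟨z, hz⟩, hz1⟩ := Subgroup.ne_bot_iff_exists_ne_one.1 hne
  exact ⟨ULift.{w} ι, R ∘ Equiv.ulift, ⟨o⟩, r, z, { reindexHT Equiv.ulift rfl (ht_of b) with
    r_ne := hr1, r_sq := hrr, r_iff := hr, z_mem := hz, z_ne := fun e => hz1 (Subtype.ext e) }⟩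

end Cfsg.Agent.Omega.HT.SylExit

end

-- merged: Cfsg.Agent.Mrg.Omega.IId.SymWrD.Ht.HatEnd
section

/-!
# II.d, `SwCv`, T-T, `D` arbitrary: the end over `T̂` (bb OMEGA #21666, #21945, #22558 (5))

`T̂ ≥ T = C_S(n)` a Sylow 2-subgroup of `C_G(n)` normalising the line `{1, n, 10, 20}`, `|Ω₁Z(S)| ≥ 4`.

* `zv` : `Ω₁Z(O₂(P)) ≤ V ⊔ DD M`; `sg_mul_ne` : `σ d ≠ 1`;
* `yv_three` : `YV` at `z* d`, `3 ≤ m` (helper573);
* `exists_hat` : `T̂` from any subgroup of odd index in `C_G(n)` normalising the line;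
* `hsig_of`, `yv_two` : `YV` at `z* d`, `m = 2` (helper666, helper971);
* `exists_pos` : from `HTT`, `OtD`, `LE` over `T̂` and `YV` at all `z* d`: `T̂` is a Sylow 2-subgroup of `G`, and the
  position `HTwo.Entry.Pos` over it; `exists_pos'` : all inputs inserted, `D ≠ 1`.
-/

set_option autoImplicit false
set_option linter.unusedSectionVars false

namespace Cfsg.Agent.Omega.IId.SymWrD.Ht.HatEnd

open Subgroup Cfsg Cfsg.Agent.Omega.MinPar Cfsg.Agent.Omega.FFThm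
open Cfsg.Agent.ZN (o2 zc)
open Cfsg.Agent.Omega.Half (Amb amb_of_loc)
open Cfsg.Agent.Omega.Half.SymA (Pt E Mv pm)
open Cfsg.Agent.Omega.HT.LineOf (Ln ln pts dd)
open Cfsg.Agent.Omega.BTwo (BT XX WW QQ O2)
open Cfsg.Agent.Omega.HTwo.Hat (ZQ)
open Cfsg.Agent.Omega.IId.SymWrD.Ht
open Cfsg.Agent.MinSimple.VModule (le_normalizer_o2 o2_isPGroup o2_le mem_zc zc_le)

universe u

variable {G : Type u} [Group G] [Finite G] {k m : ℕ} {S : Sylow 2 G} {P V D : Subgroup G}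
  {M : SymK (S : Subgroup G) P V ⊥ k m} (h : Fr S P V D M)
include h

/-- `Ω₁Z(O₂(P)) ≤ V ⊔ DD M` -/
theorem zv : zc (o2 P) ≤ V ⊔ DD M := by
  obtain ⟨p, q, hpq, hne, -⟩ := h.par
  obtain ⟨w, hw, -, hwp⟩ := h.exists_w hpq hne
  have hT : TD S P V M := TD.of_sitD h.char2 h.toSitD ⟨p, q, hpq, hne, w, hw, hwp⟩
  intro z hz
  obtain ⟨v, hv, d, hd, rfl, hd1, -⟩ := hT.zvD hz
  exact mul_mem_sup hv (mem_DD.2 ⟨hd, hd1⟩)

/-- `D ≤ DD M` -/
theorem D_le_DD : D ≤ DD M := fun d hd => mem_DD.2 ⟨h.DZ hd, fun g hg _ => h.cenD g hg d hd⟩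

variable {μ ν : Equiv.Perm (Pt k m)} (F : Fours M μ ν) {x : Pt k m} (hx : x.2 ≠ 0)
include F hx

/-- `σ d ≠ 1` -/
theorem sg_mul_ne {d : G} (hd : d ∈ DD M) : (sg h.toSit x.1).val * d ≠ 1 := by
  intro e
  have h1 : (sg h.toSit x.1).val = 1 := by
    refine h.eq_one_of_DD (sg_mem h.toSit x.1) ?_
    rw [eq_inv_of_mul_eq_one_left e]
    exact inv_mem hd
  have h2 := E_sg h.toSit x.1 x
  rw [h1, Half.SymA.E_one, if_pos rfl, if_neg hx] at h2
  exact zero_ne_one h2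

/-- **`YV` at `z* d`, `3 ≤ m`** -/
theorem yv_three (h3 : 3 ≤ m) {d : G} (hd : d ∈ DD M) :
    HT.Main.YV (ln (h.line3 (h.tri F hx))) (pr M x (μ x)) ((sg h.toSit x.1).val * pr M x (μ x) * d) :=
  h.yv_of F hx hd fun _ hg _ hv =>
    RD.esigD h.toSit h.char2 (zv h) h3 x.1 hd (sg_mul_ne h F hx hd) hg (h.VZ hv) (h.VZ (pr_mem M x (μ x)))

/-- `Sig` for the elements centralising the line -/
theorem hsig_of {c : G} (hs : HT.Sig (ln (h.line3 (h.tri F hx))) (pts (pr M x (μ x)) (pr M x (x.1, 0))) 0 c) {g : G}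
    (hg : g * pr M x (μ x) = pr M x (μ x) * g) (hg' : g * pr M x (x.1, 0) = pr M x (x.1, 0) * g) :
    c⁻¹ * (g * c * g⁻¹) = 1 ∨ c⁻¹ * (g * c * g⁻¹) = pr M x (μ x) := by
  have t := h.tri F hx
  have hgN : g ∈ normalizer (pts (pr M x (μ x)) (pr M x (x.1, 0)) 0 : Set G) := by
    rw [(h.line3 t).normalizer_pts 0]
    exact mem_centralizer_singleton_iff.2 hg
  have hcom : ∀ v ∈ ln (h.line3 t), g * v = v * g := by
    rintro v (rfl | ⟨i, rfl⟩)
    · rw [mul_one, one_mul]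
    · fin_cases i
      · exact hg
      · exact hg'
      · change g * (pr M x (μ x) * pr M x (x.1, 0)) = pr M x (μ x) * pr M x (x.1, 0) * g
        rw [← mul_assoc, hg, mul_assoc, hg', mul_assoc]
  have hcond : ∀ v ∈ ln (h.line3 t), g * v * g⁻¹ ∈ ln (h.line3 t) ⊔
      ZQ (pts (pr M x (μ x)) (pr M x (x.1, 0))) 0 := fun v hv => by
    rw [hcom v hv, mul_inv_cancel_right]
    exact mem_sup_left hv
  have hv0 : pr M x (x.1, 0) ∉ pts (pr M x (μ x)) (pr M x (x.1, 0)) 0 := by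
    rw [(h.line3 t).mem_pts]
    rintro (e | e)
    · exact h.pr_ne t.pr t.n2 e
    · have e1 : pr M x (x.1, 0) = pr M x (μ x) := e
      exact (h.line3 t).ne e1.symm
  have h1 := hs g hgN hcond _ ((h.line3 t).dd_mem 1) hv0
  have h2 : (pr M x (x.1, 0) * c)⁻¹ * g * (pr M x (x.1, 0) * c) * g⁻¹ = c⁻¹ * (g * c * g⁻¹) := by
    calc (pr M x (x.1, 0) * c)⁻¹ * g * (pr M x (x.1, 0) * c) * g⁻¹ =
        c⁻¹ * ((pr M x (x.1, 0))⁻¹ * (g * pr M x (x.1, 0)) * c * g⁻¹) := by group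
      _ = c⁻¹ * (g * c * g⁻¹) := by rw [hg', inv_mul_cancel_left]
  have h3 : (pr M x (x.1, 0) * c)⁻¹ * g * (pr M x (x.1, 0) * c) * g⁻¹ ∈
      pts (pr M x (μ x)) (pr M x (x.1, 0)) 0 := h1
  rw [h2, (h.line3 t).mem_pts] at h3
  exact h3

/-- **`YV` at `z* d`, `m = 2`** -/
theorem yv_two (hm2 : m = 2) {d : G} (hd : d ∈ DD M) (hdT : ∀ s ∈ tn S M μ x, s * d = d * s)
    (hs : HT.Sig (ln (h.line3 (h.tri F hx))) (pts (pr M x (μ x)) (pr M x (x.1, 0))) 0
      ((sg h.toSit x.1).val * pr M x (μ x) * d)) {e : G} (he : e ∈ DD M) (he1 : e ≠ 1) :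
    HT.Main.YV (ln (h.line3 (h.tri F hx))) (pr M x (μ x)) ((sg h.toSit x.1).val * pr M x (μ x) * d) := by
  have hO := AlphaA.o2_le_S0 (SD.of_fr h) (zv h) F hm2 hx hd
    (fun s hs hc => hdT s ⟨hs, mem_centralizer_singleton_iff.2 hc⟩) (fun g hg hg' => hsig_of h F hx hs hg hg')
  exact h.yv_of F hx hd fun g hg v hv => RB.esigD_two h.toSit h.char2 (zv h) x.1 hd (sg_mul_ne h F hx hd) hO he he1
    hg hv (pr_mem M x (μ x))

/-- **`T̂`** from a subgroup of odd index in `C_G(n)` which normalises the line -/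
theorem exists_hat {T' : Subgroup G} (hT' : T' ≤ centralizer ({pr M x (μ x)} : Set G))
    (hodd : ¬ 2 ∣ T'.relIndex (centralizer ({pr M x (μ x)} : Set G)))
    (ht : ∀ t ∈ T', t * pr M x (x.1, 0) * t⁻¹ = pr M x (x.1, 0) ∨
      t * pr M x (x.1, 0) * t⁻¹ = pr M x (x.1, 0) * pr M x (μ x)) :
    ∃ T : Subgroup G, tn S M μ x ≤ T ∧ IsPGroup 2 T ∧ T ≤ normalizer (ln (h.line3 (h.tri F hx)) : Set G) ∧
      T ≤ centralizer ({pr M x (μ x)} : Set G) ∧ ¬ 2 ∣ T.relIndex (centralizer ({pr M x (μ x)} : Set G)) := by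
  have t3 := h.tri F hx
  have h1 : T' ≤ centralizer ({pr M x (μ x)} : Set G) ⊓ normalizer (ln (h.line3 t3) : Set G) := by
    refine le_inf hT' fun t htT => BTwo.mem_normalizer_of_conj ?_
    have e0 : t * pr M x (μ x) * t⁻¹ = pr M x (μ x) := by
      rw [mem_centralizer_singleton_iff.1 (hT' htT), mul_inv_cancel_right]
    have aa := (h.line3 t3).aa
    have m0 : pr M x (μ x) ∈ ln (h.line3 t3) := (h.line3 t3).dd_mem 0
    have m1 : pr M x (x.1, 0) ∈ ln (h.line3 t3) := (h.line3 t3).dd_mem 1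
    have e1 : t * pr M x (x.1, 0) * t⁻¹ ∈ ln (h.line3 t3) := by
      rcases ht t htT with e | e
      · rw [e]; exact m1
      · rw [e]; exact mul_mem m1 m0
    rintro y (rfl | ⟨i, rfl⟩)
    · rw [mul_one, mul_inv_cancel]; exact one_mem _
    · fin_cases i
      · change t * pr M x (μ x) * t⁻¹ ∈ _
        rw [e0]; exact m0
      · exact e1
      · change t * (pr M x (μ x) * pr M x (x.1, 0)) * t⁻¹ ∈ _
        have e2 : t * (pr M x (μ x) * pr M x (x.1, 0)) * t⁻¹ =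
            (t * pr M x (μ x) * t⁻¹) * (t * pr M x (x.1, 0) * t⁻¹) := by group
        rw [e2, e0]
        exact mul_mem m0 e1
  obtain ⟨T, hT1, hT2, hT3, hT4⟩ := HT.exists_syl (S := tn S M μ x)
    (P := centralizer ({pr M x (μ x)} : Set G) ⊓ normalizer (ln (h.line3 t3) : Set G)) Fr.tn_p
    (le_inf inf_le_right (h.tn_norm F hx))
  refine ⟨T, hT1, hT3, hT2.trans inf_le_right, hT2.trans inf_le_left, fun hd => ?_⟩
  rw [← relIndex_mul_relIndex _ _ _ hT2 inf_le_left] at hd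
  rcases (Nat.Prime.dvd_mul Nat.prime_two).1 hd with h2 | h2
  · exact hT4 h2
  · apply hodd
    rw [← relIndex_mul_relIndex _ _ _ h1 inf_le_left]
    exact h2.mul_left _

/-- **The end over `T̂`.** -/
theorem exists_pos {T : Subgroup G} (hTT : tn S M μ x ≤ T)
    (b : HT.HTT T (T ⊔ h.X3 (h.tri F hx)) (ln (h.line3 (h.tri F hx))) (pts (pr M x (μ x)) (pr M x (x.1, 0))) 0)
    (h1 : HT.OtCore.OtD T (ln (h.line3 (h.tri F hx))) (XX (ln (h.line3 (h.tri F hx)))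
      (pts (pr M x (μ x)) (pr M x (x.1, 0)))) (pr M x (μ x)))
    (hLE : ∀ i, HTwo.ThmA.LE (ln (h.line3 (h.tri F hx))) (pts (pr M x (μ x)) (pr M x (x.1, 0))) i)
    (hy : ∀ d ∈ DD M, (∀ s ∈ tn S M μ x, s * d = d * s) →
      HT.Sig (ln (h.line3 (h.tri F hx))) (pts (pr M x (μ x)) (pr M x (x.1, 0))) 0
        ((sg h.toSit x.1).val * pr M x (μ x) * d) →
      HT.Main.YV (ln (h.line3 (h.tri F hx))) (pr M x (μ x)) ((sg h.toSit x.1).val * pr M x (μ x) * d))
    (h4 : 4 ≤ Nat.card (zc (S : Subgroup G))) :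
    ∃ S' : Sylow 2 G, (S' : Subgroup G) = T ∧ ∃ (P' V' : Subgroup G) (κ : Type u) (R' : κ → Subgroup G) (o' : κ)
      (r z : G), HTwo.Entry.Pos S' P' V' R' o' r z := by
  have hr : ∀ y, y ∈ pts (pr M x (μ x)) (pr M x (x.1, 0)) 0 ↔ y = 1 ∨ y = pr M x (μ x) := fun _ =>
    (h.line3 (h.tri F hx)).mem_pts
  have h0 := HT.EndCore.main b hLE hr h1 fun _ c hc hs => by
    obtain ⟨d, hd, hdT, e⟩ := h.sig_eq F hx (zv h) (h.Z0_le F hx hTT hc) hs
    have hc1 : c ≠ 1 := by rw [e]; exact h.zst_ne' F hx hd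
    refine ⟨c, hc, hc1, Or.inr rfl, ?_⟩
    exact HT.AlphaY.not_alpha b hr hLE hc hc1 (HT.Main.gsys_of_core b hr hc hc1 (HT.EndCore.core b hr h1 hc))
      (by rw [e]; exact hy d hd hdT (by rw [← e]; exact hs))
  obtain ⟨S', hS'⟩ := HT.SylExit.exists_sylow b h0 S h4
  refine ⟨S', hS', ?_⟩
  subst hS'
  obtain ⟨κ, R', o', r, z, hp⟩ := HT.SylExit.exists_pos.{u, 0, u} b S h4
  exact ⟨_, _, κ, R', o', r, z, hp⟩

/-- **The end over `T̂`**, `D ≠ 1`. -/
theorem exists_pos' (hD : D ≠ ⊥) (hk : 2 ≤ k ∨ 3 ≤ m) (h4 : 4 ≤ Nat.card (zc (S : Subgroup G))) {T : Subgroup G}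
    (hTT : tn S M μ x ≤ T) (hTp : IsPGroup 2 T) (hTN : T ≤ normalizer (ln (h.line3 (h.tri F hx)) : Set G))
    (hTa : T ≤ centralizer ({pr M x (μ x)} : Set G))
    (syl : ¬ 2 ∣ T.relIndex (centralizer ({pr M x (μ x)} : Set G))) :
    ∃ S' : Sylow 2 G, (S' : Subgroup G) = T ∧ ∃ (P' V' : Subgroup G) (κ : Type u) (R' : κ → Subgroup G) (o' : κ)
      (r z : G), HTwo.Entry.Pos S' P' V' R' o' r z := by
  obtain ⟨⟨e, he⟩, he1⟩ := Subgroup.ne_bot_iff_exists_ne_one.1 hD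
  have he1' : e ≠ 1 := fun h0 => he1 (Subtype.ext h0)
  refine exists_pos h F hx hTT (h.httT F hx hTT (zv h) hTp hTN hTa syl) (h.otD F hx hTT (zv h) hTp hTN hTa syl)
    (fun j => LEHat.le_hat h F hx (zv h) hk hTT hTp hTN hTa syl j) (fun d hd hdT hs => ?_) h4
  rcases Nat.lt_or_ge 2 m with h3 | h3
  · exact yv_three h F hx h3 hd
  · exact yv_two h F hx (le_antisymm h3 h.hm) hd hdT hs (D_le_DD h he) he1'

end Cfsg.Agent.Omega.IId.SymWrD.Ht.HatEnd

end

-- merged: Cfsg.Agent.Mrg.Omega.IId.SwCv.TT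
section

/-!
# II.d, `SwCv K`: `SwTT K` (bb OMEGA #21666, #22558 (5))

* `swTT_of_hat` : `SwTT K` from `PosExit` and `ExHat` (SYL^);
* `swCv_of_hat` : `SwCv K` from `PosExit`, `ExHat` and the unmixed sockets.
-/

set_option autoImplicit false
set_option linter.unusedSectionVars false

namespace Cfsg.Agent.Omega.IId.SwCvC

open Subgroup Pointwise Cfsg
open Cfsg.Agent.ZN (o2 zc zl)
open Cfsg.Agent.Omega.MinPar Cfsg.Agent.Omega.Frame Cfsg.Agent.Omega.FFThm Cfsg.Agent.Omega.FrameMulti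
open Cfsg.Agent.Omega.FrameFF (cv)
open Cfsg.Agent.Omega.Half.SymA (Pt)
open Cfsg.Agent.Omega.IId.SwCv (Lb FOne)
open Cfsg.Agent.Omega.F4Leaf.Cen.Main (PosExit)

universe u

/-- **`SwTT K`** from SYL^ -/
theorem swTT_of_hat {K : Cls.{u}} (hX : PosExit.{u}) (hS : ExHat.{u}) : SwTT K := by
  intro G _ _ S hH P k m M ε hL hk hm _ _ hD h
  obtain ⟨μ, ν, F⟩ := SymWrD.exists_fours h.toSit
  obtain ⟨c, -, hc⟩ := Half.SymA.exists_third h.hm1 0 0
  obtain ⟨x, hx⟩ : ∃ x : Pt k m, x.2 ≠ 0 := ⟨(⟨0, h.hk⟩, c), hc⟩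
  have h4 := four_le_zc hL (by omega : 0 < k) hD
  obtain ⟨T', hT', hodd, ht⟩ := hS G S P hL.A (cv (S : Subgroup G) P) k m hL.toBot (SymWrD.Hw.Fw.of_fr h) μ ν F x hx
    (SymWrD.Ht.HatEnd.zv h) h4
  obtain ⟨T, hTT, hTp, hTN, hTa, syl⟩ := SymWrD.Ht.HatEnd.exists_hat h F hx hT' hodd ht
  obtain ⟨S', -, P', V', κ, R', o', r, z, hp⟩ :=
    SymWrD.Ht.HatEnd.exists_pos' h F hx hD (Or.inl hk) h4 hTT hTp hTN hTa syl
  have hH' := hH.conj S'
  exact hX G hH'.ctx S' hH'.full hH'.allIn P' V' κ R' o' r z hp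

/-- **`SwCv K`** from SYL^ -/
theorem swCv_of_hat {K : Cls.{u}} (hX : PosExit.{u}) (hS : ExHat.{u}) (hPair : Cv.TTPair K) (hU : NatUn K)
    (hFr : FreeFour K) : SwCv K :=
  swCv_of'' (swTT_of_hat hX hS) (sylHat_of_fw hS) hPair hU hFr

end Cfsg.Agent.Omega.IId.SwCvC

end

-- merged: Cfsg.Agent.Mrg.Omega.IId.SwCv.SylHatFin
section

section


/-!
# II.d, `SwCv K`: `SylHat`, `SwMixW K` are theorems (helper79; SYL^: helper916, helper48; MIX-W: helper48)
-/

set_option autoImplicit false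

namespace Cfsg.Agent.Omega.IId.SwCvC

open Subgroup Cfsg
open Cfsg.Agent.ZN.ChoiceBase hiding mem_zc
open Cfsg.Agent.Omega.MinPar Cfsg.Agent.Omega.Frame Cfsg.Agent.Omega.FFThm Cfsg.Agent.Omega.FrameMulti
open Cfsg.Agent.Omega.FrameFF (cv)

universe u

/-- **THEOREM SYL^** (helper916, helper48). -/
theorem exHat : ExHat.{u} := by
  intro G _ _ S P V D k m M h μ ν F x hx zv h4
  obtain ⟨T, -, -, -, hT, hodd, ht⟩ := h.exists_hat F hx zv h4
  exact ⟨T, hT, hodd, ht⟩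

end Cfsg.Agent.Omega.IId.SwCvC

end

section


/-!
# II.d, `SwCv K`: case T-T modulo `PosExit` (plug over TT.lean (774) and SylHatFin.lean (79))

* `swTT : PosExit → SwTT K`; `swCv : PosExit → TTPair K → NatUn K → FreeFour K → SwCv K`.
-/

set_option autoImplicit false

namespace Cfsg.Agent.Omega.IId.SwCvC

open Subgroup Pointwise Cfsg
open Cfsg.Agent.ZN (o2 zc zl)
open Cfsg.Agent.Omega.MinPar Cfsg.Agent.Omega.Frame Cfsg.Agent.Omega.FFThm Cfsg.Agent.Omega.FrameMulti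
open Cfsg.Agent.Omega.F4Leaf.Cen.Main (PosExit)

universe u

theorem swCv {K : Cls.{u}} (hX : PosExit.{u}) (hPair : Cv.TTPair K) (hU : NatUn K) (hFr : FreeFour K) : SwCv K :=
  swCv_of_hat hX exHat hPair hU hFr

end Cfsg.Agent.Omega.IId.SwCvC

end

end

private theorem dce_640690ff0b3f : _root_.True := by
  try have : _root_.True := by simp only [_root_.Cfsg.Agent.Omega.IId.SwCv.Lb.toBot.congr_simp]
  try have : _root_.True := by simp only [_root_.Cfsg.Agent.Omega.HT.LineOf.dd.eq_1]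
  exact _root_.True.intro
end
end
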